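import Cfsg.Agent.Lib.FlavellHHS.BarBasic
import Cfsg.Agent.Lib.FlavellFpf.SpaceTools
import Cfsg.Agent.Lib.FlavellFpf.M1Conj

/-!
The central quotient of a minimal counterexample together with the quadratic space of `T` and the
relation `κ` of commuting lifts.
-/

set_option autoImplicit false
set_option linter.unusedSectionVars false

namespace CfsgLib.FlavellHHS

open Subgroup CfsgLib.CoprimeCentral CfsgLib.FlavellFpf
open scoped commutatorElement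

universe u v w

/-- The central quotient with the space of `T`: `π : T → M` has kernel `W`, `ω : Zc → W` has kernel
`Zs`, and `κ x y` says that lifts of `x` and `y` commute. -/
structure Bar (G : Type u) [Group G] [Finite G] (M : Type v) [AddCommGroup M] (Zc : Type w) [AddCommGroup Zc]
    (p r : ℕ) extends Bar0 G p r where
  Sp : Space M Zc
  hrn : r = 2 ^ Sp.n + 1
  π : G → M
  ω : Zc → G
  hπ_mul : ∀ s ∈ toBar0.T, ∀ t ∈ toBar0.T, π (s * t) = π s + π t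
  hπ_surj : ∀ m, ∃ t ∈ toBar0.T, π t = m
  hπ_zero : ∀ t ∈ toBar0.T, π t = 0 ↔ α t = t
  hπα : ∀ t ∈ toBar0.T, π (α t) = Sp.a (π t)
  hω_mul : ∀ z z', ω (z + z') = ω z * ω z'
  hω_mem : ∀ z, ω z ∈ toBar0.W
  hω_surj : ∀ x ∈ toBar0.W, ∃ z, ω z = x
  hω_one : ∀ z, ω z = 1 ↔ z ∈ Sp.Zs
  hcomm : ∀ s ∈ toBar0.T, ∀ t ∈ toBar0.T, s * t = ω (Sp.B (π s) (π t)) * (t * s)
  hsq : ∀ t ∈ toBar0.T, t * t = ω (Sp.Qf (π t))
  gM : G → AddMonoid.End M
  gZ : G → AddMonoid.End Zc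
  hgM : ∀ c ∈ toBar0.X, α c = c → ∀ t ∈ toBar0.T, π (c * t * c⁻¹) = gM c (π t)
  hgZ : ∀ c ∈ toBar0.X, α c = c → ∀ z, c * ω z * c⁻¹ = ω (gZ c z)
  hB : ∀ c ∈ toBar0.X, α c = c → ∀ x y, gZ c (Sp.B x y) = Sp.B (gM c x) (gM c y)
  hQ : ∀ c ∈ toBar0.X, α c = c → ∀ x, gZ c (Sp.Qf x) = Sp.Qf (gM c x)
  hfixZs : ∀ c ∈ toBar0.X, α c = c → ∀ z ∈ Sp.Zs, gZ c z = z
  κ : G → G → Prop
  κ_conj : ∀ g x y, κ x y → κ (g * x * g⁻¹) (g * y * g⁻¹)
  κ_symm : ∀ x y, κ x y → κ y x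
  κ_T : ∀ s ∈ toBar0.T, ∀ t ∈ toBar0.T, κ s t ↔ Sp.B (π s) (π t) = 0
  κ_ω : ∀ c ∈ toBar0.X, α c = c → ∀ z, κ c (ω z) ↔ gZ c z = z
  κ_Tω : ∀ t ∈ toBar0.T, ∀ z, κ t (ω z)
  κ_mul : ∀ x y z, κ y z → (κ (x * y) z ↔ κ x z)
  κ_triv : ∀ c ∈ toBar0.X, α c = c → gM c = 1 → ∀ t ∈ toBar0.T, κ c t

namespace Bar

variable {G : Type u} [Group G] [Finite G] {M : Type v} [AddCommGroup M] [Finite M] {Zc : Type w}
  [AddCommGroup Zc] [Finite Zc] {p r : ℕ} (D : Bar G M Zc p r)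

theorem π_one : D.π 1 = 0 := (D.hπ_zero 1 D.T.one_mem).2 (map_one _)

theorem π_inv {t : G} (ht : t ∈ D.T) : D.π t⁻¹ = D.π t := by
  have h := D.hπ_mul t⁻¹ (D.T.inv_mem ht) t ht
  rw [inv_mul_cancel, D.π_one] at h
  exact ((D.Sp.madd_eq_zero_iff).1 h.symm)

theorem π_W {x : G} (hx : x ∈ D.W) : D.π x = 0 := (D.hπ_zero x hx.1).2 hx.2

theorem mem_W_of_π {t : G} (ht : t ∈ D.T) (h : D.π t = 0) : t ∈ D.W := ⟨ht, (D.hπ_zero t ht).1 h⟩

theorem π_eq_iff {s t : G} (hs : s ∈ D.T) (ht : t ∈ D.T) : D.π s = D.π t ↔ s⁻¹ * t ∈ D.W := by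
  rw [← D.Sp.madd_eq_zero_iff, ← D.π_inv hs, ← D.hπ_mul _ (D.T.inv_mem hs) _ ht]
  exact ⟨D.mem_W_of_π (D.T.mul_mem (D.T.inv_mem hs) ht), D.π_W⟩

theorem ω_zero : D.ω 0 = 1 := (D.hω_one 0).2 D.Sp.Zs.zero_mem

theorem ω_sq (z : Zc) : D.ω z * D.ω z = 1 := by rw [← D.hω_mul, D.Sp.hZ2, D.ω_zero]

theorem ω_inv (z : Zc) : (D.ω z)⁻¹ = D.ω z := inv_eq_of_mul_eq_one_right (D.ω_sq z)

theorem W_inv {x : G} (hx : x ∈ D.W) : x⁻¹ = x := by
  obtain ⟨z, rfl⟩ := D.hω_surj x hx; exact D.ω_inv z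

theorem W_central {x t : G} (hx : x ∈ D.W) (ht : t ∈ D.T) : x * t = t * x := by
  rw [D.hcomm x hx.1 t ht, D.π_W hx, map_zero, AddMonoidHom.zero_apply, D.ω_zero, one_mul]

theorem W_comm {x y : G} (hx : x ∈ D.W) (hy : y ∈ D.W) : x * y = y * x := D.W_central hx hy.1

theorem ω_eq_iff {z z' : Zc} : D.ω z = D.ω z' ↔ z + z' ∈ D.Sp.Zs := by
  rw [← D.hω_one, D.hω_mul, mul_eq_one_iff_eq_inv, D.ω_inv]

theorem commute_T_iff {s t : G} (hs : s ∈ D.T) (ht : t ∈ D.T) :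
    s * t = t * s ↔ D.Sp.B (D.π s) (D.π t) ∈ D.Sp.Zs := by
  rw [D.hcomm s hs t ht, mul_eq_right, D.hω_one]

theorem sq_mem_W {t : G} (ht : t ∈ D.T) : t * t ∈ D.W := D.hsq t ht ▸ D.hω_mem _

theorem sq_eq_one_iff {t : G} (ht : t ∈ D.T) : t * t = 1 ↔ D.Sp.Qf (D.π t) ∈ D.Sp.Zs := by
  rw [D.hsq t ht, D.hω_one]

theorem conj_mem_T {x t : G} (hx : x ∈ D.X) (ht : t ∈ D.T) : x * t * x⁻¹ ∈ D.T :=
  (mem_normalizer_iff.1 (D.X_le_NT hx) t).1 ht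

theorem conj_T_W {t x : G} (ht : t ∈ D.T) (hx : x ∈ D.W) : t * x * t⁻¹ = x := by
  rw [← D.W_central hx ht, mul_inv_cancel_right]

theorem fixed_conj_mem_W {c x : G} (hcX : c ∈ D.X) (hc : D.α c = c) (hx : x ∈ D.W) :
    c * x * c⁻¹ ∈ D.W := by
  refine ⟨D.conj_mem_T hcX hx.1, ?_⟩
  show D.α (c * x * c⁻¹) = c * x * c⁻¹
  have hxf : D.α x = x := hx.2
  rw [map_mul, map_mul, map_inv, hc, hxf]

theorem conj_mem_W {g x : G} (hg : g ∈ D.X) (hx : x ∈ D.W) : g * x * g⁻¹ ∈ D.W := by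
  obtain ⟨t, ht, c, hcX, hc, rfl⟩ := D.exists_eq_T_mul hg
  have h := D.fixed_conj_mem_W hcX hc hx
  rwa [show t * c * x * (t * c)⁻¹ = t * (c * x * c⁻¹) * t⁻¹ by group, D.conj_T_W ht h]

theorem comm_mem_W {g x : G} (hg : g ∈ D.X) (hx : x ∈ D.W) : g * x * g⁻¹ * x⁻¹ ∈ D.W :=
  D.W.mul_mem (D.conj_mem_W hg hx) (D.W.inv_mem hx)

include D in
theorem center_eq_bot : center G = ⊥ :=
  (D.hnorm _ inferInstance (characteristic_iff_map_eq.1 inferInstance D.α)).resolve_right fun h =>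
    D.hna fun x y => mem_center_iff.1 (h.symm.le (mem_top y)) x

/-- A fixed element with a fixed point `m` centralizes some preimage of `m`. -/
theorem exists_lift {c : G} (hcX : c ∈ D.X) (hc : D.α c = c) {m : M} (hm : D.gM c m = m) :
    ∃ t ∈ D.T, D.π t = m ∧ c * t * c⁻¹ = t ∧
      ∃ n ∈ D.T, D.gM c (D.π n) = D.π n ∧ t = n⁻¹ * D.α n := by
  classical
  let F : AddSubgroup M :=
    { carrier := {x | D.gM c x = x}
      add_mem' := fun {x y} hx hy => by show D.gM c (x + y) = x + y; rw [map_add, hx, hy]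
      zero_mem' := map_zero _
      neg_mem' := fun {x} hx => by show D.gM c (-x) = -x; rw [map_neg, hx] }
  have hFa : ∀ x ∈ F, D.Sp.a x ∈ F := by
    intro x hx
    obtain ⟨t, ht, rfl⟩ := D.hπ_surj x
    show D.gM c (D.Sp.a (D.π t)) = D.Sp.a (D.π t)
    rw [← D.hπα t ht, ← D.hgM c hcX hc _ (D.T_inv.apply_mem ht)]
    have e : c * D.α t * c⁻¹ = D.α (c * t * c⁻¹) := by rw [map_mul, map_mul, map_inv, hc]
    rw [e, D.hπα _ (D.conj_mem_T hcX ht), D.hgM c hcX hc t ht, hx, D.hπα t ht]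
  let f : F → F := fun x => ⟨(x : M) + D.Sp.a x, F.add_mem x.2 (hFa x x.2)⟩
  have hinj : Function.Injective f := by
    intro x y h
    have h' : (x : M) + D.Sp.a x = (y : M) + D.Sp.a y := congrArg Subtype.val h
    refine Subtype.ext ((D.Sp.madd_eq_zero_iff).1 (D.Sp.hfix _ ?_))
    rw [map_add, ← D.Sp.madd_eq_zero_iff]
    calc D.Sp.a x + D.Sp.a y + ((x : M) + y) = ((x : M) + D.Sp.a x) + ((y : M) + D.Sp.a y) := by abel
      _ = 0 := by rw [h', D.Sp.hM2]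
  obtain ⟨⟨m', hm'⟩, hmm⟩ := (Finite.injective_iff_surjective.1 hinj) ⟨m, hm⟩
  obtain ⟨n, hn, hπn⟩ := D.hπ_surj m'
  have hnT := D.T.inv_mem hn
  have hαn := D.T_inv.apply_mem hn
  refine ⟨n⁻¹ * D.α n, D.T.mul_mem hnT hαn, ?_, ?_, n, hn, hπn.symm ▸ hm', rfl⟩
  · rw [D.hπ_mul _ hnT _ hαn, D.π_inv hn, D.hπα n hn, hπn]
    exact congrArg Subtype.val hmm
  · have hw : n⁻¹ * (c * n * c⁻¹) ∈ D.W := (D.π_eq_iff hn (D.conj_mem_T hcX hn)).1 (by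
      rw [D.hgM c hcX hc n hn, hπn]; exact hm'.symm)
    set w := n⁻¹ * (c * n * c⁻¹) with hwdef
    have e : c * n * c⁻¹ = n * w := by rw [hwdef]; group
    calc c * (n⁻¹ * D.α n) * c⁻¹ = (c * n * c⁻¹)⁻¹ * D.α (c * n * c⁻¹) := by
          rw [map_mul, map_mul, map_inv, hc]; group
      _ = w⁻¹ * (n⁻¹ * D.α n) * w := by
          have hwf : D.α w = w := hw.2
          rw [e, map_mul, hwf]; group
      _ = n⁻¹ * D.α n := by
          rw [mul_assoc, ← D.W_central hw (D.T.mul_mem hnT hαn), inv_mul_cancel_left]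

theorem gM_mul {c d : G} (hcX : c ∈ D.X) (hc : D.α c = c) (hdX : d ∈ D.X) (hd : D.α d = d) (m : M) :
    D.gM (c * d) m = D.gM c (D.gM d m) := by
  obtain ⟨t, ht, rfl⟩ := D.hπ_surj m
  rw [← D.hgM d hdX hd t ht, ← D.hgM c hcX hc _ (D.conj_mem_T hdX ht),
    ← D.hgM (c * d) (mul_mem hcX hdX) (by rw [map_mul, hc, hd]) t ht]
  congr 1; group

theorem W_mem_X {x : G} (hx : x ∈ D.W) : x ∈ D.X := D.T_le_X hx.1

theorem gM_W {x : G} (hx : x ∈ D.W) : D.gM x = 1 := by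
  refine DFunLike.ext _ _ fun m => ?_
  obtain ⟨t, ht, rfl⟩ := D.hπ_surj m
  rw [← D.hgM x (D.W_mem_X hx) hx.2 t ht, D.W_central hx ht, mul_inv_cancel_right]
  rfl

theorem gM_a {c : G} (hcX : c ∈ D.X) (hc : D.α c = c) (m : M) : D.gM c (D.Sp.a m) = D.Sp.a (D.gM c m) := by
  obtain ⟨t, ht, rfl⟩ := D.hπ_surj m
  rw [← D.hπα t ht, ← D.hgM c hcX hc _ (D.T_inv.apply_mem ht), ← D.hgM c hcX hc t ht,
    ← D.hπα _ (D.conj_mem_T hcX ht)]
  rw [map_mul, map_mul, map_inv, hc]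

/-- The image of `1 + c`. -/
def Pim (c : G) : AddSubgroup M := (D.gM c + 1 : AddMonoid.End M).range

theorem mem_Pim {c : G} {x : M} : x ∈ D.Pim c ↔ ∃ m, D.gM c m + m = x := Iff.rfl

theorem Pim_inv {c : G} (hcX : c ∈ D.X) (hc : D.α c = c) : D.Sp.AInv (D.Pim c) := by
  rintro _ ⟨m, rfl⟩
  exact D.mem_Pim.2 ⟨D.Sp.a m, by rw [D.gM_a hcX hc, ← map_add]; rfl⟩

/-- `c` centralizes `W`. -/
def CentW (c : G) : Prop := ∀ x ∈ D.W, c * x * c⁻¹ = x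

theorem gZ_mem {c : G} (hcX : c ∈ D.X) (hc : D.α c = c) (hW : D.CentW c) (z : Zc) :
    D.gZ c z + z ∈ D.Sp.Zs := by
  rw [← D.ω_eq_iff, ← D.hgZ c hcX hc, hW _ (D.hω_mem z)]

/-- An involutory `c` centralizing `W` has an isotropic image. -/
theorem Pim_iso {c : G} (hcX : c ∈ D.X) (hc : D.α c = c) (hW : D.CentW c)
    (h2 : ∀ m, D.gM c (D.gM c m) = m) : ∀ x ∈ D.Pim c, ∀ y ∈ D.Pim c, D.Sp.B x y ∈ D.Sp.Zs := by
  rintro _ ⟨m, rfl⟩ _ ⟨n, rfl⟩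
  show D.Sp.B (D.gM c m + m) (D.gM c n + n) ∈ D.Sp.Zs
  have h1 := D.gZ_mem hcX hc hW (D.Sp.B m n)
  have h3 := D.gZ_mem hcX hc hW (D.Sp.B (D.gM c m) n)
  rw [D.hB c hcX hc] at h1 h3
  rw [h2] at h3
  have := D.Sp.Zs.add_mem h1 h3
  simp only [map_add, AddMonoidHom.add_apply]
  convert this using 1
  abel

theorem mem_Pim_of_fixed {c : G} (hcX : c ∈ D.X) (hc : D.α c = c) (hW : D.CentW c)
    (h2 : ∀ m, D.gM c (D.gM c m) = m) (hne : D.gM c ≠ 1) {x : M} (hx : D.gM c x = x) : x ∈ D.Pim c := by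
  have hP : D.Pim c ≠ ⊥ := fun e => hne (DFunLike.ext _ _ fun m =>
    (D.Sp.madd_eq_zero_iff).1 (AddSubgroup.mem_bot.1 (e.le (D.mem_Pim.2 ⟨m, rfl⟩))))
  refine D.Sp.orth (D.Pim_inv hcX hc) hP (D.Pim_iso hcX hc hW h2) fun e he => ?_
  obtain ⟨m, rfl⟩ := he
  show D.Sp.B x (D.gM c m + m) ∈ D.Sp.Zs
  have := D.gZ_mem hcX hc hW (D.Sp.B x m)
  rw [D.hB c hcX hc, hx] at this
  rwa [map_add]

/-- An element centralizing `W` centralizes the preimage of its fixed points. -/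
theorem comm_of_fixed {c t : G} (hcX : c ∈ D.X) (hc : D.α c = c) (hW : D.CentW c) (ht : t ∈ D.T)
    (hfix : D.gM c (D.π t) = D.π t) : c * t * c⁻¹ = t := by
  obtain ⟨s, hs, hπs, hcs, -⟩ := D.exists_lift hcX hc hfix
  have hw := (D.π_eq_iff hs ht).1 hπs
  calc c * t * c⁻¹ = (c * s * c⁻¹) * (c * (s⁻¹ * t) * c⁻¹) := by group
    _ = s * (s⁻¹ * t) := by rw [hcs, hW _ hw]
    _ = t := mul_inv_cancel_left s t

theorem gZ_of_gM {c : G} (hcX : c ∈ D.X) (hc : D.α c = c) (h1 : D.gM c = 1) (z : Zc) : D.gZ c z = z :=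
  (D.κ_ω c hcX hc z).1 (D.κ_triv c hcX hc h1 _ (D.hω_mem z).1)

theorem centW_of_gM {c : G} (hcX : c ∈ D.X) (hc : D.α c = c) (h1 : D.gM c = 1) : D.CentW c := by
  intro x hx
  obtain ⟨z, rfl⟩ := D.hω_surj x hx
  rw [D.hgZ c hcX hc, D.gZ_of_gM hcX hc h1]

theorem cent_T_of_gM {c t : G} (hcX : c ∈ D.X) (hc : D.α c = c) (h1 : D.gM c = 1) (ht : t ∈ D.T) :
    c * t * c⁻¹ = t :=
  D.comm_of_fixed hcX hc (D.centW_of_gM hcX hc h1) ht (by rw [h1]; rfl)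

theorem commute_q_iff {q c t : G} (hq : q ∈ D.T) (ht : t ∈ D.T) (hct : c * t * c⁻¹ = t) :
    q * c * t = t * (q * c) ↔ D.Sp.B (D.π q) (D.π t) ∈ D.Sp.Zs := by
  rw [← D.commute_T_iff hq ht, mul_assoc, mul_inv_eq_iff_eq_mul.1 hct, ← mul_assoc, ← mul_assoc,
    mul_left_inj]

/-- Two equal products of an element of `T` and a fixed element. -/
theorem π_unique {A A' d d' : G} (hA : A ∈ D.T) (hA' : A' ∈ D.T) (hd : D.α d = d) (hd' : D.α d' = d')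
    (h : A * d = A' * d') : D.π A = D.π A' ∧ A⁻¹ * A' ∈ D.W := by
  have e : A⁻¹ * A' = d * d'⁻¹ := by
    calc A⁻¹ * A' = A⁻¹ * (A' * d') * d'⁻¹ := by group
      _ = _ := by rw [← h]; group
  have hW : A⁻¹ * A' ∈ D.W := ⟨D.T.mul_mem (D.T.inv_mem hA) hA', show D.α (A⁻¹ * A') = A⁻¹ * A' by
    rw [e, map_mul, map_inv, hd, hd']⟩
  exact ⟨(D.π_eq_iff hA hA').2 hW, hW⟩

theorem gM_unique {A A' d d' : G} (hA : A ∈ D.T) (hA' : A' ∈ D.T) (hdX : d ∈ D.X) (hd : D.α d = d)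
    (hd'X : d' ∈ D.X) (hd' : D.α d' = d') (h : A * d = A' * d') : D.gM d = D.gM d' := by
  obtain ⟨-, hW⟩ := D.π_unique hA hA' hd hd' h
  have e : d = (A⁻¹ * A') * d' := by
    calc d = A⁻¹ * (A * d) := by group
      _ = _ := by rw [h]; group
  refine DFunLike.ext _ _ fun m => ?_
  rw [e, D.gM_mul (D.W_mem_X hW) hW.2 hd'X hd', D.gM_W hW]
  rfl

theorem comm_π {q c q' c' : G} (hq : q ∈ D.T) (hcX : c ∈ D.X) (hc : D.α c = c) (hq' : q' ∈ D.T)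
    (hc'X : c' ∈ D.X) (hc' : D.α c' = c') (h : q * c * (q' * c') = q' * c' * (q * c)) :
    D.π q + D.gM c (D.π q') = D.π q' + D.gM c' (D.π q) := by
  have h1 : q * (c * q' * c⁻¹) * (c * c') = q' * (c' * q * c'⁻¹) * (c' * c) := by
    calc q * (c * q' * c⁻¹) * (c * c') = q * c * (q' * c') := by group
      _ = _ := by rw [h]; group
  have hcq := D.conj_mem_T hcX hq'
  have hcq' := D.conj_mem_T hc'X hq
  have h2 := (D.π_unique (D.T.mul_mem hq hcq) (D.T.mul_mem hq' hcq') (by rw [map_mul, hc, hc'])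
    (by rw [map_mul, hc, hc']) h1).1
  rwa [D.hπ_mul q hq _ hcq, D.hπ_mul q' hq' _ hcq', D.hgM c hcX hc q' hq', D.hgM c' hc'X hc' q hq] at h2

theorem sq_dec {q c : G} (hq : q ∈ D.T) (hcX : c ∈ D.X) (hc : D.α c = c) (h : q * c * (q * c) = 1) :
    (∀ m, D.gM c (D.gM c m) = m) ∧ D.gM c (D.π q) = D.π q := by
  have h1 : q * (c * q * c⁻¹) * (c * c) = 1 * 1 := by rw [mul_one, ← h]; group
  have hcq := D.conj_mem_T hcX hq
  have hcc : D.α (c * c) = c * c := by rw [map_mul, hc]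
  obtain ⟨h2, -⟩ := D.π_unique (D.T.mul_mem hq hcq) D.T.one_mem hcc (map_one _) h1
  have h3 := D.gM_unique (D.T.mul_mem hq hcq) D.T.one_mem (mul_mem hcX hcX) hcc D.X.one_mem (map_one _) h1
  rw [D.gM_W D.W.one_mem] at h3
  refine ⟨fun m => by rw [← D.gM_mul hcX hc hcX hc, h3]; rfl, ?_⟩
  rw [D.hπ_mul q hq _ hcq, D.hgM c hcX hc q hq, D.π_one] at h2
  exact ((D.Sp.madd_eq_zero_iff).1 h2).symm

theorem gM_pow {c : G} (hcX : c ∈ D.X) (hc : D.α c = c) :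
    ∀ j : ℕ, D.gM c ^ j = D.gM (c ^ j) := by
  intro j
  induction j with
  | zero => rw [pow_zero, pow_zero, D.gM_W D.W.one_mem]
  | succ j ih =>
    refine DFunLike.ext _ _ fun m => ?_
    rw [pow_succ, pow_succ, AddMonoid.End.coe_mul, Function.comp_apply, ih,
      D.gM_mul (pow_mem hcX j) (by rw [map_pow, hc]) hcX hc]

/-- A fixed element of odd order centralizing `W` centralizes `T`. -/
theorem cent_T_of_odd {c : G} (hcX : c ∈ D.X) (hc : D.α c = c) (hW : D.CentW c) {m : ℕ} (hm : Odd m)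
    (hcm : c ^ m = 1) : ∀ t ∈ D.T, c * t * c⁻¹ = t := by
  -- `c` fixes all values of the form
  have hval : ∀ x y, D.gZ c (D.Sp.B x y) = D.Sp.B x y := by
    intro x y
    set z := D.Sp.B x y with hz
    set d := D.gZ c z + z with hd
    have hdZ : d ∈ D.Sp.Zs := D.gZ_mem hcX hc hW z
    have hcz : D.gZ c z = z + d := by rw [hd, add_comm (D.gZ c z), ← add_assoc, D.Sp.hZ2, zero_add]
    have hstep : ∀ j : ℕ, D.Sp.B ((D.gM c ^ j) x) ((D.gM c ^ j) y) = z + j • d := by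
      intro j
      induction j with
      | zero => simp [hz]
      | succ j ih =>
        rw [pow_succ', AddMonoid.End.coe_mul, Function.comp_apply, Function.comp_apply, ← D.hB c hcX hc, ih,
          map_add, map_nsmul, D.hfixZs c hcX hc d hdZ, hcz, succ_nsmul', add_assoc]
    have h1 := hstep m
    rw [D.gM_pow hcX hc, hcm, D.gM_W D.W.one_mem] at h1
    obtain ⟨i, rfl⟩ := hm
    have hd2 : (2 * i + 1) • d = d := by
      rw [succ_nsmul, mul_comm, mul_nsmul', two_nsmul, D.Sp.hZ2, nsmul_zero, zero_add]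
    rw [hd2] at h1
    have h2 : d = 0 := left_eq_add.1 h1
    rw [hcz, h2, add_zero]
  -- so it acts trivially on `M`
  have hgM : D.gM c = 1 := by
    refine DFunLike.ext _ _ fun y => (D.Sp.madd_eq_zero_iff).1 (D.Sp.rad_sep fun χ hχ => ?_)
    obtain ⟨x0, y0, hxy⟩ : ∃ x y, χ (D.Sp.B x y) ≠ 0 := by
      by_contra h
      push Not at h
      exact D.Sp.Rad_ne_top hχ ((AddSubgroup.eq_top_iff' _).2 fun x y => h x y)
    have hpres : ∀ x y, χ (D.Sp.B (D.gM c x) (D.gM c y)) = χ (D.Sp.B x y) := fun x y => by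
      rw [← D.hB c hcX hc, hval]
    refine D.Sp.rigid (D.Sp.irr_rad hχ) χ (fun x hx z _ => hx z)
      ⟨x0, AddSubgroup.mem_top _, y0, AddSubgroup.mem_top _, hxy⟩ (D.gM c)
      (DFunLike.ext _ _ fun w => D.gM_a hcX hc w) (fun _ _ => AddSubgroup.mem_top _) ?_
      (fun x _ z _ => hpres x z) (m := orderOf c) ?_ ?_ y (AddSubgroup.mem_top _)
    · intro x hx z
      obtain ⟨w, rfl⟩ : ∃ w, D.gM c w = z := by
        refine ⟨(D.gM c ^ (m - 1)) z, ?_⟩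
        rw [← Function.comp_apply (f := D.gM c), ← AddMonoid.End.coe_mul, ← pow_succ',
          Nat.sub_add_cancel hm.pos, D.gM_pow hcX hc, hcm, D.gM_W D.W.one_mem]
        rfl
      rw [hpres]; exact hx w
    · rw [D.gM_pow hcX hc, pow_orderOf_eq_one, D.gM_W D.W.one_mem]
    · exact fun h => D.hrG (D.hrn ▸ h.trans (orderOf_dvd_natCard c))
  exact fun t ht => D.cent_T_of_gM hcX hc hgM ht

end Bar

end CfsgLib.FlavellHHS
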