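import Cfsg.Agent.Lib.FlavellHHS.Min

/-!
The central quotient `G` of a minimal counterexample, abstractly: the group `T = [Q, α]`, its
normalizer, the group `X = T C_{N(T)}(α)` and the index of the fixed subgroup.
-/

set_option autoImplicit false
set_option linter.unusedSectionVars false

namespace CfsgLib.FlavellHHS

open Subgroup CfsgLib.CoprimeCentral CfsgLib.FlavellFpf
open scoped Pointwise commutatorElement

universe u

variable {G : Type u} [Group G]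

/-- Properties of the central quotient of a minimal counterexample. -/
structure Bar0 (G : Type u) [Group G] (p r : ℕ) where
  hp : p.Prime
  hp2 : p ≠ 2
  hr : r.Prime
  α : MulAut G
  hαr : α ^ r = 1
  hrG : ¬ r ∣ Nat.card G
  hpG : p ∣ Nat.card G
  hmov : moved α (⊤ : Subgroup G) = ⊤
  hIH : ∀ L : Subgroup G, Inv α L → L ≠ ⊤ → PTwo p (moved α L)
  hnorm : ∀ N : Subgroup G, N.Normal → Inv α N → N = ⊥ ∨ N = ⊤
  hna : ¬ ∀ x y : G, x * y = y * x
  hodd : ∀ ℓ : ℕ, ℓ.Prime → ℓ ≠ 2 → ℓ ≠ p → ∀ L : Subgroup G, Inv α L → IsPGroup ℓ L → L ≤ fixedSub α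
  hmoved2 : ∀ L : Subgroup G, Inv α L → ¬ p ∣ Nat.card L → IsPGroup 2 (moved α L)

namespace Bar0

variable [Finite G] {p r : ℕ} (D : Bar0 G p r)

include D in
theorem hp_fact : Fact p.Prime := ⟨D.hp⟩

theorem exists_sylow (ℓ : ℕ) [Fact ℓ.Prime] : ∃ Q : Sylow ℓ G, Inv D.α (Q : Subgroup G) := by
  obtain ⟨Q, -, hQ⟩ := exists_invariant_sylow_ge (p := ℓ) D.hr D.hαr D.hrG ⊥ IsPGroup.of_bot
    (Subgroup.map_bot _)
  exact ⟨Q, hQ⟩

theorem exists_sub (ℓ : ℕ) (hℓ : ℓ.Prime) : ∃ Q : Subgroup G,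
    (∃ S : Sylow ℓ G, (S : Subgroup G) = Q) ∧ Inv D.α Q := by
  have : Fact ℓ.Prime := ⟨hℓ⟩
  obtain ⟨Q, hQ⟩ := D.exists_sylow ℓ
  exact ⟨Q, ⟨Q, rfl⟩, hQ⟩

/-- An invariant Sylow `2`-subgroup. -/
noncomputable def Q : Subgroup G := (D.exists_sub 2 Nat.prime_two).choose

theorem Q_inv : Inv D.α D.Q := (D.exists_sub 2 Nat.prime_two).choose_spec.2

theorem Q_sylow : ∃ S : Sylow 2 G, (S : Subgroup G) = D.Q := (D.exists_sub 2 Nat.prime_two).choose_spec.1

theorem Q_two : IsPGroup 2 D.Q := by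
  obtain ⟨S, hS⟩ := D.Q_sylow; exact hS ▸ S.2

/-- An invariant Sylow `p`-subgroup. -/
noncomputable def P : Subgroup G := (D.exists_sub p D.hp).choose

theorem P_inv : Inv D.α D.P := (D.exists_sub p D.hp).choose_spec.2

theorem P_sylow : ∃ S : Sylow p G, (S : Subgroup G) = D.P := (D.exists_sub p D.hp).choose_spec.1

/-- The index of the fixed part of `P`. -/
noncomputable def pi : ℕ := (D.P ⊓ fixedSub D.α).relIndex D.P

/-- The subgroup `[Q, α]`. -/
noncomputable def T : Subgroup G := moved D.α D.Q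

/-- The normalizer of `T`. -/
noncomputable def NT : Subgroup G := normalizer (D.T : Set G)

/-- `T` with the fixed elements normalizing it. -/
noncomputable def X : Subgroup G := D.T ⊔ (D.NT ⊓ fixedSub D.α)

/-- The fixed part of `T`. -/
noncomputable def W : Subgroup G := D.T ⊓ fixedSub D.α

theorem T_inv : Inv D.α D.T := inv_moved D.Q_inv

theorem T_le_Q : D.T ≤ D.Q := moved_le D.Q_inv

theorem T_two : IsPGroup 2 D.T := D.Q_two.to_le D.T_le_Q

theorem moved_T : moved D.α D.T = D.T := moved_moved D.hr D.hαr D.hrG D.Q_inv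

theorem T_le_NT : D.T ≤ D.NT := Subgroup.le_normalizer

theorem Q_le_NT : D.Q ≤ D.NT := le_normalizer_moved D.Q

theorem NT_inv : Inv D.α D.NT := D.T_inv.normalizer

theorem T_le_X : D.T ≤ D.X := le_sup_left

theorem X_le_NT : D.X ≤ D.NT := sup_le D.T_le_NT inf_le_left

theorem X_inv : Inv D.α D.X := D.T_inv.sup (D.NT_inv.inf inv_fixedSub)

theorem mem_X_of_fixed_NT {c : G} (hN : c ∈ D.NT) (hc : D.α c = c) : c ∈ D.X :=
  mem_sup_right ⟨hN, hc⟩

theorem Q_le_X : D.Q ≤ D.X := (le_moved_sup_fixed D.hr D.hαr D.hrG D.Q_inv).trans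
  (sup_le D.T_le_X fun _ hx => D.mem_X_of_fixed_NT (D.Q_le_NT hx.1) hx.2)

theorem W_le_T : D.W ≤ D.T := inf_le_left

theorem W_le_fixed : D.W ≤ fixedSub D.α := inf_le_right

theorem exists_eq_T_mul {x : G} (hx : x ∈ D.X) : ∃ t ∈ D.T, ∃ c ∈ D.X, D.α c = c ∧ x = t * c := by
  have hx' : x ∈ ((D.T ⊔ (D.NT ⊓ fixedSub D.α) : Subgroup G) : Set G) := hx
  rw [Subgroup.coe_mul_of_right_le_normalizer_left D.T (D.NT ⊓ fixedSub D.α) inf_le_left] at hx'
  obtain ⟨t, ht, c, ⟨hcN, hc⟩, rfl⟩ := hx'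
  exact ⟨t, ht, c, D.mem_X_of_fixed_NT hcN hc, hc, rfl⟩

theorem displacement_mem_T {x : G} (hx : x ∈ D.X) : x⁻¹ * D.α x ∈ D.T := by
  obtain ⟨t, ht, c, hcX, hc, rfl⟩ := D.exists_eq_T_mul hx
  have e : (t * c)⁻¹ * D.α (t * c) = c⁻¹ * (t⁻¹ * D.α t) * c⁻¹⁻¹ := by rw [map_mul, hc]; group
  rw [e]
  exact (mem_normalizer_iff.1 (D.X_le_NT (inv_mem hcX)) _).1 (D.T.mul_mem (D.T.inv_mem ht) (D.T_inv.apply_mem ht))

theorem moved_X : moved D.α D.X = D.T :=
  le_antisymm ((closure_le _).2 (by rintro _ ⟨x, hx, rfl⟩; exact D.displacement_mem_T hx))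
    (D.moved_T.symm.le.trans (moved_mono D.T_le_X))

theorem inv_of_T_le {L : Subgroup G} (hT : D.T ≤ L) (hX : L ≤ D.X) : Inv D.α L :=
  inv_of_forall fun x hx => by
    have := L.mul_mem hx (hT (D.displacement_mem_T (hX hx)))
    rwa [mul_inv_cancel_left] at this

theorem odd_sylow_fixed {ℓ : ℕ} [Fact ℓ.Prime] (h2 : ℓ ≠ 2) (hp : ℓ ≠ p) :
    ∃ S : Sylow ℓ G, (S : Subgroup G) ≤ fixedSub D.α := by
  obtain ⟨S, hS⟩ := D.exists_sylow ℓ
  exact ⟨S, D.hodd ℓ Fact.out h2 hp _ hS S.2⟩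

include D in
theorem T_ne_bot : D.T ≠ ⊥ := by
  intro h
  have := D.hp_fact
  have hQ : D.Q ≤ fixedSub D.α := moved_eq_bot_iff.1 h
  obtain ⟨j, hj⟩ : ∃ j, (fixedSub D.α).index = p ^ j := by
    refine ⟨_, Nat.eq_prime_pow_of_unique_prime_dvd Subgroup.index_ne_zero_of_finite ?_⟩
    intro ℓ hℓ hdvd
    by_contra hℓp
    have : Fact ℓ.Prime := ⟨hℓ⟩
    rcases eq_or_ne ℓ 2 with rfl | h2
    · obtain ⟨S, hS⟩ := D.Q_sylow
      exact S.not_dvd_index (hdvd.trans (Subgroup.index_dvd_of_le (hS ▸ hQ)))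
    · obtain ⟨S, hS⟩ := D.odd_sylow_fixed h2 hℓp
      exact S.not_dvd_index (hdvd.trans (Subgroup.index_dvd_of_le hS))
  have hsol := isSolvable_of_moved D.hr D.hαr D.hrG D.hmov D.hp (j := j) (hj ▸ dvd_rfl)
  have : Nontrivial G := by
    by_contra hn
    rw [not_nontrivial_iff_subsingleton] at hn
    exact D.hna fun x y => Subsingleton.elim _ _
  rcases D.hnorm (commutator G) inferInstance (characteristic_iff_map_eq.1 inferInstance D.α) with e | e
  · refine D.hna fun x y => ?_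
    have : ⁅x, y⁆ ∈ commutator G := commutator_mem_commutator (mem_top x) (mem_top y)
    rwa [e, mem_bot, commutatorElement_eq_one_iff_mul_comm] at this
  · exact (Group.IsSolvable.commutator_lt_top_of_nontrivial G).ne e

/-- An invariant `ℓ`-subgroup lies in a fixed conjugate of a given invariant Sylow subgroup. -/
theorem fixed_sylow {ℓ : ℕ} [Fact ℓ.Prime] {S0 : Sylow ℓ G} (h0 : Inv D.α (S0 : Subgroup G)) {R : Subgroup G}
    (hR : IsPGroup ℓ R) (hRi : Inv D.α R) :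
    ∃ c, D.α c = c ∧ R ≤ (S0 : Subgroup G).map (MulAut.conj c).toMonoidHom := by
  obtain ⟨S, hRS, hS⟩ := exists_invariant_sylow_ge D.hr D.hαr D.hrG R hR hRi
  obtain ⟨c, hc, hcS⟩ := exists_fixed_conj D.hr D.hαr D.hrG S0 S h0 hS
  refine ⟨c, hc, hRS.trans (le_of_eq ?_)⟩
  rw [← hcS, Sylow.coe_subgroup_smul]
  rfl

theorem fixed_two_sylow {R : Subgroup G} (hR : IsPGroup 2 R) (hRi : Inv D.α R) :
    ∃ c, D.α c = c ∧ R ≤ D.Q.map (MulAut.conj c).toMonoidHom := by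
  have : Fact (Nat.Prime 2) := ⟨Nat.prime_two⟩
  obtain ⟨S0, hS0⟩ := D.Q_sylow
  rw [← hS0]
  exact D.fixed_sylow (hS0 ▸ D.Q_inv) hR hRi

theorem map_conj_moved {c : G} (hc : D.α c = c) (L : Subgroup G) :
    moved D.α (L.map (MulAut.conj c).toMonoidHom) = (moved D.α L).map (MulAut.conj c).toMonoidHom := by
  rw [moved, moved, MonoidHom.map_closure]
  congr 1
  ext y
  constructor
  · rintro ⟨_, ⟨x, hx, rfl⟩, rfl⟩
    exact ⟨_, ⟨x, hx, rfl⟩, by simp [MulAut.conj_apply, hc, mul_assoc]⟩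
  · rintro ⟨_, ⟨x, hx, rfl⟩, rfl⟩
    exact ⟨_, ⟨x, hx, rfl⟩, by simp [MulAut.conj_apply, hc, mul_assoc]⟩

/-- The moved part of an invariant `2`-subgroup lies in a fixed conjugate of `T`. -/
theorem moved_le_conj {R : Subgroup G} (hR : IsPGroup 2 R) (hRi : Inv D.α R) :
    ∃ c, D.α c = c ∧ moved D.α R ≤ D.T.map (MulAut.conj c).toMonoidHom := by
  obtain ⟨c, hc, hle⟩ := D.fixed_two_sylow hR hRi
  exact ⟨c, hc, (moved_mono hle).trans (D.map_conj_moved hc D.Q).le⟩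

/-- The fixed part of an invariant Sylow subgroup is a Sylow subgroup of the fixed subgroup. -/
theorem inf_fixed_sylow {ℓ : ℕ} [Fact ℓ.Prime] {S0 : Sylow ℓ G} (h0 : Inv D.α (S0 : Subgroup G)) :
    ¬ ℓ ∣ (((S0 : Subgroup G) ⊓ fixedSub D.α).relIndex (fixedSub D.α)) := by
  obtain ⟨R, hRle, hRp, hRidx, hRi⟩ :=
    exists_invariant_sylowOf (p := ℓ) D.hr D.hαr D.hrG (fixedSub D.α) inv_fixedSub
  obtain ⟨c, hc, hle⟩ := D.fixed_sylow h0 hRp hRi
  have hc' : c ∈ fixedSub D.α := hc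
  have hle' : R ≤ ((S0 : Subgroup G) ⊓ fixedSub D.α).map (MulAut.conj c).toMonoidHom := by
    intro x hx
    obtain ⟨y, hy, rfl⟩ := hle hx
    refine ⟨y, ⟨hy, ?_⟩, rfl⟩
    have h1 := (fixedSub D.α).mul_mem ((fixedSub D.α).mul_mem ((fixedSub D.α).inv_mem hc') (hRle hx)) hc'
    simpa [MulAut.conj_apply, mul_assoc] using h1
  intro h2
  apply hRidx
  have hfix : (fixedSub D.α).map (MulAut.conj c).toMonoidHom = fixedSub D.α := by
    refine eq_of_le_of_card_ge ?_ ?_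
    · rintro _ ⟨x, hx, rfl⟩
      exact (fixedSub D.α).mul_mem ((fixedSub D.α).mul_mem hc' hx) ((fixedSub D.α).inv_mem hc')
    · exact (Subgroup.card_map_of_injective (MulAut.conj c).injective).ge
  rw [← Subgroup.relIndex_map_map_of_injective _ _ (f := (MulAut.conj c).toMonoidHom)
    (MulAut.conj c).injective, hfix] at h2
  exact h2.trans (Subgroup.relIndex_dvd_of_le_left _ hle')

/-- The moved part of an invariant `2`-subgroup of `N(T)` lies in `T`. -/
theorem moved_le_T {L : Subgroup G} (hL : IsPGroup 2 L) (hLi : Inv D.α L) (hN : L ≤ D.NT) :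
    moved D.α L ≤ D.T := by
  have : Fact (Nat.Prime 2) := ⟨Nat.prime_two⟩
  obtain ⟨c, hc, hle⟩ := D.moved_le_conj (R := D.T ⊔ L) (D.T_two.to_sup_of_normal_left' hL hN)
    (D.T_inv.sup hLi)
  have hT : D.T ≤ moved D.α (D.T ⊔ L) := D.moved_T.symm.le.trans (moved_mono le_sup_left)
  have he : D.T = D.T.map (MulAut.conj c).toMonoidHom := eq_of_le_of_card_ge (hT.trans hle)
    (Subgroup.card_map_of_injective (MulAut.conj c).injective).le
  exact ((moved_mono le_sup_right).trans hle).trans he.symm.le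

/-- An invariant `2`-subgroup of `N(T)` lies in `X`. -/
theorem two_le_X {L : Subgroup G} (hL : IsPGroup 2 L) (hLi : Inv D.α L) (hN : L ≤ D.NT) : L ≤ D.X :=
  (le_moved_sup_fixed D.hr D.hαr D.hrG hLi).trans (sup_le ((D.moved_le_T hL hLi hN).trans D.T_le_X)
    fun _ hx => D.mem_X_of_fixed_NT (hN hx.1) hx.2)

/-- The index of `W` in `T`. -/
noncomputable def b : ℕ := D.W.relIndex D.T

theorem relIndex_Q : (D.Q ⊓ fixedSub D.α).relIndex D.Q = D.b := by
  have hsup : D.T ⊔ (D.Q ⊓ fixedSub D.α) = D.Q :=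
    le_antisymm (sup_le D.T_le_Q inf_le_left) (le_moved_sup_fixed D.hr D.hαr D.hrG D.Q_inv)
  have hn : D.Q ⊓ fixedSub D.α ≤ normalizer (D.T : Set G) := le_trans inf_le_left D.Q_le_NT
  set K := D.Q ⊓ fixedSub D.α with hK
  have hKT : D.T ⊓ K = D.W := by
    ext x
    exact ⟨fun h => ⟨h.1, h.2.2⟩, fun h => ⟨h.1, D.T_le_Q h.1, h.2⟩⟩
  have : (D.T.subgroupOf D.Q).Normal := Subgroup.normal_subgroupOf_iff_le_normalizer D.T_le_Q |>.2 D.Q_le_NT
  have h1 : D.T.relIndex K = D.T.relIndex D.Q := by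
    have e1 := Subgroup.relIndex_sup_right (K.subgroupOf D.Q) (D.T.subgroupOf D.Q)
    rw [← Subgroup.subgroupOf_sup inf_le_left D.T_le_Q, sup_comm K, hsup,
      Subgroup.relIndex_subgroupOf (le_refl D.Q), Subgroup.relIndex_subgroupOf (inf_le_left : K ≤ D.Q)] at e1
    exact e1.symm
  have eQ := Subgroup.relIndex_mul_relIndex ⊥ D.T D.Q bot_le D.T_le_Q
  have eK := Subgroup.relIndex_mul_relIndex ⊥ (D.T ⊓ K) K bot_le inf_le_right
  have eT := Subgroup.relIndex_mul_relIndex ⊥ D.W D.T bot_le D.W_le_T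
  have eKQ := Subgroup.relIndex_mul_relIndex ⊥ K D.Q bot_le inf_le_left
  rw [Subgroup.relIndex_bot_left, Subgroup.relIndex_bot_left] at eQ eK eT eKQ
  rw [Subgroup.inf_relIndex_right, h1, hKT] at eK
  have e : Nat.card K * K.relIndex D.Q * Nat.card D.W = Nat.card K * D.W.relIndex D.T * Nat.card D.W := by
    rw [eKQ, ← eQ, ← eT, ← eK]; ring
  exact Nat.eq_of_mul_eq_mul_left Nat.card_pos (Nat.eq_of_mul_eq_mul_right Nat.card_pos e)

theorem b_two : ∃ i, D.b = 2 ^ i := by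
  have : Fact (Nat.Prime 2) := ⟨Nat.prime_two⟩
  exact D.T_two.index _

theorem pi_pow : ∃ i, D.pi = p ^ i := by
  have := D.hp_fact
  obtain ⟨S, hS⟩ := D.P_sylow
  exact IsPGroup.index (hS ▸ S.2 : IsPGroup p D.P) _

/-- The index of the fixed subgroup. -/
theorem fixed_index : (fixedSub D.α).index = D.pi * D.b := by
  have := D.hp_fact
  have : Fact (Nat.Prime 2) := ⟨Nat.prime_two⟩
  set C := fixedSub D.α
  obtain ⟨S2, hS2⟩ := D.Q_sylow
  obtain ⟨Sp, hSp⟩ := D.P_sylow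
  have hG := C.card_mul_index
  obtain ⟨i, hi⟩ := D.b_two
  obtain ⟨e, he⟩ := D.pi_pow
  have hcop : Nat.Coprime (p ^ e) (2 ^ i) :=
    Nat.Coprime.pow _ _ ((Nat.coprime_primes D.hp Nat.prime_two).2 D.hp2)
  have hq : Nat.card D.Q = Nat.card ↥(D.Q ⊓ C) * D.b := by
    rw [← D.relIndex_Q, ← Subgroup.relIndex_bot_left (D.Q ⊓ C), ← Subgroup.relIndex_bot_left D.Q,
      Subgroup.relIndex_mul_relIndex _ _ _ bot_le inf_le_left]
  have hpq : Nat.card D.P = Nat.card ↥(D.P ⊓ C) * D.pi := by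
    rw [pi, ← Subgroup.relIndex_bot_left (D.P ⊓ C), ← Subgroup.relIndex_bot_left D.P,
      Subgroup.relIndex_mul_relIndex _ _ _ bot_le inf_le_left]
  refine Nat.dvd_antisymm ?_ ?_
  · have hdvd : Nat.card G ∣ Nat.card C * (D.pi * D.b) := by
      refine (Nat.dvd_iff_prime_pow_dvd_dvd _ _).2 fun ℓ j hℓ hj => ?_
      have : Fact ℓ.Prime := ⟨hℓ⟩
      rcases eq_or_ne ℓ p with rfl | hℓp
      · refine (Sp.pow_dvd_card_of_pow_dvd_card hj).trans ?_
        rw [hSp, hpq]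
        exact mul_dvd_mul (Subgroup.card_dvd_of_le inf_le_right) (dvd_mul_right _ _)
      rcases eq_or_ne ℓ 2 with rfl | hℓ2
      · refine (S2.pow_dvd_card_of_pow_dvd_card hj).trans ?_
        rw [hS2, hq]
        exact mul_dvd_mul (Subgroup.card_dvd_of_le inf_le_right) (dvd_mul_left _ _)
      · obtain ⟨S, hS⟩ := D.odd_sylow_fixed hℓ2 hℓp
        exact (S.pow_dvd_card_of_pow_dvd_card hj).trans ((Subgroup.card_dvd_of_le hS).trans (dvd_mul_right _ _))
    rw [← hG] at hdvd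
    exact Nat.dvd_of_mul_dvd_mul_left Nat.card_pos hdvd
  · have key : ∀ (ℓ : ℕ) (S : Subgroup G) (j : ℕ), ℓ.Prime → Nat.card S = Nat.card ↥(S ⊓ C) * ℓ ^ j →
        ¬ ℓ ∣ (S ⊓ C).relIndex C → ℓ ^ j ∣ C.index := by
      intro ℓ S j hℓ hS hn
      have h1 : Nat.card S ∣ C.index * Nat.card C := by
        rw [mul_comm, hG]; exact Subgroup.card_subgroup_dvd_card _
      rw [hS, ← Subgroup.relIndex_bot_left C, ← Subgroup.relIndex_mul_relIndex ⊥ (S ⊓ C) C bot_le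
        inf_le_right, Subgroup.relIndex_bot_left, mul_comm C.index, mul_assoc] at h1
      exact (Nat.Coprime.pow_left j (hℓ.coprime_iff_not_dvd.2 hn)).dvd_of_dvd_mul_left
        (Nat.dvd_of_mul_dvd_mul_left Nat.card_pos h1)
    rw [he, hi]
    refine Nat.Coprime.mul_dvd_of_dvd_of_dvd hcop (key p D.P e D.hp (he ▸ hpq) ?_)
      (key 2 D.Q i Nat.prime_two (hi ▸ hq) ?_)
    · rw [← hSp]; exact D.inf_fixed_sylow (hSp ▸ D.P_inv)
    · rw [← hS2]; exact D.inf_fixed_sylow (hS2 ▸ D.Q_inv)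

include D in
theorem not_pGroup_top : ¬ IsPGroup p (⊤ : Subgroup G) := by
  intro h
  have := D.hp_fact
  have : Fact (Nat.Prime 2) := ⟨Nat.prime_two⟩
  exact D.T_ne_bot (eq_bot_of_two_and_p D.hp2 (h.to_le le_top) D.T_two)

theorem normalizer_ne_top {R : Subgroup G} (hR : IsPGroup p R) (hRi : Inv D.α R) (h0 : R ≠ ⊥) :
    normalizer (R : Set G) ≠ ⊤ := fun h =>
  (D.hnorm R (Subgroup.normalizer_eq_top_iff.1 h) hRi).elim h0 fun e => D.not_pGroup_top (e ▸ hR)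

include D in
theorem T_ne_top : D.T ≠ ⊤ := fun e => by
  have := D.hp_fact
  obtain ⟨j, hj⟩ := IsPGroup.iff_card.1 D.T_two
  rw [e, Subgroup.card_top] at hj
  exact D.hp2 ((Nat.prime_dvd_prime_iff_eq D.hp Nat.prime_two).1 (D.hp.dvd_of_dvd_pow (hj ▸ D.hpG)))

theorem NT_ne_top : D.NT ≠ ⊤ := fun h =>
  (D.hnorm D.T (Subgroup.normalizer_eq_top_iff.1 h) D.T_inv).elim D.T_ne_bot D.T_ne_top

theorem X_ne_top : D.X ≠ ⊤ := fun h => D.NT_ne_top (top_unique (h ▸ D.X_le_NT))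

/-- `T` normalizes no invariant Sylow `p`-subgroup. -/
theorem not_normalizes_sylow (S : Sylow p G) (hS : Inv D.α (S : Subgroup G)) :
    ¬ D.T ≤ normalizer ((S : Subgroup G) : Set G) := by
  intro hTP
  have := D.hp_fact
  have : Fact (Nat.Prime 2) := ⟨Nat.prime_two⟩
  set C := fixedSub D.α
  set N := normalizer ((S : Subgroup G) : Set G)
  obtain ⟨S0, hS0⟩ := D.P_sylow
  obtain ⟨c, hc, hcS⟩ := exists_fixed_conj D.hr D.hαr D.hrG S0 S (hS0 ▸ D.P_inv) hS
  have hpi : ((S : Subgroup G) ⊓ C).relIndex (S : Subgroup G) = D.pi := by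
    have hfix : C.map (MulAut.conj c).toMonoidHom = C := by
      refine eq_of_le_of_card_ge ?_ (Subgroup.card_map_of_injective (MulAut.conj c).injective).ge
      rintro _ ⟨x, hx, rfl⟩
      exact C.mul_mem (C.mul_mem hc hx) (C.inv_mem hc)
    have e : (S : Subgroup G) = D.P.map (MulAut.conj c).toMonoidHom := by
      rw [← hcS, ← hS0, Sylow.coe_subgroup_smul]; rfl
    rw [e, pi, ← hfix, ← Subgroup.map_inf _ _ _ (MulAut.conj c).injective,
      Subgroup.relIndex_map_map_of_injective _ _ (MulAut.conj c).injective]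
  have hTPdisj : ∀ x ∈ D.T, x ∈ (S : Subgroup G) → x = 1 := fun x hT hx =>
    mem_bot.1 (eq_bot_of_two_and_p D.hp2 (S.2.to_le (inf_le_right : D.T ⊓ S ≤ S)) (D.T_two.to_le inf_le_left)
      ▸ ⟨hT, hx⟩)
  let f : (↥(S : Subgroup G) ⧸ ((S : Subgroup G) ⊓ C).subgroupOf S) × (D.T ⧸ D.W.subgroupOf D.T) → G ⧸ C :=
    fun a => (((a.2.out : D.T) : G) * (a.1.out : (S : Subgroup G)) : G)
  have hinj : Function.Injective f := by
    rintro ⟨x, t⟩ ⟨x', t'⟩ h
    have h1 := QuotientGroup.eq.1 h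
    set y : G := ((x.out : (S : Subgroup G)) : G) with hy
    set y' : G := ((x'.out : (S : Subgroup G)) : G) with hy'
    set s : G := ((t.out : D.T) : G)
    set s' : G := ((t'.out : D.T) : G)
    set u : G := s⁻¹ * s' with hu
    set z : G := u⁻¹ * y⁻¹ * u * y' with hz
    have huT : u ∈ D.T := D.T.mul_mem (D.T.inv_mem t.out.2) t'.out.2
    have hzS : z ∈ (S : Subgroup G) := (S : Subgroup G).mul_mem (by
      simpa using (mem_normalizer_iff.1 (hTP (D.T.inv_mem huT)) _).1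
        ((S : Subgroup G).inv_mem x.out.2)) x'.out.2
    have hfix : D.α (u * z) = u * z := by
      have e : u * z = (s * y)⁻¹ * (s' * y') := by rw [hz, hu]; group
      rw [e]; exact h1
    rw [map_mul] at hfix
    have he : u⁻¹ * D.α u = z * (D.α z)⁻¹ := by
      calc u⁻¹ * D.α u = u⁻¹ * (D.α u * D.α z) * (D.α z)⁻¹ := by group
        _ = _ := by rw [hfix]; group
    have hu1 : u⁻¹ * D.α u = 1 := hTPdisj _ (D.T.mul_mem (D.T.inv_mem huT) (D.T_inv.apply_mem huT))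
      (he ▸ (S : Subgroup G).mul_mem hzS ((S : Subgroup G).inv_mem (hS.apply_mem hzS)))
    have hufix : D.α u = u := (inv_mul_eq_one.1 hu1).symm
    have ht : t = t' := by
      rw [← t.out_eq', ← t'.out_eq']
      exact QuotientGroup.eq.2 ⟨huT, hufix⟩
    have hu0 : u = 1 := by
      have : s = s' := by show ((t.out : D.T) : G) = t'.out; rw [ht]
      rw [hu, this, inv_mul_cancel]
    have hz' : z = y⁻¹ * y' := by rw [hz, hu0]; group
    rw [hufix, mul_right_inj, hz'] at hfix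
    refine Prod.ext ?_ ht
    rw [← x.out_eq', ← x'.out_eq']
    exact QuotientGroup.eq.2 ⟨(S : Subgroup G).mul_mem ((S : Subgroup G).inv_mem x.out.2) x'.out.2, hfix⟩
  have hbij : Function.Bijective f := (Nat.bijective_iff_injective_and_card f).2 ⟨hinj, by
    rw [Nat.card_prod]
    show _ = C.index
    rw [D.fixed_index, ← hpi]
    rfl⟩
  have hall : ∀ g : G, g⁻¹ * D.α g ∈ N := by
    intro g
    obtain ⟨⟨x, t⟩, hxt⟩ := hbij.2 ((g⁻¹ : G) : G ⧸ C)
    set m : G := ((t.out : D.T) : G) * ((x.out : (S : Subgroup G)) : G) with hm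
    have hc : D.α (m⁻¹ * g⁻¹) = m⁻¹ * g⁻¹ := QuotientGroup.eq.1 hxt
    have hmN : m ∈ N := mul_mem (hTP t.out.2) (Subgroup.le_normalizer x.out.2)
    have hmN' : D.α m ∈ N := hS.normalizer.apply_mem hmN
    have e : g⁻¹ * D.α g = m * (D.α m)⁻¹ := by
      rw [map_mul, map_inv, map_inv] at hc
      calc g⁻¹ * D.α g = m * (m⁻¹ * g⁻¹) * D.α g := by group
        _ = m * ((D.α m)⁻¹ * (D.α g)⁻¹) * D.α g := by rw [hc]
        _ = m * (D.α m)⁻¹ := by group
    rw [e]; exact mul_mem hmN (inv_mem hmN')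
  have htop : moved D.α ⊤ ≤ N := (closure_le _).2 (by rintro _ ⟨x, -, rfl⟩; exact hall x)
  rw [D.hmov, top_le_iff] at htop
  exact D.normalizer_ne_top S.2 hS (Sylow.ne_bot_of_dvd_card S D.hpG) htop

end Bar0

end CfsgLib.FlavellHHS
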