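import Cfsg.Agent.Lib.FlavellHHS.Invol
import Cfsg.Agent.Lib.FlavellFpf.BarSE
import Cfsg.Agent.S1221

/-!
A maximal bad subgroup gives a group of symmetries of the space; hence the space is anisotropic, `Γ` is
strongly embedded, and so `K` is trivial.
-/

set_option autoImplicit false
set_option linter.unusedSectionVars false

namespace CfsgLib.FlavellHHS

open Subgroup CfsgLib.CoprimeCentral CfsgLib.FlavellFpf
open scoped commutatorElement

universe u v w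

namespace GBar

variable {G : Type u} [Group G] [Finite G] {M : Type v} [AddCommGroup M] [Finite M] {Zc : Type w}
  [AddCommGroup Zc] [Finite Zc] {p r : ℕ} (D : GBar G M Zc p r)

open Classical in
/-- The fixed part of an element of `X`. -/
noncomputable def fpart (x : G) : G :=
  if h : x ∈ D.X then (D.exists_eq_T_mul h).choose_spec.2.choose else 1

theorem fpart_spec {x : G} (h : x ∈ D.X) :
    ∃ t ∈ D.T, D.fpart x ∈ D.X ∧ D.α (D.fpart x) = D.fpart x ∧ x = t * D.fpart x := by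
  refine ⟨_, (D.exists_eq_T_mul h).choose_spec.1, ?_⟩
  rw [fpart, dif_pos h]
  exact (D.exists_eq_T_mul h).choose_spec.2.choose_spec

/-- The action of an element of `X` on `M`. -/
noncomputable def gMX (x : G) : AddMonoid.End M := D.gM (D.fpart x)

/-- The action of an element of `X` on `Zc`. -/
noncomputable def gZX (x : G) : AddMonoid.End Zc := D.gZ (D.fpart x)

theorem gMX_spec {x t : G} (hx : x ∈ D.X) (ht : t ∈ D.T) : D.π (x * t * x⁻¹) = D.gMX x (D.π t) := by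
  obtain ⟨s, hs, hcX, hc, he⟩ := D.fpart_spec hx
  rw [gMX, ← D.hgM _ hcX hc t ht]
  conv_lhs => rw [he]
  generalize D.fpart x = c at hcX hc
  have hct := D.conj_mem_T hcX ht
  rw [show s * c * t * (s * c)⁻¹ = s * (c * t * c⁻¹) * s⁻¹ by group,
    D.hπ_mul _ (D.T.mul_mem hs hct) _ (D.T.inv_mem hs), D.hπ_mul s hs _ hct, D.π_inv hs, add_right_comm,
    D.Sp.hM2, zero_add]

theorem gZX_spec {x : G} (hx : x ∈ D.X) (z : Zc) : x * D.ω z * x⁻¹ = D.ω (D.gZX x z) := by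
  obtain ⟨s, hs, hcX, hc, he⟩ := D.fpart_spec hx
  rw [gZX, ← D.hgZ _ hcX hc z]
  conv_lhs => rw [he]
  generalize D.fpart x = c at hcX hc
  rw [show s * c * D.ω z * (s * c)⁻¹ = s * (c * D.ω z * c⁻¹) * s⁻¹ by group]
  exact D.conj_T_W hs (D.fixed_conj_mem_W hcX hc (D.hω_mem z))

theorem gZX_B {x : G} (hx : x ∈ D.X) (m n : M) : D.gZX x (D.Sp.B m n) = D.Sp.B (D.gMX x m) (D.gMX x n) := by
  obtain ⟨s, hs, hcX, hc, -⟩ := D.fpart_spec hx
  exact D.hB _ hcX hc m n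

theorem gMX_mul {x y : G} (hx : x ∈ D.X) (hy : y ∈ D.X) : D.gMX (x * y) = D.gMX x * D.gMX y := by
  refine DFunLike.ext _ _ fun m => ?_
  obtain ⟨t, ht, rfl⟩ := D.hπ_surj m
  rw [AddMonoid.End.coe_mul, Function.comp_apply, ← D.gMX_spec hy ht,
    ← D.gMX_spec hx (D.conj_mem_T hy ht), ← D.gMX_spec (mul_mem hx hy) ht]
  congr 1; group

theorem gMX_T {t : G} (ht : t ∈ D.T) : D.gMX t = 1 := by
  refine DFunLike.ext _ _ fun m => ?_
  obtain ⟨s, hs, rfl⟩ := D.hπ_surj m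
  rw [← D.gMX_spec (D.T_le_X ht) hs, D.hπ_mul _ (D.T.mul_mem ht hs) _ (D.T.inv_mem ht), D.hπ_mul t ht s hs,
    D.π_inv ht, add_right_comm, D.Sp.hM2, zero_add]
  rfl

theorem gZX_mul {x y : G} (hx : x ∈ D.X) (hy : y ∈ D.X) : D.gZX (x * y) = D.gZX x * D.gZX y := by
  refine D.Sp.end_ext_of_B fun m n => ?_
  rw [AddMonoid.End.coe_mul, Function.comp_apply, D.gZX_B (mul_mem hx hy), D.gZX_B hy, D.gZX_B hx,
    D.gMX_mul hx hy]
  rfl

theorem gZX_T {t : G} (ht : t ∈ D.T) : D.gZX t = 1 := by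
  refine D.Sp.end_ext_of_B fun m n => ?_
  rw [D.gZX_B (D.T_le_X ht), D.gMX_T ht]
  rfl

theorem gZX_fixZs {x : G} (hx : x ∈ D.X) {z : Zc} (hz : z ∈ D.Sp.Zs) : D.gZX x z = z := by
  obtain ⟨s, hs, hcX, hc, -⟩ := D.fpart_spec hx
  exact D.hfixZs _ hcX hc z hz

theorem gMX_a {x : G} (hx : x ∈ D.X) (m : M) : D.gMX x (D.Sp.a m) = D.Sp.a (D.gMX x m) := by
  obtain ⟨s, hs, hcX, hc, -⟩ := D.fpart_spec hx
  exact D.gM_a hcX hc m

theorem gZX_Qf {x : G} (hx : x ∈ D.X) (m : M) : D.gZX x (D.Sp.Qf m) = D.Sp.Qf (D.gMX x m) := by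
  obtain ⟨s, hs, hcX, hc, -⟩ := D.fpart_spec hx
  exact D.hQ _ hcX hc m

open Classical in
/-- The part in `X` of an element of `Γ`. -/
noncomputable def xpart (g : G) : G :=
  if h : g ∈ D.Γ then (D.hdec g h).choose_spec.2.choose else 1

theorem xpart_spec {g : G} (h : g ∈ D.Γ) : ∃ k ∈ D.K, D.xpart g ∈ D.X ∧ g = k * D.xpart g := by
  refine ⟨_, (D.hdec g h).choose_spec.1, ?_⟩
  rw [xpart, dif_pos h]
  exact (D.hdec g h).choose_spec.2.choose_spec

/-- The action of an element of `Γ` on `M`. -/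
noncomputable def gMΓ (g : G) : AddMonoid.End M := D.gMX (D.xpart g)

/-- The action of an element of `Γ` on `Zc`. -/
noncomputable def gZΓ (g : G) : AddMonoid.End Zc := D.gZX (D.xpart g)

theorem gMX_K {d : G} (hd : d ∈ D.K) (hdX : d ∈ D.X) : D.gMX d = 1 := by
  refine DFunLike.ext _ _ fun m => ?_
  obtain ⟨t, ht, rfl⟩ := D.hπ_surj m
  rw [← D.gMX_spec hdX ht, (D.K_X hd hdX).2 t ht, mul_inv_cancel_right]
  rfl

theorem gMΓ_eq {k x : G} (hk : k ∈ D.K) (hx : x ∈ D.X) : D.gMΓ (k * x) = D.gMX x := by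
  obtain ⟨k', hk', hx', he⟩ := D.xpart_spec (mul_mem (D.hKΓ hk) (D.hXΓ hx))
  rw [gMΓ]
  generalize D.xpart (k * x) = x' at hx' he
  have e : x' = (k'⁻¹ * k) * x := by rw [mul_assoc, he, inv_mul_cancel_left]
  have hdX : k'⁻¹ * k ∈ D.X := by
    have h := mul_mem hx' (inv_mem hx)
    rwa [e, mul_inv_cancel_right] at h
  rw [e, D.gMX_mul hdX hx, D.gMX_K (D.K.mul_mem (D.K.inv_mem hk') hk) hdX, one_mul]

theorem gMΓ_mul {g h : G} (hg : g ∈ D.Γ) (hh : h ∈ D.Γ) : D.gMΓ (g * h) = D.gMΓ g * D.gMΓ h := by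
  obtain ⟨k, hk, x, hx, rfl⟩ := D.hdec g hg
  obtain ⟨k', hk', x', hx', rfl⟩ := D.hdec h hh
  rw [D.gMΓ_eq hk hx, D.gMΓ_eq hk' hx', show k * x * (k' * x') = k * (x * k' * x⁻¹) * (x * x') by group,
    D.gMΓ_eq (D.K.mul_mem hk (D.K_conj (D.hXΓ hx) hk')) (mul_mem hx hx'), D.gMX_mul hx hx']

theorem gMΓ_X {x : G} (hx : x ∈ D.X) : D.gMΓ x = D.gMX x := by
  simpa using D.gMΓ_eq D.K.one_mem hx

theorem gMΓ_T {t : G} (ht : t ∈ D.T) : D.gMΓ t = 1 := by rw [D.gMΓ_X (D.T_le_X ht), D.gMX_T ht]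

theorem gMΓ_spec {g t : G} (hg : g ∈ D.Γ) (ht : t ∈ D.T) (h : g * t * g⁻¹ ∈ D.X) :
    D.π (g * t * g⁻¹) = D.gMΓ g (D.π t) := by
  obtain ⟨k, hk, x, hx, rfl⟩ := D.hdec g hg
  rw [D.conj_T_part hk hx ht h, D.gMΓ_eq hk hx, D.gMX_spec hx ht]

theorem gMΓ_a {g : G} (hg : g ∈ D.Γ) (m : M) : D.gMΓ g (D.Sp.a m) = D.Sp.a (D.gMΓ g m) := by
  obtain ⟨k, -, hx, -⟩ := D.xpart_spec hg
  exact D.gMX_a hx m

theorem gZΓ_B {g : G} (hg : g ∈ D.Γ) (m n : M) :
    D.gZΓ g (D.Sp.B m n) = D.Sp.B (D.gMΓ g m) (D.gMΓ g n) := by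
  obtain ⟨k, -, hx, -⟩ := D.xpart_spec hg
  exact D.gZX_B hx m n

theorem gZΓ_Qf {g : G} (hg : g ∈ D.Γ) (m : M) : D.gZΓ g (D.Sp.Qf m) = D.Sp.Qf (D.gMΓ g m) := by
  obtain ⟨k, -, hx, -⟩ := D.xpart_spec hg
  exact D.gZX_Qf hx m

theorem gZΓ_fixZs {g : G} (hg : g ∈ D.Γ) {z : Zc} (hz : z ∈ D.Sp.Zs) : D.gZΓ g z = z := by
  obtain ⟨k, -, hx, -⟩ := D.xpart_spec hg
  exact D.gZX_fixZs hx hz

theorem gZΓ_mul {g h : G} (hg : g ∈ D.Γ) (hh : h ∈ D.Γ) : D.gZΓ (g * h) = D.gZΓ g * D.gZΓ h := by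
  refine D.Sp.end_ext_of_B fun m n => ?_
  rw [AddMonoid.End.coe_mul, Function.comp_apply, D.gZΓ_B (mul_mem hg hh), D.gZΓ_B hh, D.gZΓ_B hg,
    D.gMΓ_mul hg hh]
  rfl

theorem gZΓ_T {t : G} (ht : t ∈ D.T) : D.gZΓ t = 1 := by
  refine D.Sp.end_ext_of_B fun m n => ?_
  rw [D.gZΓ_B (D.T_le_Γ ht), D.gMΓ_T ht]
  rfl

theorem gZΓ_spec {g : G} (hg : g ∈ D.Γ) (z : Zc) (h : g * D.ω z * g⁻¹ ∈ D.X) :
    g * D.ω z * g⁻¹ = D.ω (D.gZΓ g z) := by
  obtain ⟨k, hk, hx, he⟩ := D.xpart_spec hg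
  rw [gZΓ, ← D.gZX_spec hx z]
  generalize D.xpart g = x at hx he
  subst he
  exact D.conj_T_part hk hx (D.hω_mem z).1 h

/-- A bad subgroup is centralized by a group of symmetries. -/
theorem exists_sym {L0 : Subgroup G} (h0X : L0 ≤ D.X) (h02 : IsPGroup 2 L0)
    (h0N : ¬ normalizer (L0 : Set G) ≤ D.Γ) :
    ∃ (Γ : Type u) (_ : Group Γ) (_ : Finite Γ) (Y : Space.Sym D.Sp Γ),
      ∀ t ∈ L0, ∀ g, Y.gM g (D.π t) = D.π t := by
  classical
  have : Fact (Nat.Prime 2) := ⟨Nat.prime_two⟩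
  let S : Set (Subgroup G) := {L | IsPGroup 2 L ∧ L ≤ D.X ∧ ¬ normalizer (L : Set G) ≤ D.Γ}
  obtain ⟨L, hL0, hmax⟩ := (Set.toFinite S).exists_le_maximal (a := L0) ⟨h02, h0X, h0N⟩
  obtain ⟨hL2, hLX, hN⟩ := hmax.1
  have hLT : L ≤ D.T := D.bad_le_T hLX hL2 hN
  have hLW : ∀ x ∈ L, x ∈ D.W → x = 1 := fun x hx hxW => by
    by_contra hx1
    exact hN fun k hk => D.mem_Γ_of_conj hxW hx1 (D.hXΓ (hLX ((mem_normalizer_iff.1 hk x).1 hx)))
  have hLcomm : ∀ a ∈ L, ∀ b ∈ L, a * b = b * a := fun a ha b hb => by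
    have h := D.hcomm a (hLT ha) b (hLT hb)
    have h1 : a * b * (b * a)⁻¹ = D.ω (D.Sp.B (D.π a) (D.π b)) := by rw [h]; group
    have h2 := hLW _ (L.mul_mem (L.mul_mem ha hb) (L.inv_mem (L.mul_mem hb ha))) (h1 ▸ D.hω_mem _)
    exact mul_inv_eq_one.1 h2
  set K := centralizer (L : Set G)
  have hLK : L ≤ K := fun a ha => mem_centralizer_iff.2 fun b hb => hLcomm b hb a ha
  have hWK : ∀ x ∈ D.W, x ∈ K := fun x hx =>
    mem_centralizer_iff.2 fun b hb => (D.W_central hx (hLT hb)).symm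
  let N := L.subgroupOf K
  have : N.Normal := ⟨fun n hn g => mem_subgroupOf.2 (by
    have h := mem_centralizer_iff.1 g.2 (n : G) (mem_subgroupOf.1 hn)
    show (g : G) * n * (g : G)⁻¹ ∈ L
    rw [← h, mul_inv_cancel_right]
    exact mem_subgroupOf.1 hn)⟩
  let π' := QuotientGroup.mk' N
  let Y : Subgroup (K ⧸ N) := (D.Γ.subgroupOf K).map π'
  have hYmem : ∀ k : K, (k : K ⧸ N) ∈ Y → (k : G) ∈ D.Γ := by
    rintro k ⟨k', hk', he⟩
    have h1 : k'⁻¹ * k ∈ N := QuotientGroup.eq.1 he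
    have h2 : ((k'⁻¹ * k : K) : G) ∈ L := mem_subgroupOf.1 h1
    simpa using mul_mem (mem_subgroupOf.1 hk') (D.hXΓ (hLX h2))
  have hYne : Y ≠ ⊤ := fun h => D.centralizer_not_le (hLX.trans D.hXΓ) hL2 hN fun k hk =>
    hYmem ⟨k, hk⟩ (h ▸ mem_top _)
  obtain ⟨w0, hw0, hw01⟩ : ∃ x ∈ D.W, x ≠ 1 := by
    by_contra h; push Not at h; exact D.W_ne_bot ((Subgroup.eq_bot_iff_forall _).2 h)
  have hmkW : ∀ (x : G) (hx : x ∈ D.W), x ≠ 1 →
      orderOf ((⟨x, hWK x hx⟩ : K) : K ⧸ N) = 2 ∧ ((⟨x, hWK x hx⟩ : K) : K ⧸ N) ∈ Y := fun x hx hx1 =>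
    ⟨Involutions.orderOf_eq_two_iff_mul.2
      ⟨fun h => hx1 (hLW x (mem_subgroupOf.1 ((QuotientGroup.eq_one_iff _).1 h)) hx),
        (QuotientGroup.eq_one_iff _).2 (mem_subgroupOf.2 (by
          show x * x ∈ L
          rw [D.W_sq hx]; exact L.one_mem))⟩,
      ⟨⟨x, hWK x hx⟩, mem_subgroupOf.2 (D.W_mem_Γ hx), rfl⟩⟩
  have hSE : Cfsg.IsStronglyEmbedded Y := by
    refine Involutions.isStronglyEmbedded_of_normalizers hYne
      (Involutions.even_card_of_involution_mem (hmkW w0 hw0 hw01).2 (hmkW w0 hw0 hw01).1) ?_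
    intro X' hX'Y hX'2 hX'ne y hy
    induction y using QuotientGroup.induction_on with
    | H k =>
    let L1 : Subgroup G := (X'.comap π').map K.subtype
    have hker : IsPGroup 2 π'.ker := by
      rw [QuotientGroup.ker_mk']
      exact hL2.comap_subtype
    have hL12 : IsPGroup 2 L1 := (hX'2.comap_of_ker_isPGroup π' hker).map _
    have hL1X : L1 ≤ D.Γ := by
      rintro _ ⟨a, ha, rfl⟩
      exact hYmem a (hX'Y ha)
    have hLL1 : L ≤ L1 := fun a ha => ⟨⟨a, hLK ha⟩, by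
      show ((⟨a, hLK ha⟩ : K) : K ⧸ N) ∈ X'
      rw [(QuotientGroup.eq_one_iff _).2 (mem_subgroupOf.2 ha)]
      exact X'.one_mem, rfl⟩
    have hlt : ¬ L1 ≤ L := fun h => hX'ne ((Subgroup.eq_bot_iff_forall _).2 fun a ha => by
      induction a using QuotientGroup.induction_on with
      | H a => exact (QuotientGroup.eq_one_iff _).2 (mem_subgroupOf.2 (h ⟨a, ha, rfl⟩)))
    have hkN : (k : G) ∈ normalizer (L1 : Set G) := mem_normalizer_of_conj_mem fun a ha => by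
      obtain ⟨a', ha', rfl⟩ := ha
      exact ⟨k * a' * k⁻¹, (mem_normalizer_iff.1 hy _).1 ha', rfl⟩
    have hk : normalizer (L1 : Set G) ≤ D.Γ := by
      by_contra h
      obtain ⟨m, hm, -, hmX⟩ := D.two_to_X hL12 hL1X
      have hmL : ∀ a ∈ L, m * a * m⁻¹ = a := fun a ha => by
        rw [D.dtrick' (hLT ha) hm (hmX a (hLL1 ha)), mul_inv_cancel_right]
      have hN' : ¬ normalizer ((L1.map (MulAut.conj m).toMonoidHom : Subgroup G) : Set G) ≤ D.Γ :=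
        fun h' => h fun y hy => by
          have := h' (show m * y * m⁻¹ ∈ normalizer
              ((L1.map (MulAut.conj m).toMonoidHom : Subgroup G) : Set G) from mem_normalizer_of_conj_mem (by
            rintro _ ⟨a, ha, rfl⟩
            exact ⟨y * a * y⁻¹, (mem_normalizer_iff.1 hy a).1 ha, by simp [MulAut.conj_apply, mul_assoc]⟩))
          simpa [mul_assoc] using mul_mem (mul_mem (inv_mem (D.hKΓ hm)) this) (D.hKΓ hm)
      have hle := hmax.2 (y := L1.map (MulAut.conj m).toMonoidHom)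
        ⟨hL12.map _, (by rintro _ ⟨a, ha, rfl⟩; exact hmX a ha), hN'⟩ (fun a ha => ⟨a, hLL1 ha, hmL a ha⟩)
      refine hlt fun a ha => ?_
      have h' : m * a * m⁻¹ ∈ L := hle ⟨a, ha, rfl⟩
      have h2 : m * a * m⁻¹ = a := mul_left_cancel (mul_right_cancel (hmL _ h'))
      rwa [h2] at h'
    exact ⟨k, mem_subgroupOf.2 (hk hkN), rfl⟩
  obtain ⟨u', hu'⟩ : ∃ u', u' ∉ Y := by
    by_contra h; push Not at h; exact hYne (top_unique fun a _ => h a)
  let Dq : Subgroup (K ⧸ N) := Y ⊓ Y.map (MulAut.conj u').toMonoidHom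
  have hodd : Odd (Nat.card Dq) := hSE.2.2 u' hu'
  -- lifts
  let lift : Dq → G := fun q => ((q : K ⧸ N).out : K)
  have hliftX : ∀ q, lift q ∈ D.Γ := fun q => hYmem _ (by rw [QuotientGroup.out_eq']; exact q.2.1)
  have hliftmul : ∀ a b : Dq, ∃ l ∈ L, lift (a * b) = lift a * lift b * l := fun a b => by
    set x := (((a * b : Dq) : K ⧸ N)).out
    set y := ((a : K ⧸ N)).out * ((b : K ⧸ N)).out
    have h : (y : K ⧸ N) = (x : K ⧸ N) := by
      rw [QuotientGroup.mk_mul, QuotientGroup.out_eq', QuotientGroup.out_eq', QuotientGroup.out_eq']; rfl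
    refine ⟨_, mem_subgroupOf.1 (QuotientGroup.eq.1 h), ?_⟩
    show (x : G) = (y : G) * ((y⁻¹ * x : K) : G)
    simp
  have hlift1 : lift 1 ∈ L := by
    obtain ⟨l, hl, he⟩ := hliftmul 1 1
    rw [mul_one, mul_assoc, left_eq_mul, mul_eq_one_iff_eq_inv] at he
    exact he ▸ L.inv_mem hl
  let gMh : Dq →* AddMonoid.End M :=
    { toFun := fun q => D.gMΓ (lift q)
      map_one' := D.gMΓ_T (hLT hlift1)
      map_mul' := fun a b => by
        obtain ⟨l, hl, he⟩ := hliftmul a b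
        rw [he, D.gMΓ_mul (mul_mem (hliftX a) (hliftX b)) (D.hXΓ (hLX hl)), D.gMΓ_mul (hliftX a) (hliftX b),
          D.gMΓ_T (hLT hl), mul_one] }
  let gZh : Dq →* AddMonoid.End Zc :=
    { toFun := fun q => D.gZΓ (lift q)
      map_one' := D.gZΓ_T (hLT hlift1)
      map_mul' := fun a b => by
        obtain ⟨l, hl, he⟩ := hliftmul a b
        rw [he, D.gZΓ_mul (mul_mem (hliftX a) (hliftX b)) (D.hXΓ (hLX hl)), D.gZΓ_mul (hliftX a) (hliftX b),
          D.gZΓ_T (hLT hl), mul_one] }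
  have hcop : ¬ (2 ^ D.Sp.n + 1) ∣ Nat.card Dq := fun h => D.hrG (D.hrn ▸ h.trans
    ((Subgroup.card_subgroup_dvd_card Dq).trans
      ((Subgroup.card_quotient_dvd_card N).trans (Subgroup.card_subgroup_dvd_card K))))
  refine ⟨Dq, inferInstance, inferInstance,
    { gM := gMh, gZ := gZh
      hB := fun g m n => D.gZΓ_B (hliftX g) m n
      hQ := fun g m => D.gZΓ_Qf (hliftX g) m
      hcomm := fun g => DFunLike.ext _ _ fun m => D.gMΓ_a (hliftX g) m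
      hfixZs := fun g z hz => D.gZΓ_fixZs (hliftX g) hz
      hodd := hodd
      hcop := hcop
      htrans := ?_
      hq := D.card_W ▸ D.four_le_card_W }, fun t ht g => ?_⟩
  · intro z z' hz hz'
    have hz1 : D.ω z ≠ 1 := fun h => hz ((D.hω_one z).1 h)
    have hz'1 : D.ω z' ≠ 1 := fun h => hz' ((D.hω_one z').1 h)
    obtain ⟨hs, hsY⟩ := hmkW _ (D.hω_mem z) hz1
    obtain ⟨hs', hs'Y⟩ := hmkW _ (D.hω_mem z') hz'1
    have hxy : ((1 : K ⧸ N) : (K ⧸ N) ⧸ Y) ≠ ((u' : K ⧸ N) : (K ⧸ N) ⧸ Y) := fun h => hu' (by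
      have := QuotientGroup.eq.1 h
      simpa using this)
    obtain ⟨d, hdx, hdy, hd⟩ := StrongEmbedding.two_point_transitive hSE hxy hs
      (StrongEmbedding.mem_iff_smul_base.1 hsY) hs' (StrongEmbedding.mem_iff_smul_base.1 hs'Y)
    refine ⟨⟨d, StrongEmbedding.mem_inf_map_conj_iff.2 ⟨hdx, hdy⟩⟩, ?_⟩
    rw [← D.ω_eq_iff]
    show D.ω (D.gZΓ _ z) = D.ω z'
    set k : K := d.out with hk
    have hk' : (k : K ⧸ N) = d := QuotientGroup.out_eq' d
    rw [← hk'] at hd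
    set a : K := k * ⟨D.ω z, hWK _ (D.hω_mem z)⟩ * k⁻¹ with ha
    have h1 : ((a⁻¹ * ⟨D.ω z', hWK _ (D.hω_mem z')⟩ : K) : G) ∈ L :=
      mem_subgroupOf.1 (QuotientGroup.eq.1 (show (a : K ⧸ N) = _ from hd))
    have hkX : (k : G) ∈ D.Γ := hYmem k (by
      rw [hk']; exact StrongEmbedding.mem_iff_smul_base.2 hdx)
    have h1' : ((k : G) * D.ω z * (k : G)⁻¹)⁻¹ * D.ω z' ∈ L := h1
    have haX : (k : G) * D.ω z * (k : G)⁻¹ ∈ D.X := by
      have h := mul_mem (D.W_mem_X (D.hω_mem z')) (inv_mem (hLX h1'))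
      simpa [mul_assoc] using h
    have he := D.gZΓ_spec hkX z haX
    rw [he] at h1'
    have h2 := hLW _ h1' (D.W.mul_mem (D.W.inv_mem (D.hω_mem _)) (D.hω_mem z'))
    exact inv_mul_eq_one.1 h2
  · show D.gMΓ (lift g) (D.π t) = D.π t
    have hc : lift g * t * (lift g)⁻¹ = t := by
      show ((g : K ⧸ N).out : G) * t * ((g : K ⧸ N).out : G)⁻¹ = t
      rw [← mem_centralizer_iff.1 ((g : K ⧸ N).out).2 t (hL0 ht), mul_inv_cancel_right]
    rw [← D.gMΓ_spec (hliftX g) (hLT (hL0 ht)) (by rw [hc]; exact hLX (hL0 ht)), hc]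

theorem exists_sym_of_singular {x : M} (hx : D.Sp.Qf x ∈ D.Sp.Zs) (hx0 : x ≠ 0) :
    ∃ (Γ : Type u) (_ : Group Γ) (_ : Finite Γ) (Y : Space.Sym D.Sp Γ), ∀ g, Y.gM g x = x := by
  have : Fact (Nat.Prime 2) := ⟨Nat.prime_two⟩
  obtain ⟨t, ht, rfl⟩ := D.hπ_surj x
  have htW : t ∉ D.W := fun h => hx0 (D.π_W h)
  have ht2 := (D.sq_eq_one_iff ht).2 hx
  obtain ⟨w, hw, htw, hbad⟩ : ∃ w ∈ D.W, t * w = w * t ∧ ¬ centralizer ({t * w} : Set G) ≤ D.Γ := by
    by_contra h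
    push Not at h
    exact D.no_good_involution ht2 (D.T_le_X ht) htW h
  have hto : orderOf (t * w) = 2 := Involutions.orderOf_eq_two_iff_mul.2
    ⟨fun h => htW (by rw [mul_eq_one_iff_eq_inv.1 h, D.W_inv hw]; exact hw),
      by rw [mul_assoc, ← mul_assoc w, ← htw, mul_assoc t w w, D.W_sq hw, mul_one, ht2]⟩
  obtain ⟨Γ, i1, i2, Y, hY⟩ := D.exists_sym (L0 := zpowers (t * w))
    (zpowers_le.2 (mul_mem (D.T_le_X ht) (D.W_mem_X hw))) (Involutions.isPGroup_two_zpowers hto)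
    fun h => hbad fun k hk => h (mem_normalizer_of_conj_mem fun a ha => by
      obtain ⟨i, rfl⟩ := mem_zpowers_iff.1 ha
      have hc : Commute k ((t * w) ^ i) :=
        (show Commute k (t * w) from mem_centralizer_singleton_iff.1 hk).zpow_right i
      rw [hc.eq, mul_inv_cancel_right]; exact ha)
  refine ⟨Γ, i1, i2, Y, fun g => ?_⟩
  have := hY _ (mem_zpowers _) g
  rwa [D.hπ_mul t ht w hw.1, D.π_W hw, add_zero] at this

/-- The space has no singular vector. -/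
theorem anisotropic {x : M} (hx : D.Sp.Qf x ∈ D.Sp.Zs) : x = 0 := by
  by_contra hx0
  have hsing : ∀ y, D.Sp.Qf y ∈ D.Sp.Zs → ∀ j : ℕ, D.Sp.B y ((D.Sp.a ^ j) y) ∈ D.Sp.Zs := by
    intro y hy j
    rcases eq_or_ne y 0 with rfl | hy0
    · simp
    obtain ⟨Γ, i1, i2, Y, hY⟩ := D.exists_sym_of_singular hy hy0
    refine Y.no_fixed fun g => ?_
    have hfix : ∀ i : ℕ, Y.gM g ((D.Sp.a ^ i) y) = (D.Sp.a ^ i) y := by
      intro i
      induction i with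
      | zero => simpa using hY g
      | succ i ih => rw [pow_succ', AddMonoid.End.coe_mul, Function.comp_apply, Y.gM_a, ih]
    rw [Y.hB, hY g, hfix, D.Sp.hZ2]
    exact D.Sp.Zs.zero_mem
  obtain ⟨Γ, i1, i2, Y, hY⟩ := D.exists_sym_of_singular hx hx0
  refine D.Sp.sing_main Y (L := D.Sp.span x) (D.Sp.span_inv x) (D.Sp.span_ne_bot hx0)
    (D.Sp.B_span (hsing x hx)) (fun g u hu => ?_) hsing
  induction hu using AddSubgroup.closure_induction with
  | mem u hu =>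
    obtain ⟨i, rfl⟩ := hu
    induction i with
    | zero => simpa using hY g
    | succ i ih =>
      show Y.gM g ((D.Sp.a ^ (i + 1)) x) = (D.Sp.a ^ (i + 1)) x
      rw [pow_succ', AddMonoid.End.coe_mul, Function.comp_apply, Y.gM_a]
      exact congrArg _ ih
  | zero => exact map_zero _
  | add a b _ _ ha hb => rw [map_add, ha, hb]
  | neg a _ ha => rw [map_neg, ha]

theorem numerics : D.Sp.Zs = ⊥ ∧ D.Sp.Zs.index = 2 ^ D.Sp.n ∧ Nat.card M = D.Sp.b := by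
  have hbot : normalizer ((⊥ : Subgroup G) : Set G) = ⊤ := Subgroup.normalizer_eq_top_iff.2 inferInstance
  obtain ⟨Γ, i1, i2, Y, -⟩ := D.exists_sym (L0 := ⊥) bot_le IsPGroup.of_bot
    fun h => D.hΓne (top_unique (hbot ▸ h))
  exact D.Sp.anis_main Y fun x hx => D.anisotropic hx

theorem involution_T {t : G} (ht : t ∈ D.T) (h2 : t * t = 1) : t ∈ D.W :=
  D.mem_W_of_π ht (D.anisotropic ((D.sq_eq_one_iff ht).1 h2))

/-- `Γ` is strongly embedded. -/
theorem Γ_stronglyEmbedded : Cfsg.IsStronglyEmbedded D.Γ := by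
  obtain ⟨w0, hw0, hw01⟩ : ∃ x ∈ D.W, x ≠ 1 := by
    by_contra h; push Not at h; exact D.W_ne_bot ((Subgroup.eq_bot_iff_forall _).2 h)
  refine Involutions.isStronglyEmbedded_of_normalizers D.hΓne
    (Involutions.even_card_of_involution_mem (D.W_mem_Γ hw0) (D.W_orderOf hw0 hw01)) ?_
  intro L0 hL0Γ hL02 hne
  by_contra hN0
  obtain ⟨m, hm, -, hmX⟩ := D.two_to_X hL02 hL0Γ
  set L := L0.map (MulAut.conj m).toMonoidHom with hLdef
  have hLX : L ≤ D.X := by rintro _ ⟨a, ha, rfl⟩; exact hmX a ha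
  have hN : ¬ normalizer (L : Set G) ≤ D.Γ := fun h => hN0 fun y hy => by
    have := h (show m * y * m⁻¹ ∈ normalizer (L : Set G) from mem_normalizer_of_conj_mem (by
      rintro _ ⟨a, ha, rfl⟩
      exact ⟨y * a * y⁻¹, (mem_normalizer_iff.1 hy a).1 ha, by simp [MulAut.conj_apply, mul_assoc]⟩))
    simpa [mul_assoc] using mul_mem (mul_mem (inv_mem (D.hKΓ hm)) this) (D.hKΓ hm)
  have hL2 : IsPGroup 2 L := hL02.map _
  have hLT := D.bad_le_T hLX hL2 hN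
  have hLW : ∀ x ∈ L, x ∈ D.W → x = 1 := fun x hx hxW => by
    by_contra hx1
    exact hN fun k hk => D.mem_Γ_of_conj hxW hx1 (D.hXΓ (hLX ((mem_normalizer_iff.1 hk x).1 hx)))
  refine hne ((Subgroup.eq_bot_iff_forall _).2 fun a ha => ?_)
  have haL : m * a * m⁻¹ ∈ L := ⟨a, ha, rfl⟩
  exact conj_eq_one_iff.1 (hLW _ haL (D.involution_T (hLT haL)
    (hLW _ (L.mul_mem haL haL) (D.sq_mem_W (hLT haL)))))

/-- Every involution of `X` lies in `W`. -/
theorem involution_X {t : G} (ht : t ∈ D.X) (h2 : t * t = 1) : t ∈ D.W := by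
  by_contra htW
  refine D.no_good_involution h2 ht htW fun w hw htw => ?_
  refine Involutions.se_centralizer_le D.Γ_stronglyEmbedded (mul_mem (D.hXΓ ht) (D.W_mem_Γ hw))
    (Involutions.orderOf_eq_two_iff_mul.2 ⟨fun h => htW ?_, ?_⟩)
  · rw [mul_eq_one_iff_eq_inv.1 h, D.W_inv hw]; exact hw
  · rw [mul_assoc, ← mul_assoc w, ← htw, mul_assoc t w w, D.W_sq hw, mul_one, h2]

/-- `K` is trivial. -/
theorem K_eq_bot : D.K = ⊥ := by
  have := D.hp_fact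
  have hse := D.Γ_stronglyEmbedded
  have hn : (D.K.subgroupOf D.Γ).Normal := normal_subgroupOf_of_le_normalizer D.hΓK
  have hKodd : Odd (Nat.card (D.K.subgroupOf D.Γ)) := by
    rw [Nat.card_congr (Subgroup.subgroupOfEquivOfLe D.hKΓ).toEquiv]
    obtain ⟨i, hi⟩ := IsPGroup.iff_card.1 D.hKp
    exact hi ▸ (D.hp.odd_of_ne_two D.hp2).pow
  have hle : D.K ≤ Cfsg.oddCore G := fun k hk =>
    Cfsg.Agent.S1221.result D.Γ hse ⟨⟨k, D.hKΓ hk⟩, BenderTrans.le_oddCore' hn hKodd (mem_subgroupOf.2 hk), rfl⟩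
  rcases D.hnorm (Cfsg.oddCore G) (Subgroup.normal_of_characteristic _)
    (characteristic_iff_map_eq.1 inferInstance D.α) with h | h
  · rw [h, le_bot_iff] at hle; exact hle
  · obtain ⟨w0, hw0, hw01⟩ : ∃ x ∈ D.W, x ≠ 1 := by
      by_contra h; push Not at h; exact D.W_ne_bot ((Subgroup.eq_bot_iff_forall _).2 h)
    have hev : Even (Nat.card (⊤ : Subgroup G)) :=
      Involutions.even_card_of_involution_mem (mem_top w0) (D.W_orderOf hw0 hw01)
    rw [← h] at hev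
    exact absurd (BenderTrans.odd_card_oddCore' G) (Nat.not_odd_iff_even.2 hev)

theorem Γ_eq_X : D.Γ = D.X := le_antisymm (fun g hg => by
  obtain ⟨k, hk, x, hx, rfl⟩ := D.hdec g hg
  rw [D.K_eq_bot, mem_bot] at hk
  rwa [hk, one_mul]) D.hXΓ

/-- `X` is strongly embedded. -/
theorem X_stronglyEmbedded : Cfsg.IsStronglyEmbedded D.X := D.Γ_eq_X ▸ D.Γ_stronglyEmbedded

end GBar

end CfsgLib.FlavellHHS
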