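import Cfsg.Agent.Lib.FlavellHHS.BarSE
import Cfsg.Agent.Lib.FlavellFpf.EndCount
import Cfsg.Agent.Lib.BenderTrans.Main
import Cfsg.Agent.Lib.Coprime.SchurZassenhaus
import Cfsg.Agent.Lib.StrongEmbedding.Swap

/-!
The final contradiction: `X` is transitive on its other conjugates, so `C(α) ≤ X`, and then the stabiliser
of two points is centralized by `α`, and an involution interchanging them cannot exist.
-/

set_option autoImplicit false
set_option linter.unusedSectionVars false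
set_option maxHeartbeats 400000

namespace CfsgLib.FlavellHHS

open Subgroup CfsgLib.CoprimeCentral CfsgLib.FlavellFpf
open scoped Pointwise

universe u v w

variable {G : Type u} [Group G]

/-- The index of the stabiliser of two points in a stabiliser transitive on the other points. -/
theorem relIndex_trans [Finite G] {X : Subgroup G} {c : G} (hc : c ∉ X)
    (htr : ∀ g, g ∉ X → ∃ x ∈ X, (x * c)⁻¹ * g ∈ X) :
    (X ⊓ X.map (MulAut.conj c).toMonoidHom).relIndex X + 1 = X.index := by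
  classical
  set y : G ⧸ X := (c : G ⧸ X) with hy
  have hstab : MulAction.stabilizer X y = (X ⊓ X.map (MulAut.conj c).toMonoidHom).subgroupOf X := by
    ext x
    rw [MulAction.mem_stabilizer_iff, mem_subgroupOf, StrongEmbedding.mem_inf_map_conj_iff,
      ← StrongEmbedding.mem_iff_smul_base]
    exact ⟨fun h => ⟨x.2, h⟩, fun h => h.2⟩
  have horb : MulAction.orbit X y = {z | z ≠ ((1 : G) : G ⧸ X)} := by
    ext z
    induction z using QuotientGroup.induction_on with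
    | H g =>
    constructor
    · rintro ⟨x, hx⟩ he
      have h := QuotientGroup.eq.1 ((show ((x * c : G) : G ⧸ X) = (g : G ⧸ X) from hx).trans he)
      refine hc ?_
      have h' := mul_mem (inv_mem x.2) (inv_mem h)
      simpa using h'
    · intro hne
      obtain ⟨x, hx, hxg⟩ := htr g fun hg => hne (QuotientGroup.eq.2 (by simpa using inv_mem hg))
      exact ⟨⟨x, hx⟩, QuotientGroup.eq.2 hxg⟩
  have h := Nat.card_congr (MulAction.orbitEquivQuotientStabilizer X y)
  rw [hstab, horb] at h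
  have : Fintype (G ⧸ X) := Fintype.ofFinite _
  rw [Subgroup.relIndex, Subgroup.index, ← h, Nat.card_eq_fintype_card]
  show Fintype.card {z : G ⧸ X // z ≠ ((1 : G) : G ⧸ X)} + 1 = _
  rw [Fintype.card_subtype_compl, Fintype.card_subtype_eq, Subgroup.index, Nat.card_eq_fintype_card,
    Nat.sub_add_cancel Fintype.card_pos]

namespace GBar

variable [Finite G] {M : Type v} [AddCommGroup M] [Finite M] {Zc : Type w}
  [AddCommGroup Zc] [Finite Zc] {p r : ℕ} (D : GBar G M Zc p r)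

theorem card_W_eq : Nat.card D.W = 2 ^ D.Sp.n := D.card_W.trans D.numerics.2.1

theorem b_eq : D.b = 2 ^ D.Sp.n * 2 ^ D.Sp.n := by
  rw [← pow_add, ← two_mul]
  show D.b = D.Sp.b
  rw [← D.numerics.2.2]
  let f : D.T ⧸ D.W.subgroupOf D.T → M := fun q => D.π (q.out : D.T)
  refine Nat.card_congr (Equiv.ofBijective f ⟨fun a b h => ?_, fun m => ?_⟩)
  · rw [← a.out_eq, ← b.out_eq]
    exact Quotient.sound (QuotientGroup.leftRel_apply.2
      (mem_subgroupOf.2 ((D.π_eq_iff a.out.2 b.out.2).1 h)))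
  · obtain ⟨t, ht, rfl⟩ := D.hπ_surj m
    refine ⟨((⟨t, ht⟩ : D.T) : D.T ⧸ D.W.subgroupOf D.T), ?_⟩
    refine (D.π_eq_iff (SetLike.coe_mem _) ht).2 ?_
    set y : D.T := ((⟨t, ht⟩ : D.T) : D.T ⧸ D.W.subgroupOf D.T).out with hy
    have h : (y : D.T ⧸ D.W.subgroupOf D.T) = ((⟨t, ht⟩ : D.T) : D.T ⧸ D.W.subgroupOf D.T) :=
      QuotientGroup.out_eq' _
    exact mem_subgroupOf.1 (QuotientGroup.eq.1 h)

theorem card_T : Nat.card D.T = 2 ^ D.Sp.n * (2 ^ D.Sp.n * 2 ^ D.Sp.n) := by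
  rw [← D.b_eq, ← D.card_W_eq, Bar0.b, ← Subgroup.relIndex_bot_left D.W, ← Subgroup.relIndex_bot_left D.T,
    Subgroup.relIndex_mul_relIndex _ _ _ bot_le D.W_le_T]

/-- The fixed part of `X`. -/
theorem index_X : D.X.index = D.pi * D.X.relIndex (fixedSub D.α) := by
  set C := fixedSub D.α
  have : (D.T.subgroupOf D.X).Normal := (Subgroup.normal_subgroupOf_iff_le_normalizer D.T_le_X).2 D.X_le_NT
  have hsup : D.T.subgroupOf D.X ⊔ (D.X ⊓ C).subgroupOf D.X = ⊤ := by
    rw [eq_top_iff]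
    rintro ⟨x, hx⟩ -
    obtain ⟨t, ht, c, hcX, hc, rfl⟩ := D.exists_eq_T_mul hx
    have h1 : (⟨t, D.T_le_X ht⟩ : D.X) ∈ D.T.subgroupOf D.X := mem_subgroupOf.2 ht
    have h2 : (⟨c, hcX⟩ : D.X) ∈ (D.X ⊓ C).subgroupOf D.X := mem_subgroupOf.2 (mem_inf.2 ⟨hcX, hc⟩)
    exact Subgroup.mul_mem_sup h1 h2
  have hk : D.T.relIndex (D.X ⊓ C) = D.T.relIndex D.X := by
    have e1 := Subgroup.relIndex_sup_right ((D.X ⊓ C).subgroupOf D.X) (D.T.subgroupOf D.X)
    rw [sup_comm, hsup, Subgroup.relIndex_top_right, Subgroup.relIndex_subgroupOf inf_le_left] at e1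
    exact e1.symm
  have hW : D.T ⊓ (D.X ⊓ C) = D.W := by
    ext x
    exact ⟨fun h => ⟨h.1, h.2.2⟩, fun h => ⟨h.1, D.T_le_X h.1, h.2⟩⟩
  have eXC : Nat.card D.W * D.T.relIndex D.X = Nat.card ↥(D.X ⊓ C) := by
    have := Subgroup.relIndex_mul_relIndex ⊥ (D.T ⊓ (D.X ⊓ C)) (D.X ⊓ C) bot_le inf_le_right
    rwa [Subgroup.relIndex_bot_left, Subgroup.relIndex_bot_left, Subgroup.inf_relIndex_right, hW, hk] at this
  have eX : Nat.card D.T * D.T.relIndex D.X = Nat.card D.X := by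
    have := Subgroup.relIndex_mul_relIndex ⊥ D.T D.X bot_le D.T_le_X
    rwa [Subgroup.relIndex_bot_left, Subgroup.relIndex_bot_left] at this
  have eT : Nat.card D.W * D.b = Nat.card D.T := by
    have := Subgroup.relIndex_mul_relIndex ⊥ D.W D.T bot_le D.W_le_T
    rwa [Subgroup.relIndex_bot_left, Subgroup.relIndex_bot_left] at this
  have eC : Nat.card ↥(D.X ⊓ C) * D.X.relIndex C = Nat.card C := by
    have := Subgroup.relIndex_mul_relIndex ⊥ (D.X ⊓ C) C bot_le inf_le_right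
    rwa [Subgroup.relIndex_bot_left, Subgroup.relIndex_bot_left, Subgroup.inf_relIndex_right] at this
  have hG : Nat.card D.X * D.X.index = Nat.card C * (D.pi * D.b) := by
    rw [D.X.card_mul_index, ← D.fixed_index, C.card_mul_index]
  rw [← eX, ← eC, ← eT, ← eXC] at hG
  have hb : 0 < D.b := Nat.pos_of_ne_zero Subgroup.index_ne_zero_of_finite
  have hk0 : 0 < D.T.relIndex D.X := Nat.pos_of_ne_zero Subgroup.index_ne_zero_of_finite
  refine Nat.eq_of_mul_eq_mul_left (Nat.mul_pos (Nat.mul_pos (Nat.card_pos (α := D.W)) hb) hk0) ?_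
  rw [hG]; ring

theorem relIndex_XC : (D.X ⊓ fixedSub D.α).relIndex D.X = D.b := by
  have hsup : (D.X ⊓ fixedSub D.α) ⊔ D.T = D.X := le_antisymm (sup_le inf_le_left D.T_le_X) fun x hx => by
    obtain ⟨t, ht, c, hcX, hc, rfl⟩ := D.exists_eq_T_mul hx
    exact mul_mem (mem_sup_right ht) (mem_sup_left ⟨hcX, hc⟩)
  have hW : D.T ⊓ (D.X ⊓ fixedSub D.α) = D.W := by
    ext x
    exact ⟨fun h => ⟨h.1, h.2.2⟩, fun h => ⟨h.1, D.T_le_X h.1, h.2⟩⟩
  have h := Coprime.card_sup_mul_card_inf (H := D.X ⊓ fixedSub D.α) (N := D.T) (inf_le_left.trans D.X_le_NT)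
  rw [hsup, hW] at h
  have e1 := Subgroup.relIndex_mul_relIndex ⊥ (D.X ⊓ fixedSub D.α) D.X bot_le inf_le_left
  rw [Subgroup.relIndex_bot_left, Subgroup.relIndex_bot_left] at e1
  have e2 : Nat.card D.W * D.b = Nat.card D.T := by
    have := Subgroup.relIndex_mul_relIndex ⊥ D.W D.T bot_le D.W_le_T
    rwa [Subgroup.relIndex_bot_left, Subgroup.relIndex_bot_left] at this
  rw [← e1, ← e2] at h
  refine Nat.eq_of_mul_eq_mul_left (Nat.mul_pos (Nat.card_pos (α := ↥(D.X ⊓ fixedSub D.α)))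
    (Nat.card_pos (α := D.W))) ?_
  linarith

theorem free_W {x : G} (hx : x ∈ D.T) (h2 : orderOf x = 2) {g : G} (h : g⁻¹ * x * g ∈ D.X) : g ∈ D.X := by
  have hxW : x ∈ D.W := D.involution_T hx (Involutions.mul_self_eq_one h2)
  have := D.mem_Γ_of_conj (g := g⁻¹) hxW (Involutions.ne_one_of_involution h2) (by rw [inv_inv]; exact D.hXΓ h)
  rw [D.Γ_eq_X] at this
  simpa using inv_mem this

theorem modEq_T : D.pi * D.X.relIndex (fixedSub D.α) ≡ 1 [MOD Nat.card D.T] :=
  D.index_X ▸ index_modEq_one D.T_two D.T_le_X fun _ hx h2 _ h => D.free_W hx h2 h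

theorem modEq_W : D.X.relIndex (fixedSub D.α) ≡ 1 [MOD Nat.card D.W] := by
  have h := index_modEq_one (A := D.W.subgroupOf (fixedSub D.α)) (X := D.X.subgroupOf (fixedSub D.α))
    ((D.W_two).comap_subtype) (fun x hx => mem_subgroupOf.2 (D.W_mem_X (mem_subgroupOf.1 hx)))
    fun x hx h2 g h => mem_subgroupOf.2 (D.free_W (mem_subgroupOf.1 hx).1
      (by rwa [Subgroup.orderOf_coe]) (mem_subgroupOf.1 h))
  rwa [Nat.card_congr (Subgroup.subgroupOfEquivOfLe D.W_le_fixed).toEquiv] at h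

/-- The cosets of the fixed part of `P` other than itself are moved in cycles of length `r`. -/
theorem pi_modEq : D.pi ≡ 1 [MOD r] := by
  classical
  set d : D.P → G := fun x => D.α x * (x : G)⁻¹ with hd
  have hdiff : ∀ x y : D.P, d x = d y ↔ (x : G)⁻¹ * y ∈ fixedSub D.α := fun x y => by
    show D.α x * (x : G)⁻¹ = D.α y * (y : G)⁻¹ ↔ D.α ((x : G)⁻¹ * y) = (x : G)⁻¹ * y
    rw [map_mul, map_inv]
    constructor
    · intro h
      calc (D.α x)⁻¹ * D.α y = (D.α x)⁻¹ * (D.α y * (y : G)⁻¹) * y := by group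
        _ = (x : G)⁻¹ * y := by rw [← h]; group
    · intro h
      calc D.α x * (x : G)⁻¹ = D.α x * ((x : G)⁻¹ * y) * (y : G)⁻¹ := by group
        _ = D.α y * (y : G)⁻¹ := by rw [← h]; group
  let S := Set.range d
  let e : D.P ⧸ (D.P ⊓ fixedSub D.α).subgroupOf D.P → S := fun a => ⟨d a.out, a.out, rfl⟩
  have he : Function.Bijective e := by
    refine ⟨fun a b h => ?_, ?_⟩
    · rw [← a.out_eq', ← b.out_eq']
      refine QuotientGroup.eq.2 (mem_subgroupOf.2 ⟨(a.out⁻¹ * b.out).2, ?_⟩)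
      exact (hdiff _ _).1 (congrArg Subtype.val h)
    · rintro ⟨_, x, rfl⟩
      refine ⟨(x : D.P ⧸ _), Subtype.ext ((hdiff _ _).2 ?_)⟩
      exact (mem_subgroupOf.1 ((QuotientGroup.eq (s := (D.P ⊓ fixedSub D.α).subgroupOf D.P)).1
        (QuotientGroup.out_eq' (x : D.P ⧸ (D.P ⊓ fixedSub D.α).subgroupOf D.P)))).2
  have hpi : D.pi = Nat.card S := Nat.card_congr (Equiv.ofBijective e he)
  have hS : ∀ z : S, D.α z ∈ S := by
    rintro ⟨_, x, rfl⟩
    exact ⟨⟨D.α x, D.P_inv.apply_mem x.2⟩, by simp [hd]⟩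
  let σ : Equiv.Perm S := Equiv.ofBijective (fun z => ⟨D.α z, hS z⟩)
    (Finite.injective_iff_bijective.1 fun a b h =>
      Subtype.ext (D.α.injective (congrArg Subtype.val h)))
  have hσ : ∀ (k : ℕ) (z : S), ((σ ^ k) z : G) = (D.α ^ k) z := by
    intro k
    induction k with
    | zero => intro z; simp
    | succ k ih =>
      intro z
      rw [pow_succ', pow_succ', MulAut.mul_apply, Equiv.Perm.mul_apply, ← ih]
      rfl
  rw [hpi]
  refine (card_modEq_fixed D.hr σ (Equiv.ext fun z => Subtype.ext ?_)).trans ((?_ : _ = 1) ▸ Nat.ModEq.refl _)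
  · rw [hσ, D.hαr]; rfl
  have key : ∀ a : {z : S // σ z = z}, (a.1 : G) = 1 := by
    rintro ⟨⟨z, x, hx⟩, hz⟩
    have hzf : D.α z = z := congrArg Subtype.val hz
    have hx' : D.α x = z * x := by rw [← hx, hd, inv_mul_cancel_right]
    have hp : ∀ i : ℕ, (D.α ^ i) (x : G) = z ^ i * x := by
      intro i
      induction i with
      | zero => simp
      | succ i ih => rw [pow_succ', MulAut.mul_apply, ih, map_mul, map_pow, hzf, hx', ← mul_assoc, ← pow_succ]
    have h1 := hp r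
    rw [D.hαr, MulAut.one_apply, right_eq_mul] at h1
    by_contra hz1
    exact D.hrG (orderOf_eq_prime (hp := ⟨D.hr⟩) h1 hz1 ▸ orderOf_dvd_natCard z)
  refine Nat.card_eq_one_iff_unique.2 ⟨⟨fun a b => Subtype.ext (Subtype.ext ((key a).trans (key b).symm))⟩,
    ⟨⟨⟨1, ⟨1, D.P.one_mem⟩, by simp [hd]⟩, Subtype.ext (map_one D.α)⟩⟩⟩

theorem exists_W_ne : ∃ z ∈ D.W, z ≠ 1 := by
  by_contra h
  push Not at h
  exact D.W_ne_bot ((Subgroup.eq_bot_iff_forall _).2 h)

include D in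
theorem hasFour : BenderTrans.HasFour G := by
  obtain ⟨z, hz, hz1⟩ := D.exists_W_ne
  obtain ⟨w, hw, hwz, hw1⟩ : ∃ w ∈ D.W, w ≠ z ∧ w ≠ 1 := by
    by_contra h
    push Not at h
    classical
    have h4 := D.four_le_card_W
    have := Fintype.ofFinite D.W
    have hsub : (Finset.univ : Finset D.W) ⊆ {(1 : D.W), (⟨z, hz⟩ : D.W)} := fun y _ => by
      by_cases hy : (y : G) = z
      · exact Finset.mem_insert_of_mem (Finset.mem_singleton.2 (Subtype.ext hy))
      · exact Finset.mem_insert.2 (Or.inl (Subtype.ext (h y y.2 hy)))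
    have := (Finset.card_le_card hsub).trans Finset.card_le_two
    rw [Finset.card_univ, ← Nat.card_eq_fintype_card] at this
    omega
  exact ⟨z, w, D.W_orderOf hz hz1, D.W_orderOf hw hw1, hwz.symm, D.W_comm hz hw⟩

/-- `X` is transitive on the other cosets. -/
theorem trans_X {c g : G} (hc : c ∉ D.X) (hg : g ∉ D.X) : ∃ x ∈ D.X, (x * c)⁻¹ * g ∈ D.X := by
  have h2 := BenderTrans.twoTrans_of_stronglyEmbedded (fun X i j hX => @PF.oddSolvable X i j hX)
    D.X_stronglyEmbedded D.hasFour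
  have hne : ∀ y, y ∉ D.X → ((y : G) : G ⧸ D.X) ≠ ((1 : G) : G ⧸ D.X) := fun y hy h =>
    hy (by simpa using inv_mem (QuotientGroup.eq.1 h))
  obtain ⟨x, hx, hxc⟩ := h2 _ _ _ (hne c hc) (hne g hg)
  exact ⟨x, StrongEmbedding.mem_iff_smul_base.2 hx,
    QuotientGroup.eq.1 (show ((x * c : G) : G ⧸ D.X) = (g : G ⧸ D.X) from hxc)⟩

theorem two_stab_odd {g : G} (hg : g ∉ D.X) :
    Odd (Nat.card ↥(D.X ⊓ D.X.map (MulAut.conj g).toMonoidHom)) := D.X_stronglyEmbedded.2.2 g hg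

theorem T_inf_odd {L : Subgroup G} (hL : Odd (Nat.card L)) : D.T ⊓ L = ⊥ := by
  have : Fact (Nat.Prime 2) := ⟨Nat.prime_two⟩
  refine Subgroup.eq_bot_of_card_eq _ ?_
  obtain ⟨i, hi⟩ := IsPGroup.iff_card.1 (D.T_two.to_le (inf_le_left : D.T ⊓ L ≤ D.T))
  rcases i with _ | i
  · exact hi
  · exfalso
    have h2 : 2 ∣ Nat.card L := (hi ▸ dvd_pow_self 2 i.succ_ne_zero).trans
      (Subgroup.card_dvd_of_le inf_le_right)
    exact (Nat.not_even_iff_odd.2 hL) (even_iff_two_dvd.2 h2)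

/-- A subgroup of `X` of odd order is conjugate under `T` into the fixed subgroup. -/
theorem exists_conj_fixed {L : Subgroup G} (hLX : L ≤ D.X) (hL : Odd (Nat.card L)) :
    ∃ t ∈ D.T, ∀ l ∈ L, D.α (t * l * t⁻¹) = t * l * t⁻¹ := by
  have : Fact (Nat.Prime 2) := ⟨Nat.prime_two⟩
  set E := L ⊔ D.T with hE
  have hEX : E ≤ D.X := sup_le hLX D.T_le_X
  have hTE : D.T ≤ E := le_sup_right
  set Ec := E ⊓ fixedSub D.α with hEc
  have hLT : D.T ⊓ L = ⊥ := D.T_inf_odd hL
  have hcE : Nat.card E = Nat.card L * Nat.card D.T :=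
    Coprime.card_sup_of_disjoint (hLX.trans D.X_le_NT) hLT
  have hsup : Ec ⊔ D.T = E := by
    refine le_antisymm (sup_le inf_le_left hTE) fun x hx => ?_
    obtain ⟨t, ht, c, -, hc, rfl⟩ := D.exists_eq_T_mul (hEX hx)
    have hcE : c ∈ E := by simpa using mul_mem (inv_mem (hTE ht)) hx
    exact mul_mem (mem_sup_right ht) (mem_sup_left ⟨hcE, hc⟩)
  have hWE : D.T ⊓ Ec = D.W := by
    ext x
    exact ⟨fun h => ⟨h.1, h.2.2⟩, fun h => ⟨h.1, hTE h.1, h.2⟩⟩
  have h1 := Coprime.card_sup_mul_card_inf (H := Ec) (N := D.T) ((inf_le_left.trans hEX).trans D.X_le_NT)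
  rw [hsup, hWE, hcE] at h1
  have hcEc : Nat.card Ec = Nat.card L * Nat.card D.W := by
    refine Nat.eq_of_mul_eq_mul_right (Nat.card_pos (α := D.T)) ?_
    rw [← h1]; ring
  set W' := D.W.subgroupOf Ec with hW'
  have : W'.Normal := normal_subgroupOf_of_le_normalizer fun x hx => mem_normalizer_of_conj_mem
    fun w hw => D.conj_mem_W (hEX hx.1) hw
  have hcW' : Nat.card W' = Nat.card D.W :=
    Nat.card_congr (Subgroup.subgroupOfEquivOfLe (hWE ▸ inf_le_right : D.W ≤ Ec)).toEquiv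
  have hidx : W'.index = Nat.card L := by
    have h := W'.card_mul_index
    rw [hcW', hcEc, mul_comm (Nat.card L)] at h
    exact Nat.eq_of_mul_eq_mul_left Nat.card_pos h
  have hcop : ∀ {A : Subgroup G}, IsPGroup 2 A → (Nat.card A).Coprime (Nat.card L) := fun {A} hA => by
    obtain ⟨i, hi⟩ := IsPGroup.iff_card.1 hA
    rw [hi]
    exact Nat.Coprime.pow_left i (Nat.coprime_two_left.2 hL)
  obtain ⟨K0, hK0⟩ := Subgroup.exists_right_complement'_of_coprime (N := W')
    (by rw [hidx, hcW']; exact hcop D.W_two)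
  have hcK0 : Nat.card K0 = Nat.card L := by rw [← hidx, ← hK0.symm.index_eq_card]
  set K := K0.map Ec.subtype with hK
  have hKEc : K ≤ Ec := Subgroup.map_subtype_le _
  have hKE : K ≤ E := hKEc.trans inf_le_left
  set N := D.T.subgroupOf E with hN
  have : N.Normal := normal_subgroupOf_of_le_normalizer (hEX.trans D.X_le_NT)
  have hcN : Nat.card N = Nat.card D.T := Nat.card_congr (Subgroup.subgroupOfEquivOfLe hTE).toEquiv
  have hNidx : N.index = Nat.card L := by
    have h := N.card_mul_index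
    rw [hcN, hcE, mul_comm (Nat.card L)] at h
    exact Nat.eq_of_mul_eq_mul_left Nat.card_pos h
  have : Group.IsSolvable N := by
    have := (D.T_two.to_le le_rfl).isNilpotent
    exact Group.isSolvable_of_isSolvable_injective (f := (Subgroup.subgroupOfEquivOfLe hTE).toMonoidHom)
      (MulEquiv.injective _)
  obtain ⟨x, hx, he⟩ := Coprime.conj_complement_of_card N (by rw [hcN, hNidx]; exact hcop D.T_two)
    (Or.inl this) (L.subgroupOf E) (K.subgroupOf E)
    (by rw [hNidx, Nat.card_congr (Subgroup.subgroupOfEquivOfLe (le_sup_left : L ≤ E)).toEquiv])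
    (by rw [hNidx, Nat.card_congr (Subgroup.subgroupOfEquivOfLe hKE).toEquiv, hK,
      Subgroup.card_map_of_injective Ec.subtype_injective, hcK0])
  refine ⟨x, mem_subgroupOf.1 hx, fun l hl => ?_⟩
  have h : MulAut.conj x • (⟨l, (le_sup_left : L ≤ E) hl⟩ : E) ∈ MulAut.conj x • L.subgroupOf E :=
    Subgroup.smul_mem_pointwise_smul _ _ _ (mem_subgroupOf.2 hl)
  rw [he] at h
  exact (hKEc (mem_subgroupOf.1 h)).2

/-- If `C(α)` is not contained in `X`, the numbers do not fit. -/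
theorem fixed_le_X : fixedSub D.α ≤ D.X := by
  intro c hc
  by_contra hcX
  set C := fixedSub D.α
  set D0 := D.X ⊓ D.X.map (MulAut.conj c).toMonoidHom with hD0
  have hD0i : Inv D.α D0 := by
    refine D.X_inv.inf (inv_of_forall ?_)
    rintro _ ⟨x, hx, rfl⟩
    exact ⟨D.α x, D.X_inv.apply_mem hx, by simp [MulAut.conj_apply, show D.α c = c from hc]⟩
  have hD0C : D0 ≤ C := moved_eq_bot_iff.1 (le_bot_iff.1 ((le_inf ((moved_mono inf_le_left).trans
    D.moved_X.le) (moved_le hD0i)).trans (D.T_inf_odd (D.two_stab_odd hcX)).le))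
  have h1 := relIndex_trans hcX fun g hg => D.trans_X hcX hg
  have h2 := relIndex_trans (X := D.X.subgroupOf C) (c := ⟨c, hc⟩) (fun h => hcX (mem_subgroupOf.1 h))
    fun g hg => by
      have hgX : (g : G) ∉ D.X := fun h => hg (mem_subgroupOf.2 h)
      obtain ⟨x, hx, hxg⟩ := D.trans_X hcX hgX
      have hdis : x⁻¹ * D.α x ∈ D0 := by
        refine mem_inf.2 ⟨mul_mem (inv_mem hx) (D.X_inv.apply_mem hx), ?_⟩
        have h' := D.X_inv.apply_mem hxg
        rw [map_mul, map_inv, map_mul, show D.α c = c from hc, show D.α (g : G) = g from g.2] at h'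
        exact ⟨_, mul_mem hxg (inv_mem h'), by simp only [MulEquiv.coe_toMonoidHom, MulAut.conj_apply]; group⟩
      obtain ⟨k, hk, hxk⟩ := exists_fixed_in_coset D.hr D.hαr D.hrG hD0i hdis
      obtain ⟨y, hy, hyk⟩ := hk.2
      refine ⟨⟨x * k, hxk⟩, mem_subgroupOf.2 (mul_mem hx hk.1), mem_subgroupOf.2 ?_⟩
      show (x * k * c)⁻¹ * (g : G) ∈ D.X
      have hyk' : c * y * c⁻¹ = k := hyk
      rw [← hyk', show (x * (c * y * c⁻¹) * c)⁻¹ * (g : G) = y⁻¹ * ((x * c)⁻¹ * g) by group]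
      exact mul_mem (inv_mem hy) hxg
  -- `|X : D0| = b |X ∩ C : D0|`
  set XC := D.X ⊓ C with hXC
  have hD0XC : D0 ≤ XC := le_inf inf_le_left hD0C
  have h3 : ((D.X.subgroupOf C) ⊓ (D.X.subgroupOf C).map (MulAut.conj (⟨c, hc⟩ : C)).toMonoidHom).relIndex
      (D.X.subgroupOf C) = D0.relIndex XC := by
    rw [← Subgroup.relIndex_map_map_of_injective _ _ (f := C.subtype) C.subtype_injective,
      Subgroup.subgroupOf_map_subtype]
    congr 1
    ext x
    constructor
    · rintro ⟨d, ⟨hd1, d', hd', rfl⟩, rfl⟩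
      exact ⟨mem_subgroupOf.1 hd1, d', mem_subgroupOf.1 hd', rfl⟩
    · intro hx
      obtain ⟨hxX, y, hy, hyx⟩ := hx
      have hyx' : c * y * c⁻¹ = x := hyx
      have hxC : x ∈ C := hD0C ⟨hxX, y, hy, hyx⟩
      have hyC : y ∈ C := by
        rw [show y = c⁻¹ * x * c by rw [← hyx']; group]
        exact mul_mem (mul_mem (inv_mem hc) hxC) hc
      exact ⟨⟨x, hxC⟩, ⟨mem_subgroupOf.2 hxX, ⟨y, hyC⟩, mem_subgroupOf.2 hy, Subtype.ext hyx'⟩, rfl⟩
  have hb : XC.relIndex D.X = D.b := D.relIndex_XC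
  have h4 := Subgroup.relIndex_mul_relIndex D0 XC D.X hD0XC inf_le_left
  rw [h3] at h2
  rw [hb] at h4
  rw [← h4, D.index_X] at h1
  -- the arithmetic
  have hT := D.modEq_T
  rw [D.card_T] at hT
  have hW := D.modEq_W
  rw [D.card_W_eq] at hW
  have hr := (congrArg (fun m => D.pi ≡ 1 [MOD m]) D.hrn).mp D.pi_modEq
  have hq4 := D.four_le_card_W
  rw [D.card_W_eq] at hq4
  rw [D.b_eq] at h1
  have he : D.X.relIndex C ≠ 1 := fun e => hcX (Subgroup.relIndex_eq_one.1 e hc)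
  change D0.relIndex XC + 1 = D.X.relIndex C at h2
  generalize 2 ^ D.Sp.n = q at hT hW hr hq4 h1
  generalize D.X.relIndex C = e at hT hW h1 h2 he
  generalize D.pi = n at hT hr h1
  generalize D0.relIndex XC = m at h1 h2
  subst h2
  obtain ⟨hm, hn⟩ : 1 ≤ m ∧ 1 ≤ n := ⟨by omega, by
    rcases Nat.eq_zero_or_pos n with rfl | h
    · rw [zero_mul] at h1; omega
    · exact h⟩
  have hnq : n ≡ 1 [MOD q] := by
    have h1' : n * (m + 1) ≡ 1 [MOD q] := hT.of_dvd (dvd_mul_right _ _)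
    have h2' : n * (m + 1) ≡ n * 1 [MOD q] := hW.mul_left n
    rw [mul_one] at h2'
    exact h2'.symm.trans h1'
  rcases eq_or_lt_of_le hn with rfl | hn1
  · nlinarith [Nat.mul_le_mul_left m (Nat.mul_le_mul hq4 hq4)]
  · have h : n ≡ 1 [MOD q * (q + 1)] :=
      (Nat.modEq_and_modEq_iff_modEq_mul (Nat.coprime_self_add_right.2 (Nat.coprime_one_right q))).1 ⟨hnq, hr⟩
    have hd : q * (q + 1) ∣ n - 1 := (Nat.modEq_iff_dvd' (by omega)).1 h.symm
    have hle := Nat.le_of_dvd (by omega) hd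
    have hn2 : q * q + 1 ≤ n := by nlinarith [Nat.sub_add_cancel (show 1 ≤ n by omega)]
    nlinarith [Nat.mul_le_mul_right (m + 1) hn2]

include D in
/-- There is no such group. -/
theorem contradiction : False := by
  classical
  have : Fact (Nat.Prime 2) := ⟨Nat.prime_two⟩
  have hCX := D.fixed_le_X
  obtain ⟨g0, hg0⟩ : ∃ g, g ∉ D.X := by
    by_contra h; push Not at h; exact D.X_ne_top (top_unique fun a _ => h a)
  obtain ⟨t, ht, htf⟩ := D.exists_conj_fixed (L := D.X ⊓ D.X.map (MulAut.conj g0).toMonoidHom) inf_le_left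
    (D.two_stab_odd hg0)
  set h := t * g0 with hh
  have hhX : h ∉ D.X := fun e => hg0 (by simpa [hh] using mul_mem (inv_mem (D.T_le_X ht)) e)
  set D0 := D.X ⊓ D.X.map (MulAut.conj h).toMonoidHom with hD0
  have hD0f : ∀ d ∈ D0, D.α d = d := by
    rintro d ⟨hdX, y, hy, rfl⟩
    have hm : t⁻¹ * (MulAut.conj h y) * t ∈ D.X ⊓ D.X.map (MulAut.conj g0).toMonoidHom :=
      mem_inf.2 ⟨mul_mem (mul_mem (inv_mem (D.T_le_X ht)) hdX) (D.T_le_X ht), y, hy, by
        simp only [MulEquiv.coe_toMonoidHom, MulAut.conj_apply, hh]; group⟩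
    have e := htf _ hm
    rwa [show t * (t⁻¹ * (MulAut.conj h y) * t) * t⁻¹ = MulAut.conj h y by group] at e
  have hD0T := D.T_inf_odd (D.two_stab_odd hhX)
  -- transitivity of the two point stabiliser on `W`
  have htp : ∀ z ∈ D.W, z ≠ 1 → ∀ z' ∈ D.W, z' ≠ 1 → ∃ d ∈ D0, d * z * d⁻¹ = z' := by
    intro z hz hz1 z' hz' hz'1
    have hxy : ((1 : G) : G ⧸ D.X) ≠ ((h : G) : G ⧸ D.X) := fun e => hhX (by simpa using QuotientGroup.eq.1 e)
    obtain ⟨d, hdx, hdy, hd⟩ := StrongEmbedding.two_point_transitive D.X_stronglyEmbedded hxy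
      (D.W_orderOf hz hz1) (StrongEmbedding.mem_iff_smul_base.1 (D.W_mem_X hz)) (D.W_orderOf hz' hz'1)
      (StrongEmbedding.mem_iff_smul_base.1 (D.W_mem_X hz'))
    exact ⟨d, StrongEmbedding.mem_inf_map_conj_iff.2 ⟨hdx, hdy⟩, hd⟩
  have hcent : ∀ z ∈ D.W, (∀ d ∈ D0, d * z = z * d) → z = 1 := by
    intro z hz hcomm
    by_contra hz1
    obtain ⟨z1, z2, hz1o, hz2o, hne, -⟩ := D.hasFour
    obtain ⟨w, hw, hwz, hw1⟩ : ∃ w ∈ D.W, w ≠ z ∧ w ≠ 1 := by
      by_contra hh'
      push Not at hh'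
      have h4 := D.four_le_card_W
      have := Fintype.ofFinite D.W
      have hsub : (Finset.univ : Finset D.W) ⊆ {(1 : D.W), (⟨z, hz⟩ : D.W)} := fun y _ => by
        by_cases hy : (y : G) = z
        · exact Finset.mem_insert_of_mem (Finset.mem_singleton.2 (Subtype.ext hy))
        · exact Finset.mem_insert.2 (Or.inl (Subtype.ext (hh' y y.2 hy)))
      have := (Finset.card_le_card hsub).trans Finset.card_le_two
      rw [Finset.card_univ, ← Nat.card_eq_fintype_card] at this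
      omega
    obtain ⟨d, hd, he⟩ := htp z hz hz1 w hw hw1
    exact hwz (by rw [← he, hcomm d hd, mul_inv_cancel_right])
  set L := normalizer (D0 : Set G) with hL
  have hLi : Inv D.α L := (inv_of_le_fixedSub fun d hd => hD0f d hd).normalizer
  -- a `2`-element of `X` normalizing `D0` in `T` centralizes it
  have hTL : ∀ a ∈ D.T, a ∈ L → ∀ d ∈ D0, d * a = a * d := by
    intro a ha haL d hd
    have h1 : a * d * a⁻¹ * d⁻¹ ∈ D.T ⊓ D0 := by
      refine ⟨?_, D0.mul_mem ((mem_normalizer_iff.1 haL d).1 hd) (D0.inv_mem hd)⟩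
      rw [show a * d * a⁻¹ * d⁻¹ = a * (d * a⁻¹ * d⁻¹) by group]
      exact D.T.mul_mem ha (D.conj_mem_T hd.1 (D.T.inv_mem ha))
    rw [hD0T, mem_bot] at h1
    exact (mul_inv_eq_iff_eq_mul.1 (mul_inv_eq_one.1 h1)).symm
  have hT1 : ∀ a ∈ D.T, a ∈ L → a = 1 := by
    intro a ha haL
    have hsq := hcent _ (D.sq_mem_W ha) fun d hd => (show Commute d (a * a) from
      (show Commute d a from hTL a ha haL d hd).mul_right (hTL a ha haL d hd))
    exact hcent a (D.involution_T ha hsq) (hTL a ha haL)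
  obtain ⟨S, hSL, hS2, hSidx, hSi⟩ := exists_invariant_sylowOf (p := 2) D.hr D.hαr D.hrG L hLi
  have hmv : moved D.α S = ⊥ := by
    obtain ⟨c, hc, hle⟩ := D.moved_le_conj hS2 hSi
    refine (Subgroup.eq_bot_iff_forall _).2 fun a ha => hT1 a ?_ (hSL (moved_le hSi ha))
    obtain ⟨y, hy, rfl⟩ := hle ha
    exact D.conj_mem_T (hCX hc) hy
  have hSC : S ≤ fixedSub D.α := moved_eq_bot_iff.1 hmv
  have hS : S = ⊥ := by
    by_contra hne
    obtain ⟨a, ha⟩ : ∃ a : S, orderOf a = 2 := by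
      refine exists_prime_orderOf_dvd_card' 2 ?_
      obtain ⟨i, hi⟩ := IsPGroup.iff_card.1 hS2
      rcases i with _ | i
      · exact absurd (S.eq_bot_of_card_eq hi) hne
      · rw [hi]; exact dvd_pow_self 2 i.succ_ne_zero
    rw [← Subgroup.orderOf_coe] at ha
    exact Involutions.ne_one_of_involution ha (hT1 _ (D.involution_X (hCX (hSC a.2))
      (Involutions.mul_self_eq_one ha)).1 (hSL a.2))
  rw [hS, Subgroup.relIndex_bot_left] at hSidx
  -- but an involution interchanging the two points normalizes `D0`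
  have hxy : ((1 : G) : G ⧸ D.X) ≠ ((h : G) : G ⧸ D.X) := fun e => hhX (by simpa using QuotientGroup.eq.1 e)
  obtain ⟨z, hz, hz1⟩ := D.exists_W_ne
  obtain ⟨s, hs, hsy⟩ := StrongEmbedding.exists_involution_fixing D.X_stronglyEmbedded ((h : G) : G ⧸ D.X)
  obtain ⟨v, hv, -, hvx⟩ := StrongEmbedding.exists_mid D.X_stronglyEmbedded (D.W_orderOf hz hz1) hs
    (StrongEmbedding.mem_iff_smul_base.1 (D.W_mem_X hz)) hsy hxy
  have hvy : v • ((h : G) : G ⧸ D.X) = ((1 : G) : G ⧸ D.X) := by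
    rw [← hvx, StrongEmbedding.smul_self_of_involution hv]
  have hvL : v ∈ L := mem_normalizer_of_conj_mem fun d hd => by
    obtain ⟨h1, h2⟩ := StrongEmbedding.mem_inf_map_conj_iff.1 hd
    refine StrongEmbedding.mem_inf_map_conj_iff.2 ⟨?_, ?_⟩
    · rw [mul_smul, mul_smul, Involutions.inv_eq_self_of_involution hv, hvx, h2, hvy]
    · rw [mul_smul, mul_smul, Involutions.inv_eq_self_of_involution hv, hvy, h1, hvx]
  exact hSidx (hv ▸ Subgroup.orderOf_dvd_natCard L hvL)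

end GBar

end CfsgLib.FlavellHHS
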