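import Cfsg.Agent.Lib.FlavellHHS.Local

/-!
The subgroup `Γ = K X`: conjugation of `2`-subgroups into `X`, and normalized conjugating elements.
-/

set_option autoImplicit false
set_option linter.unusedSectionVars false

namespace CfsgLib.FlavellHHS

open Subgroup CfsgLib.CoprimeCentral CfsgLib.FlavellFpf
open scoped commutatorElement Pointwise

universe u v w

/-- The central quotient with the subgroup `Γ = K X` containing all proper invariant overgroups of `T`. -/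
structure GBar (G : Type u) [Group G] [Finite G] (M : Type v) [AddCommGroup M] (Zc : Type w) [AddCommGroup Zc]
    (p r : ℕ) extends Bar G M Zc p r where
  Γ : Subgroup G
  K : Subgroup G
  hΓi : Inv α Γ
  hKi : Inv α K
  hΓne : Γ ≠ ⊤
  hKp : IsPGroup p K
  hΓK : Γ ≤ normalizer (K : Set G)
  hKΓ : K ≤ Γ
  hXΓ : toBar0.X ≤ Γ
  hdec : ∀ g ∈ Γ, ∃ k ∈ K, ∃ x ∈ toBar0.X, g = k * x
  hmax : ∀ L : Subgroup G, Inv α L → L ≠ ⊤ → toBar0.T ≤ L → L ≤ Γ
  hsmall : Nat.card toBar0.W < 4 → K = ⊥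

/-- Every central quotient has such a subgroup. -/
theorem Bar.exists_gbar {G : Type u} [Group G] [Finite G] {M : Type v} [AddCommGroup M] [Finite M] {Zc : Type w}
    [AddCommGroup Zc] [Finite Zc] {p r : ℕ} (D : Bar G M Zc p r) : Nonempty (GBar G M Zc p r) := by
  obtain ⟨Γ, K, h1, h2, h3, h4, h5, h6, h7, h8, h9, h10⟩ := D.exists_local
  exact ⟨{ D with Γ := Γ, K := K, hΓi := h1, hKi := h2, hΓne := h3, hKp := h4, hΓK := h5, hKΓ := h6,
                  hXΓ := h7, hdec := h8, hmax := h9, hsmall := h10 }⟩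

namespace GBar

variable {G : Type u} [Group G] [Finite G] {M : Type v} [AddCommGroup M] [Finite M] {Zc : Type w}
  [AddCommGroup Zc] [Finite Zc] {p r : ℕ} (D : GBar G M Zc p r)

theorem T_le_Γ : D.T ≤ D.Γ := D.T_le_X.trans D.hXΓ

theorem W_mem_Γ {x : G} (hx : x ∈ D.W) : x ∈ D.Γ := D.T_le_Γ hx.1

theorem K_conj {g k : G} (hg : g ∈ D.Γ) (hk : k ∈ D.K) : g * k * g⁻¹ ∈ D.K :=
  (mem_normalizer_iff.1 (D.hΓK hg) k).1 hk

theorem eq_one_of_K_two {U : Subgroup G} (hU : IsPGroup 2 U) {k : G} (hk : k ∈ D.K) (hkU : k ∈ U) : k = 1 := by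
  have := D.hp_fact
  have : Fact (Nat.Prime 2) := ⟨Nat.prime_two⟩
  exact mem_bot.1 (eq_bot_of_two_and_p D.hp2 (D.hKp.to_le (inf_le_left : D.K ⊓ U ≤ D.K))
    (hU.to_le inf_le_right) ▸ ⟨hk, hkU⟩)

theorem eq_one_of_K_T {k : G} (hk : k ∈ D.K) (hkT : k ∈ D.T) : k = 1 := D.eq_one_of_K_two D.T_two hk hkT

/-- The centralizer of an element of `W` lies in `Γ`. -/
theorem mem_Γ_of_commute {x g : G} (hx : x ∈ D.W) (hx1 : x ≠ 1) (h : g * x = x * g) : g ∈ D.Γ := by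
  obtain ⟨hi, hT, -⟩ := D.W_normalizes_cv hx
  exact D.hmax _ hi (D.cv_ne_top hx1) hT (mem_centralizer_singleton_iff.2 h)

theorem normalizer_le_Γ {E : Subgroup G} (hE : Inv D.α E) (h0 : E ≠ ⊥) (hne : E ≠ ⊤)
    (hT : D.T ≤ normalizer (E : Set G)) : normalizer (E : Set G) ≤ D.Γ :=
  D.hmax _ hE.normalizer
    (fun h => (D.hnorm E (Subgroup.normalizer_eq_top_iff.1 h) hE).elim h0 hne) hT

/-- An element of `K` in `X` is fixed and centralizes `T`. -/
theorem K_X {k : G} (hk : k ∈ D.K) (hkX : k ∈ D.X) : D.α k = k ∧ ∀ t ∈ D.T, k * t = t * k := by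
  refine ⟨(inv_mul_eq_one.1 (D.eq_one_of_K_T (D.K.mul_mem (D.K.inv_mem hk) (D.hKi.apply_mem hk))
    (D.displacement_mem_T hkX))).symm, fun t ht => ?_⟩
  exact (mem_centralizer_iff.1 (D.cent_of_mem_NT D.hKp (D.T_le_Γ.trans D.hΓK) hk (D.X_le_NT hkX)) t ht).symm

theorem gM_K {k : G} (hk : k ∈ D.K) (hkX : k ∈ D.X) : D.gM k = 1 := by
  obtain ⟨hf, hc⟩ := D.K_X hk hkX
  refine DFunLike.ext _ _ fun m => ?_
  obtain ⟨t, ht, rfl⟩ := D.hπ_surj m
  rw [← D.hgM k hkX hf t ht, hc t ht, mul_inv_cancel_right]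
  rfl

/-- An element of `K` conjugating an element of `T` into `X` centralizes it. -/
theorem dtrick {t k : G} (ht : t ∈ D.T) (hk : k ∈ D.K) (h : k⁻¹ * t * k ∈ D.X) : k * t = t * k := by
  set k' := t⁻¹ * (k⁻¹ * t * k) with hk'
  have hk'K : k' ∈ D.K := by
    rw [hk', show t⁻¹ * (k⁻¹ * t * k) = (t⁻¹ * k⁻¹ * t⁻¹⁻¹) * k by group]
    exact D.K.mul_mem (D.K_conj (inv_mem (D.T_le_Γ ht)) (D.K.inv_mem hk)) hk
  have hk'X : k' ∈ D.X := mul_mem (inv_mem (D.T_le_X ht)) h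
  have hc : Commute k' t := (D.K_X hk'K hk'X).2 t ht
  obtain ⟨j, hj⟩ := D.T_two ⟨t, ht⟩
  have hj' : t ^ 2 ^ j = 1 := congrArg Subtype.val hj
  have h1 : k' ^ 2 ^ j = 1 := by
    calc k' ^ 2 ^ j = (t * k') ^ 2 ^ j := by rw [hc.symm.mul_pow, hj', one_mul]
      _ = (k⁻¹ * t * k) ^ 2 ^ j := by rw [hk', mul_inv_cancel_left]
      _ = 1 := by
        have := conj_pow (i := 2 ^ j) (a := k⁻¹) (b := t)
        rw [inv_inv] at this
        rw [this, hj', mul_one, inv_mul_cancel]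
  have hz : IsPGroup 2 (zpowers k') := by
    rintro ⟨g, hg⟩
    obtain ⟨i, rfl⟩ := mem_zpowers_iff.1 hg
    refine ⟨j, Subtype.ext ?_⟩
    show (k' ^ i) ^ 2 ^ j = 1
    rw [← zpow_natCast, ← zpow_mul, mul_comm, zpow_mul, zpow_natCast, h1, one_zpow]
  have hk1 := D.eq_one_of_K_two hz hk'K (mem_zpowers k')
  rw [hk', inv_mul_eq_one] at hk1
  calc k * t = k * (k⁻¹ * t * k) := by rw [← hk1]
    _ = t * k := by group

theorem dtrick' {t k : G} (ht : t ∈ D.T) (hk : k ∈ D.K) (h : k * t * k⁻¹ ∈ D.X) : k * t = t * k :=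
  (Commute.inv_left_iff.1 (show Commute k⁻¹ t from D.dtrick ht (D.K.inv_mem hk) (by rwa [inv_inv]))).eq

/-- A conjugate in `X` by an element of `K` of a fixed element of `X` is fixed. -/
theorem fixed_of_conj_K {c k : G} (hcX : c ∈ D.X) (hc : D.α c = c) (hk : k ∈ D.K) (h : k * c * k⁻¹ ∈ D.X) :
    D.α (k * c * k⁻¹) = k * c * k⁻¹ := by
  set d := c⁻¹ * (k * c * k⁻¹) with hd
  have hdK : d ∈ D.K := by
    rw [hd, show c⁻¹ * (k * c * k⁻¹) = (c⁻¹ * k * c⁻¹⁻¹) * k⁻¹ by group]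
    exact D.K.mul_mem (D.K_conj (inv_mem (D.hXΓ hcX)) hk) (D.K.inv_mem hk)
  obtain ⟨hf, -⟩ := D.K_X hdK (mul_mem (inv_mem hcX) h)
  have e : k * c * k⁻¹ = c * d := by rw [hd]; group
  rw [e, map_mul, hc, hf]

/-- The fixed elements of `Γ` have fixed components in `K`. -/
theorem fixed_part {c k x : G} (hc : D.α c = c) (hk : k ∈ D.K) (hx : x ∈ D.X) (he : c = k * x) :
    D.α k = k ∧ D.α x = x := by
  have hkx : D.α k * D.α x = k * x := by rw [← map_mul, ← he, hc]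
  have h1 : k⁻¹ * D.α k = x * (x⁻¹ * D.α x)⁻¹ * x⁻¹ := by
    calc k⁻¹ * D.α k = k⁻¹ * (D.α k * D.α x) * (D.α x)⁻¹ := by group
      _ = _ := by rw [hkx]; group
  have h2 : k⁻¹ * D.α k = 1 := D.eq_one_of_K_T (D.K.mul_mem (D.K.inv_mem hk) (D.hKi.apply_mem hk))
    (h1 ▸ D.conj_mem_T hx (D.T.inv_mem (D.displacement_mem_T hx)))
  have hkf : D.α k = k := (inv_mul_eq_one.1 h2).symm
  rw [hkf, mul_right_inj] at hkx
  exact ⟨hkf, hkx⟩

/-- A `2`-subgroup of `Γ` lies in the conjugate of `Q` by an element of `Γ`, fixed if it is invariant. -/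
theorem exists_conj_Q {U : Subgroup G} (hU : IsPGroup 2 U) (hUΓ : U ≤ D.Γ) :
    ∃ g ∈ D.Γ, (Inv D.α U → D.α g = g) ∧ ∀ u ∈ U, g⁻¹ * u * g ∈ D.Q := by
  have : Fact (Nat.Prime 2) := ⟨Nat.prime_two⟩
  set Y := D.Γ
  have hQY : D.Q ≤ Y := D.Q_le_X.trans D.hXΓ
  have hi : Inv (resAut D.hΓi) (D.Q.subgroupOf Y) := inv_of_forall fun x hx => D.Q_inv.apply_mem hx
  obtain ⟨S1, hS1⟩ := (D.Q_two.comap_subtype (K := Y)).exists_le_sylow
  have hS1e : (S1 : Subgroup Y) = D.Q.subgroupOf Y := by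
    refine (eq_of_le_of_card_ge hS1 ?_).symm
    obtain ⟨S0, hS0⟩ := D.Q_sylow
    obtain ⟨S3, hS3⟩ := (S1.2.map Y.subtype).exists_le_sylow
    show _ ≤ Nat.card (D.Q.subgroupOf Y)
    rw [Nat.card_congr (Subgroup.subgroupOfEquivOfLe hQY).toEquiv, ← hS0, S0.card_eq_multiplicity,
      ← S3.card_eq_multiplicity, ← Subgroup.card_map_of_injective (K := (S1 : Subgroup Y)) Y.subtype_injective]
    exact Subgroup.card_le_of_le hS3
  by_cases hUi : Inv D.α U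
  · have hrY : ¬ r ∣ Nat.card Y := fun h => D.hrG (h.trans Y.card_subgroup_dvd_card)
    obtain ⟨S2, hUS2, hS2i⟩ := exists_invariant_sylow_ge (p := 2) D.hr (resAut_pow_eq_one D.hΓi D.hαr) hrY
      (U.subgroupOf Y) (hU.comap_subtype) (inv_of_forall fun x hx => hUi.apply_mem hx)
    obtain ⟨c, hc, hcS⟩ := exists_fixed_conj D.hr (resAut_pow_eq_one D.hΓi D.hαr) hrY S1 S2
      (hS1e ▸ hi) hS2i
    refine ⟨c, c.2, fun _ => congrArg Subtype.val hc, fun u hu => ?_⟩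
    have h : (⟨u, hUΓ hu⟩ : Y) ∈ (S2 : Subgroup Y) := hUS2 (mem_subgroupOf.2 hu)
    rw [← hcS, Sylow.coe_subgroup_smul] at h
    obtain ⟨q, hq, he⟩ := h
    have he' : (c : G) * q * (c : G)⁻¹ = u := congrArg Subtype.val he
    rw [← he']
    rw [show (c : G)⁻¹ * ((c : G) * q * (c : G)⁻¹) * c = q by group]
    exact mem_subgroupOf.1 (hS1e ▸ hq)
  · obtain ⟨S2, hS2⟩ := (hU.comap_subtype (K := Y)).exists_le_sylow
    obtain ⟨c, hcS⟩ := MulAction.exists_smul_eq Y S1 S2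
    refine ⟨c, c.2, fun h => absurd h hUi, fun u hu => ?_⟩
    have h : (⟨u, hUΓ hu⟩ : Y) ∈ (S2 : Subgroup Y) := hS2 (mem_subgroupOf.2 hu)
    rw [← hcS, Sylow.coe_subgroup_smul] at h
    obtain ⟨q, hq, he⟩ := h
    have he' : (c : G) * q * (c : G)⁻¹ = u := congrArg Subtype.val he
    rw [← he']
    rw [show (c : G)⁻¹ * ((c : G) * q * (c : G)⁻¹) * c = q by group]
    exact mem_subgroupOf.1 (hS1e ▸ hq)

/-- An element of `K` moves a `2`-subgroup of `Γ` into `X`. -/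
theorem two_to_X {U : Subgroup G} (hU : IsPGroup 2 U) (hUΓ : U ≤ D.Γ) :
    ∃ k ∈ D.K, (Inv D.α U → D.α k = k) ∧ ∀ u ∈ U, k * u * k⁻¹ ∈ D.X := by
  obtain ⟨g, hg, hgf, hgQ⟩ := D.exists_conj_Q hU hUΓ
  obtain ⟨k, hk, x, hx, rfl⟩ := D.hdec g hg
  refine ⟨k⁻¹, D.K.inv_mem hk, fun hUi => by rw [map_inv, (D.fixed_part (hgf hUi) hk hx rfl).1], fun u hu => ?_⟩
  have h := mul_mem (mul_mem hx (D.Q_le_X (hgQ u hu))) (inv_mem hx)
  rwa [show x * ((k * x)⁻¹ * u * (k * x)) * x⁻¹ = k⁻¹ * u * k⁻¹⁻¹ by group] at h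

/-- A fixed element conjugating `T` into `Γ` lies in `Γ`. -/
theorem fixed_mem_Γ {c : G} (hc : D.α c = c) (h : ∀ t ∈ D.T, c * t * c⁻¹ ∈ D.Γ) : c ∈ D.Γ := by
  have hi : Inv D.α (D.T.map (MulAut.conj c).toMonoidHom) := inv_of_forall (by
    rintro _ ⟨t, ht, rfl⟩
    exact ⟨D.α t, D.T_inv.apply_mem ht, by simp [MulAut.conj_apply, hc]⟩)
  obtain ⟨k, hk, hkf, hkX⟩ := D.two_to_X (D.T_two.map (MulAut.conj c).toMonoidHom)
    (by rintro _ ⟨t, ht, rfl⟩; exact h t ht)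
  have hkc : D.α (k * c) = k * c := by rw [map_mul, hkf hi, hc]
  have hle : D.T.map (MulAut.conj (k * c)).toMonoidHom ≤ D.X := by
    rintro _ ⟨t, ht, rfl⟩
    show k * c * t * (k * c)⁻¹ ∈ D.X
    rw [show k * c * t * (k * c)⁻¹ = k * (c * t * c⁻¹) * k⁻¹ by group]
    exact hkX _ ⟨t, ht, rfl⟩
  have h2 := (moved_mono (α := D.α) hle).trans D.moved_X.le
  rw [D.map_conj_moved hkc, D.moved_T] at h2
  have h3 : k * c ∈ D.X :=
    D.mem_X_of_fixed_NT (mem_normalizer_of_conj_mem fun t ht => h2 ⟨t, ht, rfl⟩) hkc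
  simpa using mul_mem (inv_mem (D.hKΓ hk)) (D.hXΓ h3)

/-- Conjugates of elements of `T` by `g` or `g⁻¹` lie in `Γ` only inside `X`. -/
structure Norm (g : G) : Prop where
  fwd : ∀ y ∈ D.T, g * y * g⁻¹ ∈ D.Γ → g * y * g⁻¹ ∈ D.X
  bwd : ∀ y ∈ D.T, g⁻¹ * y * g ∈ D.Γ → g⁻¹ * y * g ∈ D.X

theorem Norm.symm {g : G} (h : D.Norm g) : D.Norm g⁻¹ :=
  ⟨fun y hy hΓ => by simpa using h.bwd y hy (by simpa using hΓ),
    fun y hy hΓ => by simpa using h.fwd y hy (by simpa using hΓ)⟩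

theorem Norm.mul_left {g x : G} (h : D.Norm g) (hx : x ∈ D.X) : D.Norm (x * g) := by
  refine ⟨fun y hy hΓ => ?_, fun y hy hΓ => ?_⟩
  · have e : x * g * y * (x * g)⁻¹ = x * (g * y * g⁻¹) * x⁻¹ := by group
    rw [e] at hΓ ⊢
    have h' := h.fwd y hy (by
      have := mul_mem (mul_mem (inv_mem (D.hXΓ hx)) hΓ) (D.hXΓ hx)
      simpa [mul_assoc] using this)
    exact mul_mem (mul_mem hx h') (inv_mem hx)
  · have e : (x * g)⁻¹ * y * (x * g) = g⁻¹ * (x⁻¹ * y * x) * g := by group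
    rw [e] at hΓ ⊢
    refine h.bwd _ ?_ hΓ
    simpa using D.conj_mem_T (inv_mem hx) hy

/-- A conjugating element can be changed by elements of `K` into a normalized one. -/
theorem exists_norm {g x : G} (hx : x ∈ D.W) (hv : g * x * g⁻¹ ∈ D.Γ) :
    ∃ k1 ∈ D.K, ∃ k2 ∈ D.K, (D.α g = g → D.α k1 = k1 ∧ D.α k2 = k2) ∧ k2 * x = x * k2 ∧
      D.Norm (k1 * g * k2) ∧ k1 * g * k2 * x * (k1 * g * k2)⁻¹ ∈ D.X := by
  have : Fact (Nat.Prime 2) := ⟨Nat.prime_two⟩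
  set N' := D.Γ ⊓ D.Γ.map (MulAut.conj g).toMonoidHom with hN'
  have hmemN : ∀ z, z ∈ N' ↔ z ∈ D.Γ ∧ g⁻¹ * z * g ∈ D.Γ := fun z => by
    rw [hN', mem_inf]
    refine and_congr_right fun _ => ⟨?_, fun h => ⟨_, h, by simp [MulAut.conj_apply, mul_assoc]⟩⟩
    rintro ⟨y, hy, rfl⟩
    simpa [MulAut.conj_apply, mul_assoc] using hy
  have hN'i : D.α g = g → ∀ z, z ∈ N' → D.α z ∈ N' := fun hg z hz => by
    rw [hmemN] at hz ⊢
    refine ⟨D.hΓi.apply_mem hz.1, ?_⟩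
    have := D.hΓi.apply_mem hz.2
    rwa [map_mul, map_mul, map_inv, hg] at this
  let P : Subgroup G → Prop := fun U => IsPGroup 2 U ∧ U ≤ N' ∧ (D.α g = g → Inv D.α U)
  have hxx : x * x = 1 := mul_eq_one_iff_eq_inv.2 (D.W_inv hx).symm
  have h0 : P (zpowers (g * x * g⁻¹)) := by
    refine ⟨?_, zpowers_le.2 ((hmemN _).2 ⟨hv, by simpa [mul_assoc] using D.W_mem_Γ hx⟩), fun hg => ?_⟩
    · have hmap : zpowers (g * x * g⁻¹) = (zpowers x).map (MulAut.conj g).toMonoidHom := by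
        rw [MonoidHom.map_zpowers]; rfl
      rw [hmap]
      exact (D.T_two.to_le (zpowers_le.2 hx.1)).map _
    · refine inv_of_le_fixedSub (zpowers_le.2 ?_)
      have hxf : D.α x = x := hx.2
      show D.α (g * x * g⁻¹) = g * x * g⁻¹
      rw [map_mul, map_mul, map_inv, hg, hxf]
  obtain ⟨S', hvS, hmax⟩ := (Set.toFinite {U | P U}).exists_le_maximal (a := zpowers (g * x * g⁻¹)) h0
  have hS2 : P S' := hmax.1
  have hSi : ∀ {T' : Subgroup G}, P T' → S' ≤ T' → T' ≤ S' := fun h1 h2 => hmax.2 h1 h2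
  obtain ⟨k1, hk1, hk1f, hk1X⟩ := D.two_to_X hS2.1 (fun z hz => ((hmemN z).1 (hS2.2.1 hz)).1)
  obtain ⟨k2, hk2, hk2f, hk2X⟩ := D.two_to_X (hS2.1.map (MulAut.conj g⁻¹).toMonoidHom) (by
    rintro _ ⟨z, hz, rfl⟩
    simpa [MulAut.conj_apply] using ((hmemN z).1 (hS2.2.1 hz)).2)
  have hk2f' : D.α g = g → D.α k2 = k2 := fun hg => hk2f (inv_of_forall (by
    rintro _ ⟨z, hz, rfl⟩
    exact ⟨D.α z, (hS2.2.2 hg).apply_mem hz, by simp [MulAut.conj_apply, hg]⟩))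
  have hk2x : k2⁻¹ * x = x * k2⁻¹ := by
    refine D.dtrick hx.1 (D.K.inv_mem hk2) ?_
    have := hk2X _ ⟨g * x * g⁻¹, hvS (mem_zpowers _), rfl⟩
    simpa [MulAut.conj_apply, mul_assoc] using this
  refine ⟨k1, hk1, k2⁻¹, D.K.inv_mem hk2, fun hg => ⟨hk1f (hS2.2.2 hg), by rw [map_inv, hk2f' hg]⟩, hk2x, ?_, ?_⟩
  · -- normalized
    set g' := k1 * g * k2⁻¹ with hg'
    have hk1Γ := D.hKΓ hk1
    have hk2Γ := D.hKΓ hk2
    -- an element of `T` meeting both conjugates of `Γ` lies in the maximal subgroup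
    have key1 : ∀ y ∈ D.T, g'⁻¹ * y * g' ∈ D.Γ → k1⁻¹ * y * k1 ∈ S' := by
      intro y hy hyΓ
      let T1 := (D.T ⊓ D.Γ.map (MulAut.conj g').toMonoidHom).map (MulAut.conj k1⁻¹).toMonoidHom
      have hT1 : ∀ z, z ∈ T1 ↔ k1 * z * k1⁻¹ ∈ D.T ∧ g'⁻¹ * (k1 * z * k1⁻¹) * g' ∈ D.Γ := by
        intro z
        constructor
        · rintro ⟨a, ⟨haT, b, hb, rfl⟩, rfl⟩
          simp only [MulEquiv.coe_toMonoidHom, MulAut.conj_apply, inv_inv] at haT ⊢
          refine ⟨by simpa [mul_assoc] using haT, ?_⟩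
          convert (show b ∈ D.Γ from hb) using 1
          group
        · rintro ⟨h1, h2⟩
          refine ⟨k1 * z * k1⁻¹, ⟨h1, _, h2, ?_⟩, ?_⟩
          · simp [MulAut.conj_apply, mul_assoc]
          · simp [MulAut.conj_apply, mul_assoc]
      have hT1N : T1 ≤ N' := fun z hz => by
        obtain ⟨h1, h2⟩ := (hT1 z).1 hz
        refine (hmemN z).2 ⟨?_, ?_⟩
        · simpa [mul_assoc] using mul_mem (mul_mem (inv_mem hk1Γ) (D.T_le_Γ h1)) hk1Γ
        · have := mul_mem (mul_mem (inv_mem hk2Γ) h2) hk2Γ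
          convert this using 1
          rw [hg']; group
      have hn : S' ≤ normalizer (T1 : Set G) := fun s hs => mem_normalizer_of_conj_mem fun z hz => by
        obtain ⟨h1, h2⟩ := (hT1 z).1 hz
        refine (hT1 _).2 ⟨?_, ?_⟩
        · have := D.conj_mem_T (hk1X s hs) h1
          convert this using 1
          group
        · have hs2 := ((hmemN s).1 (hS2.2.1 hs)).2
          have := mul_mem (mul_mem (mul_mem (mul_mem hk2Γ hs2) (inv_mem hk2Γ)) h2)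
            (inv_mem (mul_mem (mul_mem hk2Γ hs2) (inv_mem hk2Γ)))
          convert this using 1
          rw [hg']; group
      have hT1' : P (T1 ⊔ S') := by
        refine ⟨((D.T_two.to_le inf_le_left).map _).to_sup_of_normal_left' hS2.1 hn, sup_le hT1N hS2.2.1,
          fun hg => Inv.sup ?_ (hS2.2.2 hg)⟩
        refine inv_of_forall fun z hz => (hT1 _).2 ?_
        obtain ⟨h1, h2⟩ := (hT1 z).1 hz
        have e1 : D.α k1 = k1 := hk1f (hS2.2.2 hg)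
        have e2 : D.α g' = g' := by rw [hg', map_mul, map_mul, map_inv, e1, hg, hk2f' hg]
        have h1' := D.T_inv.apply_mem h1
        have h2' := D.hΓi.apply_mem h2
        rw [map_mul, map_mul, map_inv, e1] at h1'
        rw [map_mul, map_mul, map_inv, e2, map_mul, map_mul, map_inv, e1] at h2'
        exact ⟨h1', h2'⟩
      refine hSi hT1' le_sup_right (mem_sup_left ((hT1 _).2 ⟨?_, ?_⟩))
      · simpa [mul_assoc] using hy
      · simpa [mul_assoc] using hyΓ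
    have key2 : ∀ y ∈ D.T, g' * y * g'⁻¹ ∈ D.Γ → g * k2⁻¹ * y * (g * k2⁻¹)⁻¹ ∈ S' := by
      intro y hy hyΓ
      let T1 := (D.T ⊓ D.Γ.map (MulAut.conj g'⁻¹).toMonoidHom).map (MulAut.conj (g * k2⁻¹)).toMonoidHom
      have hT1 : ∀ z, z ∈ T1 ↔ (g * k2⁻¹)⁻¹ * z * (g * k2⁻¹) ∈ D.T ∧ k1 * z * k1⁻¹ ∈ D.Γ := by
        intro z
        constructor
        · rintro ⟨a, ⟨haT, b, hb, rfl⟩, rfl⟩
          simp only [MulEquiv.coe_toMonoidHom, MulAut.conj_apply] at haT ⊢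
          refine ⟨?_, ?_⟩
          · convert (show _ ∈ D.T from haT) using 1; group
          · convert (show b ∈ D.Γ from hb) using 1; rw [hg']; group
        · rintro ⟨h1, h2⟩
          refine ⟨(g * k2⁻¹)⁻¹ * z * (g * k2⁻¹), ⟨h1, _, h2, ?_⟩, ?_⟩
          · simp only [MulEquiv.coe_toMonoidHom, MulAut.conj_apply]; rw [hg']; group
          · simp [MulAut.conj_apply, mul_assoc]
      have hT1N : T1 ≤ N' := fun z hz => by
        obtain ⟨h1, h2⟩ := (hT1 z).1 hz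
        refine (hmemN z).2 ⟨?_, ?_⟩
        · simpa [mul_assoc] using mul_mem (mul_mem (inv_mem hk1Γ) h2) hk1Γ
        · have := mul_mem (mul_mem (inv_mem hk2Γ) (D.T_le_Γ h1)) hk2Γ
          convert this using 1
          group
      have hn : S' ≤ normalizer (T1 : Set G) := fun s hs => mem_normalizer_of_conj_mem fun z hz => by
        obtain ⟨h1, h2⟩ := (hT1 z).1 hz
        refine (hT1 _).2 ⟨?_, ?_⟩
        · have := D.conj_mem_T (hk2X _ ⟨s, hs, rfl⟩) h1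
          convert this using 1
          simp [MulAut.conj_apply]; group
        · have := mul_mem (mul_mem (D.hXΓ (hk1X s hs)) h2) (inv_mem (D.hXΓ (hk1X s hs)))
          convert this using 1
          group
      have hT1' : P (T1 ⊔ S') := by
        refine ⟨((D.T_two.to_le inf_le_left).map _).to_sup_of_normal_left' hS2.1 hn, sup_le hT1N hS2.2.1,
          fun hg => Inv.sup ?_ (hS2.2.2 hg)⟩
        refine inv_of_forall fun z hz => (hT1 _).2 ?_
        obtain ⟨h1, h2⟩ := (hT1 z).1 hz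
        have e1 : D.α k1 = k1 := hk1f (hS2.2.2 hg)
        have e2 : D.α (g * k2⁻¹) = g * k2⁻¹ := by rw [map_mul, map_inv, hg, hk2f' hg]
        have h1' := D.T_inv.apply_mem h1
        have h2' := D.hΓi.apply_mem h2
        rw [map_mul, map_mul, map_inv, e2] at h1'
        rw [map_mul, map_mul, map_inv, e1] at h2'
        exact ⟨h1', h2'⟩
      refine hSi hT1' le_sup_right (mem_sup_left ((hT1 _).2 ⟨?_, ?_⟩))
      · simpa [mul_assoc] using hy
      · convert hyΓ using 1; rw [hg']; group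
    refine ⟨fun y hy hyΓ => ?_, fun y hy hyΓ => ?_⟩
    · have := hk1X _ (key2 y hy hyΓ)
      convert this using 1
      rw [hg']; group
    · have := hk2X _ ⟨_, key1 y hy hyΓ, rfl⟩
      convert this using 1
      simp only [hg', MulEquiv.coe_toMonoidHom, MulAut.conj_apply]; group
  · have e : k1 * g * k2⁻¹ * x * (k1 * g * k2⁻¹)⁻¹ = k1 * g * (k2⁻¹ * x * k2) * (k1 * g)⁻¹ := by group
    rw [e, hk2x, inv_mul_cancel_right, show k1 * g * x * (k1 * g)⁻¹ = k1 * (g * x * g⁻¹) * k1⁻¹ by group]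
    exact hk1X _ (hvS (mem_zpowers _))

end GBar

end CfsgLib.FlavellHHS
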