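import Cfsg.Agent.Lib.FlavellHHS.MinBar
import Cfsg.Agent.Lib.FlavellFpf.GL

/-!
The lemma of Flavell, Hall-Higman and Shult over an algebraically closed field.
-/

set_option autoImplicit false
set_option linter.unusedSectionVars false
set_option linter.style.haveILetI false

namespace CfsgLib.FlavellHHS

open Subgroup CfsgLib.CoprimeCentral CfsgLib.FlavellFpf

universe u v w

section reduction

variable {k : Type w} [Field k] {p r : ℕ} {H : Type u} [Group H] [Finite H] {W : Type v} [AddCommGroup W]
  [Module k W]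

/-- The lemma for the groups below a bound. -/
def Below (k : Type w) [Field k] (p r m : ℕ) : Prop :=
  ∀ (H : Type u) [Group H] [Finite H] (W : Type v) [AddCommGroup W] [Module k W] [FiniteDimensional k W]
    (D : HData k H W p r), Function.Injective D.ρ → Nat.card H + Module.finrank k W < m →
    PTwo p (moved D.α (⊤ : Subgroup H))

theorem ptwo_of_proper [FiniteDimensional k W] (D : HData k H W p r) (hinj : Function.Injective D.ρ)
    (ih : Below.{u, v, w} k p r (Nat.card H + Module.finrank k W)) {L : Subgroup H} (hL : Inv D.α L)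
    (hne : L ≠ ⊤) : PTwo p (moved D.α L) := by
  have hlt : Nat.card L < Nat.card H := lt_of_le_of_ne L.card_le_card_group fun h => hne (L.eq_top_of_card_eq h)
  let D' : HData k L W p r :=
    { D with
      α := resAut hL
      hαr := resAut_pow_eq_one hL D.hαr
      hrH := fun h => D.hrH (h.trans L.card_subgroup_dvd_card)
      ρ := D.ρ.comp L.subtype
      hc := fun x => D.hc x }
  have h := (ih L W D' (hinj.comp L.subtype_injective) (by omega)).map L.subtype
  have e : (moved (resAut hL) (⊤ : Subgroup L)).map L.subtype = moved D.α L := by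
    rw [moved, moved, MonoidHom.map_closure]
    congr 1
    ext y
    constructor
    · rintro ⟨_, ⟨x, -, rfl⟩, rfl⟩
      exact ⟨x, x.2, rfl⟩
    · rintro ⟨x, hx, rfl⟩
      exact ⟨_, ⟨⟨x, hx⟩, mem_top _, rfl⟩, rfl⟩
  rwa [e] at h

/-- The normal subgroup coming from a representation on a smaller space. -/
theorem exists_pullback (D : HData k H W p r) {m : ℕ} (ih : Below.{u, v, w} k p r m) {U : Type v}
    [AddCommGroup U] [Module k U] [FiniteDimensional k U] (φ : H →* Module.End k U) (aU : Module.End k U)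
    (har : aU ^ r = 1) (hc : ∀ x, φ (D.α x) * aU = aU * φ x) (hfix : ∀ v, aU v = v → v = 0)
    (hlt : Nat.card H + Module.finrank k U < m) :
    ∃ P : Subgroup H, P ≤ moved D.α (⊤ : Subgroup H) ∧ moved D.α (⊤ : Subgroup H) ≤ normalizer (P : Set H) ∧
      (∀ x ∈ moved D.α (⊤ : Subgroup H), ∃ j : ℕ, x ^ 2 ^ j ∈ P) ∧ ∀ x ∈ P, ∃ j : ℕ, φ (x ^ p ^ j) = 1 := by
  set N := φ.ker with hNdef
  have hN : Inv D.α N := inv_of_forall fun x hx => by
    rw [MonoidHom.mem_ker] at hx ⊢
    have h := hc x
    rw [hx, mul_one] at h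
    have hr : r - 1 + 1 = r := Nat.sub_add_cancel D.hr.one_le
    calc φ (D.α x) = φ (D.α x) * aU ^ r := by rw [har, mul_one]
      _ = φ (D.α x) * aU * aU ^ (r - 1) := by rw [mul_assoc, ← pow_succ', hr]
      _ = aU * aU ^ (r - 1) := by rw [h]
      _ = 1 := by rw [← pow_succ', hr, har]
  let D' : HData k (H ⧸ N) U p r :=
    { hp := D.hp
      hp2 := D.hp2
      hpk := D.hpk
      hr := D.hr
      hrk := D.hrk
      α := quotAut hN
      hαr := quotAut_pow_eq_one hN D.hαr
      hrH := fun h => D.hrH (h.trans N.card_quotient_dvd_card)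
      ρ := QuotientGroup.lift N φ le_rfl
      a := aU
      har := har
      hc := fun x => QuotientGroup.induction_on x fun g => hc g
      hfix := hfix }
  have hinj : Function.Injective D'.ρ := by
    rw [← MonoidHom.ker_eq_bot_iff, eq_bot_iff]
    intro x hx
    induction x using QuotientGroup.induction_on with
    | H g => exact (QuotientGroup.eq_one_iff g).2 (MonoidHom.mem_ker.2 hx)
  obtain ⟨R, hRM, hRp, hn, hsq⟩ := ih (H ⧸ N) U D' hinj
    (lt_of_le_of_lt (Nat.add_le_add_right (Nat.le_of_dvd Nat.card_pos N.card_quotient_dvd_card) _) hlt)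
  let q : H →* H ⧸ N := QuotientGroup.mk' N
  set Mv := moved D.α (⊤ : Subgroup H) with hMv
  have hM : moved (quotAut hN) (⊤ : Subgroup (H ⧸ N)) = Mv.map q := by
    rw [hMv, ← moved_map_mk hN, Subgroup.map_top_of_surjective _ (QuotientGroup.mk'_surjective N)]
  have hn' : moved (quotAut hN) (⊤ : Subgroup (H ⧸ N)) ≤ normalizer (R : Set (H ⧸ N)) := hn
  rw [hM] at hn'
  refine ⟨Mv ⊓ R.comap q, inf_le_left, fun g hg => mem_normalizer_of_conj_mem fun x hx => ?_, fun x hx => ?_,
    fun x hx => ?_⟩
  · refine mem_inf.2 ⟨mul_mem (mul_mem hg hx.1) (inv_mem hg), ?_⟩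
    show q (g * x * g⁻¹) ∈ R
    rw [map_mul, map_mul, map_inv]
    exact (mem_normalizer_iff.1 (hn' ⟨g, hg, rfl⟩) _).1 hx.2
  · obtain ⟨j, hj⟩ := hsq (q x) (show q x ∈ moved (quotAut hN) ⊤ from hM.symm ▸ ⟨x, hx, rfl⟩)
    exact ⟨j, pow_mem hx _, show q (x ^ 2 ^ j) ∈ R by rwa [map_pow]⟩
  · obtain ⟨j, hj⟩ := hRp ⟨(x : H ⧸ N), hx.2⟩
    exact ⟨j, MonoidHom.mem_ker.1 ((QuotientGroup.eq_one_iff _).1 (congrArg Subtype.val hj))⟩

theorem ptwo_of_reducible [FiniteDimensional k W] (D : HData k H W p r) (hinj : Function.Injective D.ρ)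
    (ih : Below.{u, v, w} k p r (Nat.card H + Module.finrank k W)) (U : Submodule k W)
    (hU : ∀ h, ∀ u ∈ U, D.ρ h u ∈ U) (hUa : ∀ u ∈ U, D.a u ∈ U) (h0 : U ≠ ⊥) (h1 : U ≠ ⊤) :
    PTwo p (moved D.α (⊤ : Subgroup H)) := by
  have : Fact p.Prime := ⟨D.hp⟩
  have hd1 : Module.finrank k U < Module.finrank k W := Submodule.finrank_lt h1
  have hd2 : Module.finrank k (W ⧸ U) < Module.finrank k W := by
    have := Submodule.finrank_quotient_add_finrank U
    have h := Submodule.one_le_finrank_iff.2 h0
    omega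
  let φ1 : H →* Module.End k U :=
    { toFun := fun h => (D.ρ h).restrict (hU h)
      map_one' := LinearMap.ext fun u => Subtype.ext (by simp [LinearMap.restrict_apply])
      map_mul' := fun g h => LinearMap.ext fun u => Subtype.ext (by simp [LinearMap.restrict_apply]) }
  let φ2 : H →* Module.End k (W ⧸ U) :=
    { toFun := fun h => U.mapQ U (D.ρ h) (hU h)
      map_one' := Submodule.linearMap_qext _ (by ext v; simp)
      map_mul' := fun g h => Submodule.linearMap_qext _ (by ext v; simp) }
  have hpowU : ∀ (i : ℕ) (u : U), (((D.a.restrict hUa) ^ i) u : W) = (D.a ^ i) u := by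
    intro i
    induction i with
    | zero => intro u; simp
    | succ i ih => intro u; rw [pow_succ', pow_succ', Module.End.mul_apply, Module.End.mul_apply, ← ih]; rfl
  obtain ⟨P1, hP1, hn1, hs1, h1'⟩ := exists_pullback D ih φ1 (D.a.restrict hUa)
    (LinearMap.ext fun u => Subtype.ext (by rw [hpowU, D.har]; rfl))
    (fun x => LinearMap.ext fun u => Subtype.ext (LinearMap.congr_fun (D.hc x) (u : W)))
    (fun u hu => Subtype.ext (D.hfix _ (congrArg Subtype.val hu))) (by omega)
  have hpowQ : ∀ (i : ℕ) (v : W), ((U.mapQ U D.a hUa) ^ i) (Submodule.Quotient.mk v) =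
      Submodule.Quotient.mk ((D.a ^ i) v) := by
    intro i
    induction i with
    | zero => intro v; simp
    | succ i ih => intro v; rw [pow_succ', pow_succ', Module.End.mul_apply, Module.End.mul_apply, ih]; rfl
  obtain ⟨P2, hP2, hn2, hs2, h2'⟩ := exists_pullback D ih φ2 (U.mapQ U D.a hUa)
    (Submodule.linearMap_qext _ (LinearMap.ext fun v => by
      show ((U.mapQ U D.a hUa) ^ r) (Submodule.Quotient.mk v) = Submodule.Quotient.mk v
      rw [hpowQ, D.har]; rfl))
    (fun x => Submodule.linearMap_qext _ (LinearMap.ext fun v =>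
      congrArg Submodule.Quotient.mk (LinearMap.congr_fun (D.hc x) v)))
    (fun x hx => by
      obtain ⟨v, rfl⟩ := Submodule.Quotient.mk_surjective U x
      exact (Submodule.Quotient.mk_eq_zero U).2 (mem_of_fixed_mod D.har D.hrk D.hfix hUa
        ((Submodule.Quotient.eq U).1 hx))) (by omega)
  refine ⟨P1 ⊓ P2, inf_le_left.trans hP1, fun x => ?_, fun g hg => mem_normalizer_of_conj_mem fun x hx =>
    ⟨(mem_normalizer_iff.1 (hn1 hg) x).1 hx.1, (mem_normalizer_iff.1 (hn2 hg) x).1 hx.2⟩, fun x hx => ?_⟩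
  · obtain ⟨i, hi⟩ := h1' x x.2.1
    obtain ⟨j, hj⟩ := h2' x x.2.2
    set y : H := (x : H) ^ p ^ (i + j) with hy
    have hy1 : φ1 y = 1 := by rw [hy, pow_add, pow_mul, map_pow, hi, one_pow]
    have hy2 : φ2 y = 1 := by rw [hy, pow_add, mul_comm, pow_mul, map_pow, hj, one_pow]
    have hnil : ∀ v, (D.ρ y - 1) ((D.ρ y - 1) v) = 0 := fun v => by
      have hm : (D.ρ y - 1) v ∈ U := (Submodule.Quotient.eq U).1 (LinearMap.congr_fun hy2 (Submodule.Quotient.mk v))
      have := congrArg Subtype.val (LinearMap.congr_fun hy1 ⟨_, hm⟩)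
      exact sub_eq_zero.2 this
    have hpow : ∀ (n : ℕ) (v : W), (D.ρ y ^ n) v = v + (n : k) • (D.ρ y - 1) v := by
      intro n
      induction n with
      | zero => intro v; simp
      | succ n ihn =>
        intro v
        rw [pow_succ', Module.End.mul_apply, ihn, map_add, map_smul,
          show D.ρ y ((D.ρ y - 1) v) = (D.ρ y - 1) v from sub_eq_zero.1 (hnil v), Nat.cast_succ, add_smul,
          one_smul, LinearMap.sub_apply, Module.End.one_apply]
        abel
    refine ⟨i + j + 1, Subtype.ext (hinj ?_)⟩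
    rw [SubmonoidClass.coe_pow, pow_succ, pow_mul, ← hy, map_pow, Subgroup.coe_one, map_one]
    exact LinearMap.ext fun v => by rw [hpow, D.hpk, zero_smul, add_zero, Module.End.one_apply]
  · obtain ⟨i, hi⟩ := hs1 x hx
    obtain ⟨j, hj⟩ := hs2 x hx
    refine ⟨i + j, ?_, ?_⟩
    · rw [pow_add, pow_mul]; exact pow_mem hi _
    · rw [pow_add, mul_comm, pow_mul]; exact pow_mem hj _

/-- The lemma over an algebraically closed field in odd characteristic different from `r`. -/
theorem ptwo_of_algClosed [IsAlgClosed k] [FiniteDimensional k W] (D : HData k H W p r)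
    (hinj : Function.Injective D.ρ) : PTwo p (moved D.α (⊤ : Subgroup H)) := by
  suffices ∀ m, Below.{u, v, w} k p r m from this _ H W D hinj (Nat.lt_succ_self _)
  clear hinj D
  intro m
  induction m with
  | zero => intro H _ _ W _ _ _ D _ h; exact absurd h (Nat.not_lt_zero _)
  | succ m ih =>
    intro H _ _ W _ _ _ D hinj hlt
    rcases Nat.lt_succ_iff_lt_or_eq.1 hlt with h | h
    · exact ih H W D hinj h
    rw [← h] at ih
    by_contra hbad
    rcases subsingleton_or_nontrivial W with hs | hne
    · have : Subsingleton H := ⟨fun a b => hinj (LinearMap.ext fun v => Subsingleton.elim _ _)⟩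
      refine hbad (PTwo.of_two fun x => ⟨0, Subsingleton.elim _ _⟩)
    by_cases hred : ∃ U : Submodule k W, (∀ h, ∀ u ∈ U, D.ρ h u ∈ U) ∧ (∀ u ∈ U, D.a u ∈ U) ∧ U ≠ ⊥ ∧ U ≠ ⊤
    · obtain ⟨U, hU, hUa, h0, h1⟩ := hred
      exact hbad (ptwo_of_reducible D hinj ih U hU hUa h0 h1)
    push Not at hred
    exact Min.false
      ({ D with
        hinj := hinj
        hne := hne
        hirr := fun U hU hUa => or_iff_not_imp_left.2 (hred U hU hUa)
        IH := fun L hL hne => ptwo_of_proper D hinj ih hL hne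
        hbad := hbad } : Min k H W p r)

end reduction

/-- A `p`-power order operator without fixed vector in characteristic `p` lives on the zero space. -/
theorem subsingleton_of_pow_char {k : Type*} [Field k] {p : ℕ} [Fact p.Prime] [CharP k p] {W : Type*}
    [AddCommGroup W] [Module k W] {a : Module.End k W} (har : a ^ p = 1) (hfix : ∀ v, a v = v → v = 0) :
    Subsingleton W := by
  rcases subsingleton_or_nontrivial W with h | h
  · exact h
  exfalso
  have : CharP (Module.End k W) p :=
    charP_of_injective_algebraMap (algebraMap k (Module.End k W)).injective p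
  have h0 : (a - 1) ^ p = 0 := by rw [sub_pow_char_of_commute p (Commute.one_right a), har, one_pow, sub_self]
  have hinj : Function.Injective (a - 1 : Module.End k W) := (injective_iff_map_eq_zero _).2 fun v hv =>
    hfix v (sub_eq_zero.1 hv)
  obtain ⟨v, hv⟩ := exists_ne (0 : W)
  refine hv ((Module.End.iterate_injective hinj p) ?_)
  rw [map_zero, h0, LinearMap.zero_apply]

/-- In characteristic two the moved part is a two-group. -/
theorem two_group_char_two {k : Type*} [Field k] [IsAlgClosed k] [CharP k 2] {H : Type u} [Group H] [Finite H]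
    {W : Type*} [AddCommGroup W] [Module k W] [FiniteDimensional k W] {r : ℕ} (hr : r.Prime) (hrk : (r : k) ≠ 0)
    {α : MulAut H} (hαr : α ^ r = 1) (hrH : ¬ r ∣ Nat.card H) (ρ : H →* Module.End k W) (hinj : Function.Injective ρ)
    (a : Module.End k W) (har : a ^ r = 1) (hc : ∀ x, ρ (α x) * a = a * ρ x) (hfix : ∀ v, a v = v → v = 0) :
    IsPGroup 2 (moved α (⊤ : Subgroup H)) := by
  refine two_group_of_odd_fixed hr hαr hrH (inv_moved inv_top) (moved_moved hr hαr hrH inv_top)
    fun ℓ hℓ hℓ2 K _ hKi hKp => ?_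
  rw [← moved_eq_bot_iff]
  by_contra hne
  set T := moved α K with hT
  have hTi : Inv α T := inv_moved hKi
  let A : TRep T k W r :=
    { β := resAut hTi
      hr := hr
      hβr := resAut_pow_eq_one hTi hαr
      hrT := fun h => hrH (h.trans T.card_subgroup_dvd_card)
      hrk := hrk
      ℓ := ℓ
      hℓ := hℓ
      hℓk := fun h => hℓ2 ((Nat.prime_dvd_prime_iff_eq Nat.prime_two hℓ).1
        ((CharP.cast_eq_zero_iff k 2 ℓ).1 h)).symm
      hℓT := hKp.to_le (moved_le hKi)
      σ := ρ.comp T.subtype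
      hinj := hinj.comp T.subtype_injective
      a := a
      har := har
      hc := fun x => hc x
      hfix := hfix
      htop := moved_resAut_top hTi (moved_moved hr hαr hrH hKi)
      hne := (Subgroup.nontrivial_iff_ne_bot T).2 hne }
  exact hℓ2 A.ell_eq_two

end CfsgLib.FlavellHHS
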