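import Cfsg.Agent.Lib.FlavellFpf.Action

/-!
The statement of the fixed point free lemma without hypothesis on the fixed point group, as an interface.
-/

set_option autoImplicit false

namespace CfsgLib.FlavellHHS

open Subgroup CfsgLib.CoprimeCentral CfsgLib.FlavellFpf

universe u v w

/-- `N` is `p`-by-`2`: a normal `p`-subgroup of `N` contains a `2`-power of every element of `N`. -/
def PTwo (p : ℕ) {H : Type*} [Group H] (N : Subgroup H) : Prop :=
  ∃ R : Subgroup H, R ≤ N ∧ IsPGroup p R ∧ N ≤ normalizer (R : Set H) ∧ ∀ x ∈ N, ∃ j : ℕ, x ^ 2 ^ j ∈ R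

/-- A `p`-by-`2` group is solvable. -/
theorem PTwo.isSolvable {p : ℕ} [hp : Fact p.Prime] {H : Type*} [Group H] [Finite H] {N : Subgroup H}
    (h : PTwo p N) : IsSolvable N := by
  obtain ⟨R, hRN, hRp, hRn, hsq⟩ := h
  have hn : (R.subgroupOf N).Normal := normal_subgroupOf_of_le_normalizer hRn
  have h1 : IsPGroup 2 (N ⧸ R.subgroupOf N) := fun y => by
    obtain ⟨⟨x, hx⟩, rfl⟩ := QuotientGroup.mk_surjective y
    obtain ⟨j, hj⟩ := hsq x hx
    exact ⟨j, by rw [← QuotientGroup.mk_pow, QuotientGroup.eq_one_iff]; exact hj⟩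
  have h2 : IsPGroup p (R.subgroupOf N) := hRp.of_equiv (Subgroup.subgroupOfEquivOfLe hRN).symm
  have := h2.isNilpotent
  have : Fact (Nat.Prime 2) := ⟨Nat.prime_two⟩
  have := h1.isNilpotent
  exact solvable_of_ker_le_range (R.subgroupOf N).subtype (QuotientGroup.mk' (R.subgroupOf N)) (by simp)

/-- The lemma of Flavell, Hall-Higman and Shult: an automorphism `α` of prime order of a group of order
prime to `r`, acting without fixed points on a faithful module in characteristic `p`, has a `p`-by-`2`
group `[H, α]`. -/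
def HHS : Prop :=
  ∀ (H : Type u) [Group H] [Finite H] (p r : ℕ) [Fact p.Prime] (k : Type w) [Field k] [CharP k p]
    (W : Type v) [AddCommGroup W] [Module k W] [FiniteDimensional k W] (ρ : H →* Module.End k W)
    (α : MulAut H) (a : Module.End k W),
    r.Prime → α ^ r = 1 → ¬ r ∣ Nat.card H → a ^ r = 1 → (∀ x, ρ (α x) * a = a * ρ x) →
    (∀ v, a v = v → v = 0) → Function.Injective ρ → PTwo p (moved α (⊤ : Subgroup H))

end CfsgLib.FlavellHHS
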