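import Cfsg.Agent.Lib.FlavellHHS.InvolTools

/-!
Involutions of `X`: the fixed ones lie in `W`, and a `2`-subgroup of `X` whose normalizer is not in `Γ`
lies in `T`.
-/

set_option autoImplicit false
set_option linter.unusedSectionVars false
set_option maxHeartbeats 400000

namespace CfsgLib.FlavellHHS

open Subgroup CfsgLib.CoprimeCentral CfsgLib.FlavellFpf
open scoped commutatorElement

universe u v w

theorem two_sup_commute {G : Type*} [Group G] [Finite G] {A : Subgroup G} (hA : IsPGroup 2 A) {x : G} (hx : x * x = 1)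
    (hxA : A ≤ centralizer ({x} : Set G)) : IsPGroup 2 (A ⊔ zpowers x : Subgroup G) := by
  have hz : IsPGroup 2 (zpowers x) := fun a => by
    obtain ⟨i, hi⟩ := mem_zpowers_iff.1 a.2
    refine ⟨1, Subtype.ext ?_⟩
    show (a : G) ^ 2 ^ 1 = 1
    rw [← hi, pow_one, ← zpow_natCast, ← zpow_mul, mul_comm, zpow_mul, zpow_natCast, sq, hx, one_zpow]
  refine hA.to_sup_of_normal_left' hz (zpowers_le.2 (mem_normalizer_of_conj_mem fun a ha => ?_))
  rw [← mem_centralizer_singleton_iff.1 (hxA ha), mul_inv_cancel_right]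
  exact ha

namespace GBar

variable {G : Type u} [Group G] [Finite G] {M : Type v} [AddCommGroup M] [Finite M] {Zc : Type w}
  [AddCommGroup Zc] [Finite Zc] {p r : ℕ} (D : GBar G M Zc p r)

/-- If the normalizer of a `2`-subgroup of `Γ` is not in `Γ`, a conjugate of an element of `W` outside `Γ`
centralizes it. -/
theorem exists_outside {L : Subgroup G} (hLΓ : L ≤ D.Γ) (hL : IsPGroup 2 L)
    (hN : ¬ normalizer (L : Set G) ≤ D.Γ) :
    ∃ k z, z ∈ D.W ∧ z ≠ 1 ∧ k * z * k⁻¹ ∉ D.Γ ∧ ∀ l ∈ L, l * (k * z * k⁻¹) = k * z * k⁻¹ * l := by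
  obtain ⟨k, hk, hkX⟩ := SetLike.not_le_iff_exists.1 hN
  obtain ⟨k0, hk0, z, hz, hz1, hzL, -⟩ := D.exists_centralized' D.W_ne_bot hLΓ hL
  refine ⟨k * k0, z, hz, hz1, D.conj_not_mem_Γ hz hz1 fun h => hkX (D.mem_Γ_of_mul (D.hKΓ hk0) h),
    fun l hl => ?_⟩
  have h1 : k⁻¹ * l * k ∈ L := by
    simpa using (mem_normalizer_iff.1 ((normalizer (L : Set G)).inv_mem hk) l).1 hl
  calc l * (k * k0 * z * (k * k0)⁻¹) = k * (k⁻¹ * l * k * (k0 * z * k0⁻¹)) * k⁻¹ := by group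
    _ = k * (k0 * z * k0⁻¹ * (k⁻¹ * l * k)) * k⁻¹ := by rw [hzL _ h1]
    _ = _ := by group

theorem centralizer_not_le {L : Subgroup G} (hLΓ : L ≤ D.Γ) (hL : IsPGroup 2 L)
    (hN : ¬ normalizer (L : Set G) ≤ D.Γ) : ¬ centralizer (L : Set G) ≤ D.Γ := by
  obtain ⟨k, z, -, -, hout, hcomm⟩ := D.exists_outside hLΓ hL hN
  exact fun h => hout (h (mem_centralizer_iff.2 fun l hl => hcomm l hl))

/-- Transitivity of the centralizer in `Γ`. -/
theorem trans_centralizer {L : Subgroup G} (hK : ¬ L ≤ D.Γ) {z1 z2 : G} (h1 : z1 ∈ D.W) (h11 : z1 ≠ 1)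
    (h1K : z1 ∈ L) (h2 : z2 ∈ D.W) (h21 : z2 ≠ 1) (h2K : z2 ∈ L) :
    ∃ k ∈ L, k ∈ D.Γ ∧ k * z1 * k⁻¹ = z2 := by
  obtain ⟨k0, hk0, hk0X⟩ := SetLike.not_le_iff_exists.1 hK
  obtain ⟨k, hk, he⟩ := D.exists_conj_in h1 h11 h1K h2 (L.mul_mem (L.mul_mem hk0 h2K) (L.inv_mem hk0))
    (D.conj_not_mem_Γ h2 h21 hk0X)
  have e : (k0⁻¹ * k) * z1 * (k0⁻¹ * k)⁻¹ = z2 := by
    calc (k0⁻¹ * k) * z1 * (k0⁻¹ * k)⁻¹ = k0⁻¹ * (k * z1 * k⁻¹) * k0 := by group
      _ = z2 := by rw [he]; group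
  exact ⟨k0⁻¹ * k, L.mul_mem (L.inv_mem hk0) hk, D.mem_Γ_of_conj h1 h11 (e.symm ▸ D.W_mem_Γ h2), e⟩

/-- `(G)`: an involution of `X` outside `W` has a bad translate. -/
theorem no_good_involution {u : G} (hu2 : u * u = 1) (huX : u ∈ D.X) (huW : u ∉ D.W)
    (hgood : ∀ w ∈ D.W, u * w = w * u → centralizer ({u * w} : Set G) ≤ D.Γ) : False := by
  have : Fact (Nat.Prime 2) := ⟨Nat.prime_two⟩
  have hu1 : u ≠ 1 := fun h => huW (h ▸ D.W.one_mem)
  have hCu : centralizer ({u} : Set G) ≤ D.Γ := by simpa using hgood 1 D.W.one_mem (by simp)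
  have hzu : IsPGroup 2 (zpowers u) :=
    Involutions.isPGroup_two_zpowers (Involutions.orderOf_eq_two_iff_mul.2 ⟨hu1, hu2⟩)
  let S : Set (Subgroup G) := {L | IsPGroup 2 L ∧ L ≤ D.Γ ∧ u ∈ normalizer (L : Set G) ∧
    ¬ normalizer (L : Set G) ≤ D.Γ}
  have hbot : normalizer ((⊥ : Subgroup G) : Set G) = ⊤ := Subgroup.normalizer_eq_top_iff.2 inferInstance
  obtain ⟨L, -, hmax⟩ := (Set.toFinite S).exists_le_maximal (a := ⊥)
    ⟨IsPGroup.of_bot, bot_le, hbot ▸ mem_top _, fun h => D.hΓne (top_unique (hbot ▸ h))⟩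
  obtain ⟨hL2, hLX, huN, hN⟩ := hmax.1
  obtain ⟨k, hk, hkX⟩ := SetLike.not_le_iff_exists.1 hN
  obtain ⟨kz, hkz, w0, hw0, hw01, hz0L, -⟩ := D.exists_centralized' D.W_ne_bot (L := L ⊔ zpowers u)
    (sup_le hLX (zpowers_le.2 (D.hXΓ huX))) (hL2.to_sup_of_normal_left' hzu (zpowers_le.2 huN))
  have hkzΓ := D.hKΓ hkz
  set z0 := kz * w0 * kz⁻¹ with hz0
  have hz0u : u * z0 = z0 * u := hz0L u (mem_sup_right (mem_zpowers u))
  have hzout : ∀ g, g ∉ D.Γ → g * z0 * g⁻¹ ∉ D.Γ := fun g hg => by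
    rw [hz0, show g * (kz * w0 * kz⁻¹) * g⁻¹ = g * kz * w0 * (g * kz)⁻¹ by group]
    exact D.conj_not_mem_Γ hw0 hw01 fun h => hg (D.mem_Γ_of_mul hkzΓ h)
  -- conjugation by elements of `N(L)` preserves centralizing `L`
  have hcentN : ∀ y ∈ normalizer (L : Set G), ∀ a : G, (∀ l ∈ L, l * a = a * l) →
      ∀ l ∈ L, l * (y * a * y⁻¹) = y * a * y⁻¹ * l := by
    intro y hy a ha l hl
    have h1 : y⁻¹ * l * y ∈ L := by
      simpa using (mem_normalizer_iff.1 ((normalizer (L : Set G)).inv_mem hy) l).1 hl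
    calc l * (y * a * y⁻¹) = y * (y⁻¹ * l * y * a) * y⁻¹ := by group
      _ = y * (a * (y⁻¹ * l * y)) * y⁻¹ := by rw [ha _ h1]
      _ = _ := by group
  have hz0N : z0 ∈ normalizer (L : Set G) := mem_normalizer_of_conj_mem fun l hl => by
    rw [← hz0L l (mem_sup_left hl), mul_inv_cancel_right]; exact hl
  set v := k * z0 * k⁻¹ with hv
  have hvX : v ∉ D.Γ := hzout k hkX
  have hvN : v ∈ normalizer (L : Set G) := mul_mem (mul_mem hk hz0N) (inv_mem hk)
  have hvL : ∀ l ∈ L, l * v = v * l := hcentN k hk z0 fun l hl => hz0L l (mem_sup_left hl)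
  have huL : u ∉ L := fun h => hvX (hCu (mem_centralizer_singleton_iff.2 (hvL u h).symm))
  have hvv : v * v = 1 := by
    rw [hv, hz0, show k * (kz * w0 * kz⁻¹) * k⁻¹ * (k * (kz * w0 * kz⁻¹) * k⁻¹) =
      k * kz * (w0 * w0) * (k * kz)⁻¹ by group, D.W_sq hw0, mul_one, mul_inv_cancel]
  -- the dihedral group in `N(L) / L`
  set N := normalizer (L : Set G)
  let L' := L.subgroupOf N
  have : L'.Normal := Subgroup.normal_in_normalizer
  let U : N ⧸ L' := ((⟨u, huN⟩ : N) : N ⧸ L')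
  let V : N ⧸ L' := ((⟨v, hvN⟩ : N) : N ⧸ L')
  have hUo : orderOf U = 2 := Involutions.orderOf_eq_two_iff_mul.2
    ⟨fun h => huL (mem_subgroupOf.1 ((QuotientGroup.eq_one_iff _).1 h)),
      (QuotientGroup.eq_one_iff _).2 (mem_subgroupOf.2 (by
        show u * u ∈ L
        rw [hu2]; exact L.one_mem))⟩
  have hVo : orderOf V = 2 := Involutions.orderOf_eq_two_iff_mul.2
    ⟨fun h => hvX (hLX (mem_subgroupOf.1 ((QuotientGroup.eq_one_iff _).1 h))),
      (QuotientGroup.eq_one_iff _).2 (mem_subgroupOf.2 (by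
        show v * v ∈ L
        rw [hvv]; exact L.one_mem))⟩
  rcases Nat.even_or_odd (orderOf (U * V)) with he | ho
  · obtain ⟨hYo, hYU, hYV⟩ := Involutions.central_involution hUo hVo he
    obtain ⟨⟨y, hyN⟩, hy⟩ := QuotientGroup.mk_surjective ((U * V) ^ (orderOf (U * V) / 2))
    rw [← hy] at hYo hYU hYV
    have hyL : y ∉ L := fun h => Involutions.ne_one_of_involution hYo
      ((QuotientGroup.eq_one_iff _).2 (mem_subgroupOf.2 h))
    have hyy : y * y ∈ L :=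
      mem_subgroupOf.1 ((QuotientGroup.eq_one_iff (⟨y * y, mul_mem hyN hyN⟩ : N)).1 (Involutions.mul_self_eq_one hYo))
    have hyu : (u * y)⁻¹ * (y * u) ∈ L := mem_subgroupOf.1 (QuotientGroup.eq.1 hYU.eq.symm)
    have hyv : (v * y)⁻¹ * (y * v) ∈ L := mem_subgroupOf.1 (QuotientGroup.eq.1 hYV.eq.symm)
    have hyX : y ∈ D.Γ := by
      by_contra hy'
      refine hzout y hy' (hCu ?_)
      rw [mem_centralizer_singleton_iff]
      -- `y u y⁻¹ ∈ u L`
      set l := u⁻¹ * (y * u * y⁻¹) with hldef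
      have hl : l ∈ L := by
        have := (mem_normalizer_iff.1 hyN _).1 hyu
        convert this using 1
        rw [hldef]; group
      have e : u = y * u * y⁻¹ * l⁻¹ := by rw [hldef]; group
      have h1 : l * (y * z0 * y⁻¹) = y * z0 * y⁻¹ * l := hcentN y hyN z0 (fun l hl => hz0L l (mem_sup_left hl)) l hl
      have h2 : y * u * y⁻¹ * (y * z0 * y⁻¹) = y * z0 * y⁻¹ * (y * u * y⁻¹) := by
        calc y * u * y⁻¹ * (y * z0 * y⁻¹) = y * (u * z0) * y⁻¹ := by group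
          _ = y * (z0 * u) * y⁻¹ := by rw [hz0u]
          _ = _ := by group
      generalize y * z0 * y⁻¹ = z' at h1 h2 ⊢
      calc z' * u = z' * (y * u * y⁻¹) * l⁻¹ := by rw [mul_assoc z', ← e]
        _ = y * u * y⁻¹ * z' * l⁻¹ := by rw [h2]
        _ = y * u * y⁻¹ * (l⁻¹ * z') := by rw [(show Commute l z' from h1).inv_left.eq, mul_assoc]
        _ = u * z' := by rw [← mul_assoc, ← e]
    set L1 := L ⊔ zpowers y
    have hy2 : IsPGroup 2 (zpowers y) := by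
      obtain ⟨j, hj⟩ := hL2 ⟨y * y, hyy⟩
      have hj' : (y * y) ^ 2 ^ j = 1 := congrArg Subtype.val hj
      rintro ⟨g, hg⟩
      obtain ⟨i, rfl⟩ := mem_zpowers_iff.1 hg
      refine ⟨j + 1, Subtype.ext ?_⟩
      show (y ^ i) ^ 2 ^ (j + 1) = 1
      rw [← zpow_natCast, ← zpow_mul, mul_comm, zpow_mul, zpow_natCast, pow_succ', pow_mul, pow_two, hj',
        one_zpow]
    have hmemN1 : ∀ a ∈ N, (a * y)⁻¹ * (y * a) ∈ L → a ∈ normalizer (L1 : Set G) := by
      intro a ha hay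
      refine mem_normalizer_of_conj_mem fun b hb => ?_
      suffices L1 ≤ L1.comap (MulAut.conj a).toMonoidHom from this hb
      refine sup_le (fun l hl => mem_sup_left ((mem_normalizer_iff.1 ha l).1 hl)) (zpowers_le.2 ?_)
      show a * y * a⁻¹ ∈ L1
      have e : a * y * a⁻¹ = y * (a * ((a * y)⁻¹ * (y * a)) * a⁻¹)⁻¹ := by group
      rw [e]
      exact L1.mul_mem (mem_sup_right (mem_zpowers y))
        (L1.inv_mem (mem_sup_left ((mem_normalizer_iff.1 ha _).1 hay)))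
    have hL1 : L1 ∈ S := ⟨hL2.to_sup_of_normal_left' hy2 (zpowers_le.2 hyN),
      sup_le hLX (zpowers_le.2 hyX), hmemN1 u huN hyu, fun h => hvX (h (hmemN1 v hvN hyv))⟩
    exact hyL (hmax.2 hL1 le_sup_left (mem_sup_right (mem_zpowers y)))
  · obtain ⟨d, -, hd⟩ := Involutions.conj_of_odd_order hUo hVo ho
    obtain ⟨⟨y, hy⟩, rfl⟩ := QuotientGroup.mk_surjective d
    have hl : v⁻¹ * (y * u * y⁻¹) ∈ L := mem_subgroupOf.1 (QuotientGroup.eq.1 hd.symm)
    set v' := y⁻¹ * v * y with hv'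
    set l' := y⁻¹ * (v⁻¹ * (y * u * y⁻¹)) * y with hl'
    have hl'L : l' ∈ L := by simpa [hl'] using (mem_normalizer_iff.1 (inv_mem hy) _).1 hl
    have e : u = v' * l' := by rw [hv', hl']; group
    have hv'L : ∀ a ∈ L, a * v' = v' * a := by
      simpa [hv'] using hcentN y⁻¹ (inv_mem hy) v hvL
    have hv'X : v' ∈ D.Γ := by
      have : v' = u * l'⁻¹ := by rw [e]; group
      exact this ▸ mul_mem (D.hXΓ huX) (inv_mem (hLX hl'L))
    have hv'v' : v' * v' = 1 := by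
      rw [hv', show y⁻¹ * v * y * (y⁻¹ * v * y) = y⁻¹ * (v * v) * y by group, hvv, mul_one, inv_mul_cancel]
    have huv : u * v' = v' * u := by rw [e, mul_assoc, hv'L l' hl'L, ← mul_assoc, ← mul_assoc]
    have he2 : u * v' = l' := by rw [huv, e, ← mul_assoc, hv'v', one_mul]
    -- move `⟨u, v'⟩` into `X`, centralizing `u`
    have h2 : IsPGroup 2 (zpowers u ⊔ zpowers v' : Subgroup G) :=
      hzu.to_sup_of_normal_left' (Involutions.isPGroup_two_zpowers (Involutions.orderOf_eq_two_iff_mul.2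
        ⟨fun h => huL (by rw [e, h, one_mul]; exact hl'L), hv'v'⟩))
        (zpowers_le.2 (mem_normalizer_of_conj_mem fun a ha => by
          obtain ⟨i, rfl⟩ := mem_zpowers_iff.1 ha
          rw [((show Commute v' u from huv.symm).zpow_right i).eq, mul_inv_cancel_right]
          exact zpow_mem (mem_zpowers u) i))
    obtain ⟨m, hm, hmu, hmX⟩ := D.two_to_X_cent h2 (sup_le (zpowers_le.2 (D.hXΓ huX)) (zpowers_le.2 hv'X))
      (mem_sup_left (mem_zpowers u)) huX hu2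
    have hw : m * v' * m⁻¹ ∈ D.W := by
      have h' := hmX v' (mem_sup_right (mem_zpowers v'))
      have e2 : m * v' * m⁻¹ = m * y⁻¹ * k * kz * w0 * (m * y⁻¹ * k * kz)⁻¹ := by
        rw [hv', hv, hz0]; group
      rw [e2] at h' ⊢
      exact D.conj_mem_W_of_X hw0 h'
    have e3 : u * (m * v' * m⁻¹) = m * l' * m⁻¹ := by
      rw [← he2]
      calc u * (m * v' * m⁻¹) = (u * m) * v' * m⁻¹ := by group
        _ = _ := by rw [← hmu]; group
    have hmv : m * v * m⁻¹ ∈ D.Γ := by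
      refine hgood _ hw ?_ (mem_centralizer_singleton_iff.2 ?_)
      · calc u * (m * v' * m⁻¹) = (u * m) * v' * m⁻¹ := by group
          _ = m * (u * v') * m⁻¹ := by rw [← hmu]; group
          _ = m * v' * (u * m⁻¹) := by rw [huv]; group
          _ = _ := by rw [← (show Commute m u from hmu).inv_left.eq]; group
      · rw [e3]
        calc m * v * m⁻¹ * (m * l' * m⁻¹) = m * (v * l') * m⁻¹ := by group
          _ = m * (l' * v) * m⁻¹ := by rw [hvL l' hl'L]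
          _ = _ := by group
    exact hvX (by simpa [mul_assoc] using mul_mem (mul_mem (inv_mem (D.hKΓ hm)) hmv) (D.hKΓ hm))

theorem centralizer_inv {c : G} (hc : D.α c = c) : Inv D.α (centralizer ({c} : Set G)) := by
  refine inv_of_forall fun x hx => ?_
  rw [mem_centralizer_singleton_iff] at hx ⊢
  have := congrArg D.α hx
  rwa [map_mul, map_mul, hc] at this

include D in
theorem centralizer_ne_top {c : G} (hc1 : c ≠ 1) : centralizer ({c} : Set G) ≠ ⊤ := fun e => by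
  have hcen : c ∈ center G := mem_center_iff.2 fun g => mem_centralizer_singleton_iff.1 (e.symm ▸ mem_top g)
  rw [D.center_eq_bot, mem_bot] at hcen
  exact hc1 hcen

/-- A fixed involution of `X` outside `W` centralizing a four-subgroup of `W` is good. -/
theorem centralizer_le_of_four {c : G} (hcX : c ∈ D.X) (hc : D.α c = c) (hc2 : c * c = 1) (hcW : c ∉ D.W)
    {z1 z2 : G} (h1 : z1 ∈ D.W) (h11 : z1 ≠ 1) (h1c : c * z1 = z1 * c) (h2 : z2 ∈ D.W) (h21 : z2 ≠ 1)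
    (h2c : c * z2 = z2 * c) (h12 : z1 ≠ z2) : centralizer ({c} : Set G) ≤ D.Γ := by
  have := D.hp_fact
  set K := centralizer ({c} : Set G) with hKdef
  have hKi : Inv D.α K := D.centralizer_inv hc
  by_contra hK
  have h1K : z1 ∈ K := mem_centralizer_singleton_iff.2 h1c.symm
  have h2K : z2 ∈ K := mem_centralizer_singleton_iff.2 h2c.symm
  have hKne : K ≠ ⊤ := D.centralizer_ne_top fun h => hcW (h ▸ D.W.one_mem)
  obtain ⟨-, hRp, -, hn, -, -⟩ := D.R_spec hKi hKne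
  have hRΓ : D.R K ≤ D.Γ := D.le_Γ_of_four hRp h1 h11 h2 h21 h12 (hn h1K) (hn h2K)
  have hUi : Inv D.α (moved D.α (D.T ⊓ K)) := inv_moved (D.T_inv.inf hKi)
  obtain ⟨S, hS2, hSi, hUS, hMle⟩ := D.exists_two_part hKi hKne
    (D.T_two.to_le ((moved_le (D.T_inv.inf hKi)).trans inf_le_left)) hUi (moved_mono inf_le_right)
  obtain ⟨d, hd, hle⟩ := D.moved_le_conj hS2 hSi
  set N := moved D.α K with hNdef
  have hNn : ∀ k ∈ K, ∀ a ∈ N, k * a * k⁻¹ ∈ N := fun k hk a ha =>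
    (mem_normalizer_iff.1 (le_normalizer_moved K hk) a).1 ha
  have hUmv : moved D.α (D.T ⊓ K) ≤ moved D.α S :=
    (moved_moved D.hr D.hαr D.hrG (D.T_inv.inf hKi)).symm.le.trans (moved_mono hUS)
  -- lifts of fixed points
  have hlift : ∀ m, D.gM c m = m → ∃ u ∈ D.T, u ∈ moved D.α S ∧ u ∈ N ∧ D.π u = m := by
    intro m hm
    obtain ⟨s, hs, hsc, -, hπ⟩ := D.exists_lift' hcX hc hm
    exact ⟨_, D.T.mul_mem (D.T.inv_mem hs) (D.T_inv.apply_mem hs),
      hUmv (mem_moved ⟨hs, mem_centralizer_singleton_iff.2 hsc.symm⟩),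
      mem_moved (mem_centralizer_singleton_iff.2 hsc.symm), hπ⟩
  have hiso : ∀ m n, D.gM c m = m → D.gM c n = n → D.Sp.B m n ∈ D.Sp.Zs := by
    intro m n hm hn
    obtain ⟨a, haT, haN, haN', rfl⟩ := hlift m hm
    obtain ⟨b, hbT, hbN, hbN', rfl⟩ := hlift n hn
    by_contra hne
    set e := D.ω (D.Sp.B (D.π a) (D.π b)) with he
    have heS : e ∈ moved D.α S := by
      have h := D.hcomm a haT b hbT
      rw [← mul_inv_eq_iff_eq_mul] at h
      rw [he, ← h]
      exact mul_mem (mul_mem haN hbN) (inv_mem (mul_mem hbN haN))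
    have heW : e ∈ D.W := D.hω_mem _
    have he1 : e ≠ 1 := fun h => hne ((D.hω_one _).1 h)
    obtain ⟨e', he', hee⟩ := hle heS
    have hee' : d * e' * d⁻¹ = e := hee
    have he'W : e' ∈ D.W := ⟨he', by
      have h : D.α e = e := heW.2
      rw [← hee', map_mul, map_mul, map_inv, hd] at h
      show D.α e' = e'
      simpa using h⟩
    have hdX : d ∈ D.Γ := D.mem_Γ_of_conj he'W (fun h => he1 (by rw [← hee', h]; group))
      (hee'.symm ▸ D.W_mem_Γ heW)
    have hNT : N ≤ D.Γ := hMle.trans (sup_le hRΓ fun x hx => by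
      obtain ⟨x', hx', rfl⟩ := hle hx
      exact mul_mem (mul_mem hdX (D.T_le_Γ hx')) (inv_mem hdX))
    have heN : e ∈ N := by
      have h := D.hcomm a haT b hbT
      rw [← mul_inv_eq_iff_eq_mul] at h
      rw [he, ← h]
      exact mul_mem (mul_mem haN' hbN') (inv_mem (mul_mem hbN' haN'))
    exact hK fun k hk => D.mem_Γ_of_conj heW he1 (hNT (hNn k hk e heN))
  have hne : D.gM c ≠ 1 := by
    intro h1'
    have hTK : D.T ≤ K := fun t ht =>
      mem_centralizer_singleton_iff.2 (mul_inv_eq_iff_eq_mul.1 (D.cent_T_of_gM hcX hc h1' ht)).symm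
    exact hK (D.hmax K hKi hKne hTK)
  have hinvol : ∀ m, D.gM c (D.gM c m) = m := fun m => by
    rw [← D.gM_mul hcX hc hcX hc, hc2, D.gM_W D.W.one_mem]; rfl
  have hPfix : ∀ x ∈ D.Pim c, D.gM c x = x := by
    rintro _ ⟨m, rfl⟩
    show D.gM c (D.gM c m + m) = D.gM c m + m
    rw [map_add, hinvol, add_comm]
  obtain ⟨x, hx, y, hy, hxy⟩ : ∃ x ∈ D.Pim c, ∃ y ∈ D.Pim c, D.Sp.B x y ≠ 0 := by
    by_contra h
    push Not at h
    exact hne (DFunLike.ext _ _ fun m => (D.Sp.madd_eq_zero_iff).1 (AddSubgroup.mem_bot.1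
      ((D.Sp.hnd _ (D.Pim_inv hcX hc) h).le (D.mem_Pim.2 ⟨m, rfl⟩))))
  have he : D.Sp.B x y ∈ D.Sp.Zs := hiso x y (hPfix x hx) (hPfix y hy)
  obtain ⟨m, rfl⟩ := D.mem_Pim.1 hx
  obtain ⟨n, rfl⟩ := D.mem_Pim.1 hy
  set z := D.Sp.B m n + D.Sp.B (D.gM c m) n with hzdef
  have hgz : D.gZ c z + z = D.Sp.B (D.gM c m + m) (D.gM c n + n) := by
    rw [hzdef, map_add, D.hB c hcX hc, D.hB c hcX hc, hinvol]
    simp only [map_add, AddMonoidHom.add_apply]
    abel
  have hκz : ¬ D.κ c (D.ω z) := fun h => hxy (by rw [← hgz, (D.κ_ω c hcX hc z).1 h, D.Sp.hZ2])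
  have hzc : c * D.ω z = D.ω z * c := by
    rw [← mul_inv_eq_iff_eq_mul, D.hgZ c hcX hc, D.ω_eq_iff, hgz]; exact he
  have hcomm : ∀ z', c * D.ω z' = D.ω z' * c → D.gZ c z' + z' ∈ D.Sp.Zs := fun z' h => by
    rwa [← D.ω_eq_iff, ← D.hgZ c hcX hc, mul_inv_eq_iff_eq_mul]
  have hz1 : D.ω z ≠ 1 := fun h => hκz ((D.κ_ω c hcX hc z).2 (D.hfixZs c hcX hc z ((D.hω_one z).1 h)))
  -- another element with commuting lifts
  obtain ⟨z', hz'1, hz'ne, hz'c⟩ : ∃ z' : Zc, D.ω z' ≠ 1 ∧ D.ω z' ≠ D.ω z ∧ c * D.ω z' = D.ω z' * c := by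
    obtain ⟨a, ha⟩ := D.hω_surj z1 h1
    obtain ⟨b, hb⟩ := D.hω_surj z2 h2
    by_cases h : z1 = D.ω z
    · exact ⟨b, hb.symm ▸ h21, fun e => h12 (h.trans (e.symm.trans hb)), hb.symm ▸ h2c⟩
    · exact ⟨a, ha.symm ▸ h11, fun e => h (ha.symm.trans e), ha.symm ▸ h1c⟩
  obtain ⟨z0, hz01, hz0c, hκ0⟩ : ∃ z0 : Zc, D.ω z0 ≠ 1 ∧ c * D.ω z0 = D.ω z0 * c ∧ D.κ c (D.ω z0) := by
    by_cases h : D.gZ c z' = z'
    · exact ⟨z', hz'1, hz'c, (D.κ_ω c hcX hc z').2 h⟩
    have hne' : D.gZ c z' + z' ≠ 0 := fun e => h (D.Sp.add_eq_zero_iff.1 e)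
    have heq := D.Sp.hZs _ (hcomm z' hz'c) _ (hgz ▸ he) hne' (hgz ▸ hxy)
    refine ⟨z' + z, fun h' => hz'ne (D.ω_eq_iff.2 ((D.hω_one _).1 h')), ?_, (D.κ_ω c hcX hc _).2 ?_⟩
    · rw [D.hω_mul, ← mul_assoc, hz'c, mul_assoc, hzc, mul_assoc]
    · rw [← D.Sp.add_eq_zero_iff, map_add,
        show D.gZ c z' + D.gZ c z + (z' + z) = (D.gZ c z' + z') + (D.gZ c z + z) by abel, heq, D.Sp.hZ2]
  obtain ⟨k, hk, -, hkz⟩ := D.trans_centralizer hK (D.hω_mem z0) hz01
    (mem_centralizer_singleton_iff.2 hz0c.symm) (D.hω_mem z) hz1 (mem_centralizer_singleton_iff.2 hzc.symm)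
  have := D.κ_conj k _ _ hκ0
  rw [hkz, (mem_centralizer_singleton_iff.1 hk), mul_inv_cancel_right] at this
  exact hκz this

/-- A fixed involution of `X` outside `W` is good. -/
theorem centralizer_fixed_le {c : G} (hcX : c ∈ D.X) (hc : D.α c = c) (hc2 : c * c = 1) (hcW : c ∉ D.W) :
    centralizer ({c} : Set G) ≤ D.Γ := by
  by_contra hK
  have : Fact (Nat.Prime 2) := ⟨Nat.prime_two⟩
  have hc1 : c ≠ 1 := fun h => hcW (h ▸ D.W.one_mem)
  have hc2' : IsPGroup 2 (zpowers c) :=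
    Involutions.isPGroup_two_zpowers (Involutions.orderOf_eq_two_iff_mul.2 ⟨hc1, hc2⟩)
  obtain ⟨z0, hz0, hz01, hz0c'⟩ := D.exists_centralized D.W_ne_bot (zpowers_le.2 hcX) hc2'
  have hz0c : c * z0 = z0 * c := hz0c' c (mem_zpowers c)
  have huniq : ∀ z ∈ D.W, c * z = z * c → z = 1 ∨ z = z0 := fun z hz hzc => by
    by_contra h
    push Not at h
    exact hK (D.centralizer_le_of_four hcX hc hc2 hcW hz h.1 hzc hz0 hz01 hz0c h.2)
  set f : G → G := fun y => c * y * c⁻¹ * y with hf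
  have hfW : ∀ y ∈ D.W, f y ∈ D.W := fun y hy => D.W.mul_mem (D.conj_mem_W hcX hy) hy
  have hfc : ∀ y ∈ D.W, c * f y = f y * c := fun y hy => by
    refine mul_inv_eq_iff_eq_mul.1 ?_
    calc c * f y * c⁻¹ = (c * c) * y * (c * c)⁻¹ * (c * y * c⁻¹) := by simp only [f]; group
      _ = y * (c * y * c⁻¹) := by rw [hc2]; group
      _ = f y := D.W_comm hy (D.conj_mem_W hcX hy)
  obtain ⟨w, hw, hwc⟩ : ∃ w ∈ D.W, c * w ≠ w * c := by
    by_contra h
    push Not at h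
    have h4 := D.four_le_card_W
    classical
    have := Fintype.ofFinite D.W
    have hsub : (Finset.univ : Finset D.W) ⊆ {(1 : D.W), (⟨z0, hz0⟩ : D.W)} := fun y _ => by
      rcases huniq y y.2 (h y y.2) with e | e
      · exact Finset.mem_insert.2 (Or.inl (Subtype.ext e))
      · exact Finset.mem_insert_of_mem (Finset.mem_singleton.2 (Subtype.ext e))
    have := (Finset.card_le_card hsub).trans (Finset.card_le_two)
    rw [Finset.card_univ, ← Nat.card_eq_fintype_card] at this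
    omega
  have hf0 : ∀ y ∈ D.W, c * y ≠ y * c → f y = z0 := fun y hy hyc =>
    (huniq _ (hfW y hy) (hfc y hy)).resolve_left fun h => hyc (by
      have : c * y * c⁻¹ = y⁻¹ := eq_inv_of_mul_eq_one_left h
      rw [D.W_inv hy, mul_inv_eq_iff_eq_mul] at this
      exact this)
  have hfw := hf0 w hw hwc
  have hw1 : w ≠ 1 := fun h => hwc (by rw [h]; simp)
  have hwz : w ≠ z0 := fun h => hwc (h ▸ hz0c)
  have hcw : c * w * c⁻¹ = z0 * w := by
    rw [← hfw]; simp only [f]; rw [mul_assoc (c * w * c⁻¹), D.W_sq hw, mul_one]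
  have hfour : ∀ y ∈ D.W, y = 1 ∨ y = z0 ∨ y = w ∨ y = z0 * w := by
    intro y hy
    by_cases hyc : c * y = y * c
    · rcases huniq y hy hyc with e | e
      · exact Or.inl e
      · exact Or.inr (Or.inl e)
    have hyw : c * (y * w) = y * w * c := mul_inv_eq_iff_eq_mul.1 (by
      have hy' : c * y * c⁻¹ = z0 * y := by
        rw [← hf0 y hy hyc]; simp only [f]; rw [mul_assoc (c * y * c⁻¹), D.W_sq hy, mul_one]
      calc c * (y * w) * c⁻¹ = (c * y * c⁻¹) * (c * w * c⁻¹) := by group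
        _ = z0 * (y * z0) * w := by rw [hy', hcw]; group
        _ = (z0 * z0) * (y * w) := by rw [D.W_comm hy hz0]; group
        _ = y * w := by rw [D.W_sq hz0, one_mul])
    rcases huniq _ (D.W.mul_mem hy hw) hyw with e | e
    · exact Or.inr (Or.inr (Or.inl (by rw [mul_eq_one_iff_eq_inv, D.W_inv hw] at e; exact e)))
    · exact Or.inr (Or.inr (Or.inr (by rw [← e, mul_assoc, D.W_sq hw, mul_one])))
  -- a Sylow subgroup of `G` in `X` containing `c`
  obtain ⟨S0, hS0⟩ := D.Q_sylow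
  obtain ⟨P0, hcP0⟩ := (hc2'.comap_subtype (K := D.X)).exists_le_sylow
  obtain ⟨S, hPS⟩ := (P0.2.map D.X.subtype).exists_le_sylow
  have hcardP : Nat.card D.Q ≤ Nat.card ((P0 : Subgroup D.X).map D.X.subtype) := by
    obtain ⟨P1, hP1⟩ := (D.Q_two.comap_subtype (K := D.X)).exists_le_sylow
    rw [Subgroup.card_map_of_injective (Subgroup.subtype_injective _), P0.card_eq_multiplicity,
      ← P1.card_eq_multiplicity, ← Subgroup.card_map_of_injective (K := (P1 : Subgroup D.X))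
        (Subgroup.subtype_injective D.X)]
    refine Subgroup.card_le_of_le fun x hx => ⟨⟨x, D.Q_le_X hx⟩, hP1 hx, rfl⟩
  have hSeq : ((P0 : Subgroup D.X).map D.X.subtype) = (S : Subgroup G) := eq_of_le_of_card_ge hPS (by
    rw [S.card_eq_multiplicity, ← S0.card_eq_multiplicity, hS0]; exact hcardP)
  have hSX : (S : Subgroup G) ≤ D.X := hSeq ▸ Subgroup.map_subtype_le _
  have hcS : c ∈ (S : Subgroup G) := hSeq ▸ ⟨⟨c, hcX⟩, hcP0 (mem_zpowers c), rfl⟩
  have hSz0 : ∀ a ∈ (S : Subgroup G), a * z0 = z0 * a := by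
    obtain ⟨z3, hz3, hz31, hz3c⟩ := D.exists_centralized D.W_ne_bot hSX S.2
    rw [← (huniq z3 hz3 (hz3c c hcS)).resolve_left hz31]
    exact hz3c
  set Q1 := (S : Subgroup G) ⊓ centralizer (D.W : Set G)
  have hQ1 : ∀ a ∈ (S : Subgroup G), a ∈ Q1 ↔ a * w * a⁻¹ = w := by
    intro a ha
    constructor
    · intro h; rw [← mem_centralizer_iff.1 h.2 w hw, mul_inv_cancel_right]
    · intro h
      refine ⟨ha, mem_centralizer_iff.2 fun y hy => ?_⟩
      have h' := mul_inv_eq_iff_eq_mul.1 h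
      rcases hfour y hy with rfl | rfl | rfl | rfl
      · simp
      · exact (hSz0 a ha).symm
      · exact h'.symm
      · rw [mul_assoc, ← h', ← mul_assoc, ← hSz0 a ha, mul_assoc]
  have hval : ∀ a ∈ (S : Subgroup G), a * w * a⁻¹ = w ∨ a * w * a⁻¹ = z0 * w := by
    intro a ha
    rcases hfour _ (D.conj_mem_W (hSX ha) hw) with e | e | e | e
    · exact absurd (conj_eq_one_iff.1 e) hw1
    · refine absurd ?_ hwz
      calc w = a⁻¹ * (a * w * a⁻¹) * a := by group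
        _ = z0 := by rw [e, mul_assoc, ← hSz0 a ha, inv_mul_cancel_left]
    · exact Or.inl e
    · exact Or.inr e
  have hzw : z0 * w ≠ w := fun h => hz01 (mul_eq_right.1 h)
  have hidx : Q1.relIndex (S : Subgroup G) = 2 := by
    rw [Subgroup.relIndex, Subgroup.index_eq_two_iff]
    refine ⟨⟨c, hcS⟩, fun b => ?_⟩
    simp only [mem_subgroupOf, Subgroup.coe_mul, hQ1 _ b.2, hQ1 _ (mul_mem b.2 hcS)]
    have e : (b : G) * c * w * ((b : G) * c)⁻¹ = z0 * ((b : G) * w * (b : G)⁻¹) := by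
      calc (b : G) * c * w * ((b : G) * c)⁻¹ = (b : G) * (c * w * c⁻¹) * (b : G)⁻¹ := by group
        _ = ((b : G) * z0) * w * (b : G)⁻¹ := by rw [hcw]; group
        _ = _ := by rw [hSz0 b b.2]; group
    rcases hval b b.2 with h | h
    · right
      exact ⟨h, by rw [e, h]; exact hzw⟩
    · left
      exact ⟨by rw [e, h, ← mul_assoc, D.W_sq hz0, one_mul], by rw [h]; exact hzw⟩
  obtain ⟨N, hNn, hN2, -⟩ := Transfer.thompson_transfer S Q1 hidx c (by rw [sq, hc2]) fun g hg hgQ => by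
    set K := centralizer ({c} : Set G)
    have hK' : ∀ y ∈ D.W, g⁻¹ * y * g⁻¹⁻¹ ∈ K := fun y hy => by
      rw [inv_inv, mem_centralizer_singleton_iff]
      have h := mem_centralizer_iff.1 hgQ.2 y hy
      calc g⁻¹ * y * g * c = g⁻¹ * (y * (g * c * g⁻¹)) * g := by group
        _ = g⁻¹ * (g * c * g⁻¹ * y) * g := by rw [h]
        _ = _ := by group
    have hcΓ : c ∈ D.Γ := D.hXΓ hcX
    have hmove : ∀ U : Subgroup G, IsPGroup 2 U → U ≤ D.Γ → c ∈ U → ∃ m ∈ D.K, m * c = c * m ∧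
        ∀ h' x, x ∈ D.W → x ≠ 1 → h' * x * h'⁻¹ ∈ U → h' * x * h'⁻¹ ∈ K → m * (h' * x * h'⁻¹) * m⁻¹ = z0 := by
      intro U hU hUΓ hcU
      obtain ⟨m, hm, hmc, hmX⟩ := D.two_to_X_cent hU hUΓ hcU hcX hc2
      refine ⟨m, hm, hmc, fun h' x hx hx1 hxU hxK => ?_⟩
      have e : m * (h' * x * h'⁻¹) * m⁻¹ = m * h' * x * (m * h')⁻¹ := by group
      have hW := hmX _ hxU
      rw [e] at hW ⊢
      have hmK : m ∈ K := mem_centralizer_singleton_iff.2 hmc
      have hK2 : m * h' * x * (m * h')⁻¹ ∈ K := e ▸ K.mul_mem (K.mul_mem hmK hxK) (K.inv_mem hmK)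
      exact (huniq _ (D.conj_mem_W_of_X hx hW) (mem_centralizer_singleton_iff.1 hK2).symm).resolve_left
        fun h => hx1 (conj_eq_one_iff.1 h)
    obtain ⟨k, hk, hku⟩ : ∃ k ∈ K, k * z0 * k⁻¹ = g⁻¹ * w * g⁻¹⁻¹ := by
      by_cases huX : g⁻¹ * w * g⁻¹⁻¹ ∈ D.Γ
      · obtain ⟨m, -, hmc, hm⟩ := hmove (zpowers c ⊔ zpowers (g⁻¹ * w * g⁻¹⁻¹))
          (two_sup_commute hc2' (by
            rw [show g⁻¹ * w * g⁻¹⁻¹ * (g⁻¹ * w * g⁻¹⁻¹) = g⁻¹ * (w * w) * g by group, D.W_sq hw, mul_one,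
              inv_mul_cancel])
            (zpowers_le.2 (mem_centralizer_singleton_iff.2 (mem_centralizer_singleton_iff.1 (hK' w hw)).symm)))
          (sup_le (zpowers_le.2 hcΓ) (zpowers_le.2 huX)) (mem_sup_left (mem_zpowers c))
        refine ⟨m⁻¹, K.inv_mem (mem_centralizer_singleton_iff.2 hmc), ?_⟩
        rw [← hm g⁻¹ w hw hw1 (mem_sup_right (mem_zpowers _)) (hK' w hw)]; group
      · exact D.exists_conj_in hz0 hz01 (mem_centralizer_singleton_iff.2 hz0c.symm) hw (hK' w hw) huX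
    set v := (k⁻¹ * g⁻¹) * z0 * (k⁻¹ * g⁻¹)⁻¹ with hv
    have hu0 : v ∈ K := by
      rw [hv, show (k⁻¹ * g⁻¹) * z0 * (k⁻¹ * g⁻¹)⁻¹ = k⁻¹ * (g⁻¹ * z0 * g⁻¹⁻¹) * k by group]
      exact K.mul_mem (K.mul_mem (K.inv_mem hk) (hK' z0 hz0)) hk
    have hvz : v * z0 = z0 * v := by
      have hw' : (k⁻¹ * g⁻¹) * w * (k⁻¹ * g⁻¹)⁻¹ = z0 := by
        calc (k⁻¹ * g⁻¹) * w * (k⁻¹ * g⁻¹)⁻¹ = k⁻¹ * (g⁻¹ * w * g⁻¹⁻¹) * k := by group
          _ = z0 := by rw [← hku]; group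
      rw [hv]
      generalize k⁻¹ * g⁻¹ = g' at hw'
      calc g' * z0 * g'⁻¹ * z0 = g' * z0 * g'⁻¹ * (g' * w * g'⁻¹) := by rw [hw']
        _ = g' * (z0 * w) * g'⁻¹ := by group
        _ = g' * (w * z0) * g'⁻¹ := by rw [D.W_comm hz0 hw]
        _ = (g' * w * g'⁻¹) * (g' * z0 * g'⁻¹) := by group
        _ = _ := by rw [hw']
    obtain ⟨m, -, -, hm⟩ := hmove (zpowers c ⊔ zpowers z0 ⊔ zpowers v)
      (two_sup_commute (two_sup_commute hc2' (D.W_sq hz0) (zpowers_le.2 (mem_centralizer_singleton_iff.2 hz0c)))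
        (by rw [hv, show k⁻¹ * g⁻¹ * z0 * (k⁻¹ * g⁻¹)⁻¹ * (k⁻¹ * g⁻¹ * z0 * (k⁻¹ * g⁻¹)⁻¹) =
          k⁻¹ * g⁻¹ * (z0 * z0) * (k⁻¹ * g⁻¹)⁻¹ by group, D.W_sq hz0, mul_one, mul_inv_cancel])
        (sup_le (zpowers_le.2 (mem_centralizer_singleton_iff.2 (mem_centralizer_singleton_iff.1 hu0).symm))
          (zpowers_le.2 (mem_centralizer_singleton_iff.2 hvz.symm))))
      (sup_le (sup_le (zpowers_le.2 hcΓ) (zpowers_le.2 (D.W_mem_Γ hz0)))
        (zpowers_le.2 (D.mem_Γ_of_commute hz0 hz01 hvz)))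
      (mem_sup_left (mem_sup_left (mem_zpowers c)))
    have e1 : m * v * m⁻¹ = z0 := hm _ z0 hz0 hz01 (mem_sup_right (mem_zpowers v)) hu0
    have e2 : m * z0 * m⁻¹ = z0 := by
      have := hm 1 z0 hz0 hz01 (by simpa using mem_sup_left (mem_sup_right (mem_zpowers z0)))
        (by simpa using mem_centralizer_singleton_iff.2 hz0c.symm)
      simpa using this
    have h : v = z0 := mul_left_cancel (mul_right_cancel (e1.trans e2.symm))
    refine hwz (mul_left_cancel (a := k⁻¹ * g⁻¹) (mul_right_cancel (b := (k⁻¹ * g⁻¹)⁻¹) ?_))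
    rw [← hv, h]
    calc k⁻¹ * g⁻¹ * w * (k⁻¹ * g⁻¹)⁻¹ = k⁻¹ * (g⁻¹ * w * g⁻¹⁻¹) * k := by group
      _ = z0 := by rw [← hku]; group
  have hle : commutator G ≤ N := commutator_le.2 fun x _ y _ => by
    rw [commutatorElement_def, Subgroup.mul_mem_iff_of_index_two hN2, Subgroup.mul_mem_iff_of_index_two hN2,
      Subgroup.mul_mem_iff_of_index_two hN2, inv_mem_iff, inv_mem_iff]
    tauto
  rcases D.hnorm (commutator G) inferInstance (characteristic_iff_map_eq.1 inferInstance D.α) with h | h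
  · exact D.hna fun x y => by
      have h' : ⁅x, y⁆ ∈ commutator G := commutator_mem_commutator (mem_top x) (mem_top y)
      rwa [h, mem_bot, commutatorElement_eq_one_iff_mul_comm] at h'
  · have hNt : N = ⊤ := top_unique (h ▸ hle)
    rw [hNt, Subgroup.index_top] at hN2
    omega

theorem fixed_involution_mem_W {c : G} (hcX : c ∈ D.X) (hc : D.α c = c) (hc2 : c * c = 1) : c ∈ D.W := by
  by_contra hcW
  refine D.no_good_involution hc2 hcX hcW fun x hx hxc => ?_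
  refine D.centralizer_fixed_le (mul_mem hcX (D.W_mem_X hx)) ?_ ?_ fun h => hcW ?_
  · have hxf : D.α x = x := hx.2
    rw [map_mul, hc, hxf]
  · rw [mul_assoc, ← mul_assoc x c, ← hxc, mul_assoc c x x, D.W_sq hx, mul_one, hc2]
  · have := D.W.mul_mem h hx
    rwa [mul_assoc, D.W_sq hx, mul_one] at this

/-- A bad `2`-element of `X` with square in `T` lies in `T`. -/
theorem two_elt_mem_T {x : G} (hxX : x ∈ D.X) (hsq : x * x ∈ D.T)
    (hC : ¬ centralizer ({x} : Set G) ≤ D.Γ) : x ∈ D.T := by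
  by_contra hxT
  obtain ⟨t, ht, c, hcX, hc, rfl⟩ := D.exists_eq_T_mul hxX
  have hct := D.conj_mem_T hcX ht
  have hccW : c * c ∈ D.W := by
    refine ⟨?_, show D.α (c * c) = c * c by rw [map_mul, hc]⟩
    rw [show c * c = (t * (c * t * c⁻¹))⁻¹ * (t * c * (t * c)) by group]
    exact D.T.mul_mem (D.T.inv_mem (D.T.mul_mem ht hct)) hsq
  have hcW : c ∉ D.W := fun h => hxT (D.T.mul_mem ht h.1)
  have hcc1 : c * c ≠ 1 := fun h => hcW (D.fixed_involution_mem_W hcX hc h)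
  set K := centralizer ({t * c} : Set G)
  have hxw : ∀ y ∈ D.W, t * c * y * (t * c)⁻¹ = c * y * c⁻¹ := fun y hy => by
    calc t * c * y * (t * c)⁻¹ = t * (c * y * c⁻¹) * t⁻¹ := by group
      _ = _ := D.conj_T_W ht (D.fixed_conj_mem_W hcX hc hy)
  have hinW : ∀ y ∈ D.W, c * y = y * c → y ∈ K := fun y hy h =>
    mem_centralizer_singleton_iff.2 (mul_inv_eq_iff_eq_mul.1 ((hxw y hy).trans (mul_inv_eq_iff_eq_mul.2 h))).symm
  have hcK : c * c ∈ K := hinW _ hccW (mul_assoc c c c).symm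
  by_cases hall : ∀ y ∈ D.W, c * y = y * c
  · obtain ⟨w2, hw2, hw21, hw2c⟩ : ∃ w2 ∈ D.W, w2 ≠ 1 ∧ w2 ≠ c * c := by
      by_contra h
      push Not at h
      have h4 := D.four_le_card_W
      classical
      have := Fintype.ofFinite D.W
      have hsub : (Finset.univ : Finset D.W) ⊆ {(1 : D.W), (⟨c * c, hccW⟩ : D.W)} := fun y _ => by
        by_cases h1 : (y : G) = 1
        · exact Finset.mem_insert.2 (Or.inl (Subtype.ext h1))
        · exact Finset.mem_insert_of_mem (Finset.mem_singleton.2 (Subtype.ext (h y y.2 h1)))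
      have := (Finset.card_le_card hsub).trans (Finset.card_le_two)
      rw [Finset.card_univ, ← Nat.card_eq_fintype_card] at this
      omega
    obtain ⟨k, hk, hkX, hke⟩ := D.trans_centralizer hC hccW hcc1 hcK hw2 hw21 (hinW w2 hw2 (hall w2 hw2))
    refine hw2c ?_
    rw [← hke]
    obtain ⟨y, hyX, d, hdK, hdX, hyd, hya⟩ := D.exists_X_part hkX (mul_mem (D.T_le_X ht) hcX)
      (mem_centralizer_singleton_iff.1 hk) hccW (hke.symm ▸ hw2)
    rw [← hya]
    obtain ⟨hdf, hdT⟩ := D.K_X hdK hdX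
    obtain ⟨t', ht', c', hc'X, hc', rfl⟩ := D.exists_eq_T_mul hyX
    set e := c' * c * c'⁻¹ with he
    have heX : e ∈ D.X := mul_mem (mul_mem hc'X hcX) (inv_mem hc'X)
    have hef : D.α e = e := by rw [he, map_mul, map_mul, map_inv, hc', hc]
    have h1 : (t' * (c' * t * c'⁻¹) * (e * t'⁻¹ * e⁻¹)) * e = t * (c * d) := by
      rw [← mul_assoc t c d, ← hyd, he]; group
    obtain ⟨-, hW'⟩ := D.π_unique (D.T.mul_mem (D.T.mul_mem ht' (D.conj_mem_T hc'X ht))
      (D.conj_mem_T heX (D.T.inv_mem ht'))) ht hef (show D.α (c * d) = c * d by rw [map_mul, hc, hdf]) h1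
    generalize t' * (c' * t * c'⁻¹) * (e * t'⁻¹ * e⁻¹) = A at h1 hW'
    have he2 : e = A⁻¹ * t * (c * d) := by rw [mul_assoc, ← h1]; group
    have hee : e * e = c * c := by
      have heW : e * e ∈ D.W := by
        rw [he, show c' * c * c'⁻¹ * (c' * c * c'⁻¹) = c' * (c * c) * c'⁻¹ by group]
        exact D.conj_mem_W hc'X hccW
      set y := A⁻¹ * t with hy
      have hcy : c * y = y * c := hall y hW'
      have hdy : d * y = y * d := hdT y hW'.1
      have e1 : e * e = c * c * ((c⁻¹ * d * c⁻¹⁻¹) * d) := by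
        rw [he2]
        calc y * (c * d) * (y * (c * d)) = y * c * (d * y) * c * d := by group
          _ = y * (c * y) * d * c * d := by rw [hdy]; group
          _ = (y * y) * c * d * c * d := by rw [hcy]; group
          _ = _ := by rw [D.W_sq hW']; group
      have hm : (c⁻¹ * d * c⁻¹⁻¹) * d = 1 := D.eq_one_of_K_T
        (D.K.mul_mem (D.K_conj (inv_mem (D.hXΓ hcX)) hdK) hdK) (by
          have h' := D.T.mul_mem (D.T.inv_mem hccW.1) heW.1
          rwa [e1, inv_mul_cancel_left] at h')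
      rw [e1, hm, mul_one]
    calc t' * c' * (c * c) * (t' * c')⁻¹ = t' * (e * e) * t'⁻¹ := by rw [he]; group
      _ = c * c := by rw [hee]; exact D.conj_T_W ht' hccW
  · push Not at hall
    obtain ⟨y, hy, hyc⟩ := hall
    set i := c * y * c⁻¹ * y with hi
    have hiW : i ∈ D.W := D.W.mul_mem (D.conj_mem_W hcX hy) hy
    have hi1 : i ≠ 1 := fun h => hyc (by
      have : c * y * c⁻¹ = y⁻¹ := eq_inv_of_mul_eq_one_left h
      rw [D.W_inv hy, mul_inv_eq_iff_eq_mul] at this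
      exact this)
    have hinv2 : ∀ z ∈ D.W, c * (c * z * c⁻¹) * c⁻¹ = z := fun z hz => by
      calc c * (c * z * c⁻¹) * c⁻¹ = (c * c) * z * (c * c)⁻¹ := by group
        _ = z := D.conj_T_W hccW.1 hz
    have hic : c * i = i * c := mul_inv_eq_iff_eq_mul.1 (by
      calc c * i * c⁻¹ = (c * (c * y * c⁻¹) * c⁻¹) * (c * y * c⁻¹) := by rw [hi]; group
        _ = i := by rw [hinv2 y hy]; exact D.W_comm hy (D.conj_mem_W hcX hy))
    obtain ⟨k, hk, hkX, hke⟩ := D.trans_centralizer hC hiW hi1 (hinW i hiW hic) hccW hcc1 hcK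
    obtain ⟨y', hy'X, d, hdK, hdX, hyd, hya⟩ := D.exists_X_part hkX (mul_mem (D.T_le_X ht) hcX)
      (mem_centralizer_singleton_iff.1 hk) hiW (hke.symm ▸ hccW)
    set w2 := y' * y * y'⁻¹ with hw2d
    have hw2 : w2 ∈ D.W := D.conj_mem_W hy'X hy
    have hdw2 : d * w2 * d⁻¹ = w2 := by
      rw [(D.K_X hdK hdX).2 w2 hw2.1, mul_inv_cancel_right]
    have e1 : c * w2 * c⁻¹ * w2 = c * c := by
      rw [← hke, ← hxw w2 hw2, ← hya]
      calc t * c * w2 * (t * c)⁻¹ * w2 = t * c * (d * w2 * d⁻¹) * (t * c)⁻¹ * w2 := by rw [hdw2]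
        _ = (t * c * d) * w2 * (t * c * d)⁻¹ * w2 := by group
        _ = (y' * (t * c) * y'⁻¹) * w2 * (y' * (t * c) * y'⁻¹)⁻¹ * w2 := by rw [hyd]
        _ = y' * ((t * c * y * (t * c)⁻¹) * y) * y'⁻¹ := by rw [hw2d]; group
        _ = y' * i * y'⁻¹ := by rw [hxw y hy]
    have hcw2 : (c * w2) * (c * w2) = 1 := by
      calc (c * w2) * (c * w2) = (c * w2 * c⁻¹) * (c * c) * w2 := by group
        _ = (c * w2 * c⁻¹) * (w2 * (c * c)) := by rw [mul_assoc, D.W_comm hccW hw2]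
        _ = (c * c) * (c * c) := by rw [← mul_assoc, e1]
        _ = 1 := D.W_sq hccW
    have hw2f : D.α w2 = w2 := hw2.2
    have hmem := D.fixed_involution_mem_W (mul_mem hcX (D.W_mem_X hw2)) (by rw [map_mul, hc, hw2f]) hcw2
    have hcW' := D.W.mul_mem hmem hw2
    rw [mul_assoc, D.W_sq hw2, mul_one] at hcW'
    exact hcW hcW'

/-- A bad `2`-subgroup of `X` lies in `T`. -/
theorem bad_le_T {L : Subgroup G} (hLX : L ≤ D.X) (hL : IsPGroup 2 L)
    (hN : ¬ normalizer (L : Set G) ≤ D.Γ) : L ≤ D.T := by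
  obtain ⟨k, z, hz, hz1, hout, hcomm⟩ := D.exists_outside (hLX.trans D.hXΓ) hL hN
  have key : ∀ j : ℕ, ∀ x ∈ L, x ^ 2 ^ j ∈ D.T → x ∈ D.T := by
    intro j
    induction j with
    | zero => intro x _ h; simpa using h
    | succ j ih =>
      intro x hx h
      have h2 : x * x ∈ D.T := ih (x * x) (L.mul_mem hx hx) (by rwa [← pow_two, ← pow_mul, ← pow_succ'])
      exact D.two_elt_mem_T (hLX hx) h2 fun hle =>
        hout (hle (mem_centralizer_singleton_iff.2 (hcomm x hx).symm))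
  intro x hx
  obtain ⟨j, hj⟩ := hL ⟨x, hx⟩
  have hj' : x ^ 2 ^ j = 1 := congrArg Subtype.val hj
  exact key j x hx (hj' ▸ D.T.one_mem)

end GBar

end CfsgLib.FlavellHHS
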