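import Cfsg.Agent.Lib.FlavellHHS.M1
import Cfsg.Agent.Lib.Involutions.Basic
import Cfsg.Agent.Lib.Involutions.BrauerSuzuki
import Cfsg.Agent.Lib.Involutions.Fusion
import Cfsg.Agent.Lib.Transfer.Basic
import Cfsg.Agent.Lib.PCore.Basic

/-!
Consequences of `(M1)`: fusion of the involutions of `W`; `W` has order at least four.
-/

set_option autoImplicit false
set_option linter.unusedSectionVars false

namespace CfsgLib.FlavellHHS

open Subgroup CfsgLib.CoprimeCentral CfsgLib.FlavellFpf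
open scoped commutatorElement

universe u v w

namespace GBar

variable {G : Type u} [Group G] [Finite G] {M : Type v} [AddCommGroup M] [Finite M] {Zc : Type w}
  [AddCommGroup Zc] [Finite Zc] {p r : ℕ} (D : GBar G M Zc p r)

theorem W_sq {x : G} (hx : x ∈ D.W) : x * x = 1 := mul_eq_one_iff_eq_inv.2 (D.W_inv hx).symm

theorem W_orderOf {x : G} (hx : x ∈ D.W) (hx1 : x ≠ 1) : orderOf x = 2 :=
  Involutions.orderOf_eq_two_iff_mul.2 ⟨hx1, D.W_sq hx⟩

/-- A conjugate in `X` of an element of `W` lies in `W`. -/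
theorem conj_mem_W_of_X {g x : G} (hx : x ∈ D.W) (hv : g * x * g⁻¹ ∈ D.X) : g * x * g⁻¹ ∈ D.W := by
  rcases eq_or_ne x 1 with rfl | hx1
  · simp [D.W.one_mem]
  obtain ⟨k, hk, y, hy, rfl⟩ := D.hdec g (D.mem_Γ_of_conj hx hx1 (D.hXΓ hv))
  have hw := D.conj_mem_W hy hx
  have e : k * y * x * (k * y)⁻¹ = k * (y * x * y⁻¹) * k⁻¹ := by group
  rw [e] at hv ⊢
  rwa [D.dtrick' hw.1 hk hv, mul_inv_cancel_right]

/-- The centralizer of a conjugate in `Γ` of an element of `W` lies in `Γ`. -/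
theorem mem_Γ_of_commute' {g x y : G} (hx : x ∈ D.W) (hx1 : x ≠ 1) (hv : g * x * g⁻¹ ∈ D.Γ)
    (hy : y * (g * x * g⁻¹) = g * x * g⁻¹ * y) : y ∈ D.Γ := by
  have hg := D.mem_Γ_of_conj hx hx1 hv
  have h : g⁻¹ * y * g ∈ D.Γ := D.mem_Γ_of_commute hx hx1 (by
    calc g⁻¹ * y * g * x = g⁻¹ * (y * (g * x * g⁻¹)) * g := by group
      _ = g⁻¹ * (g * x * g⁻¹ * y) * g := by rw [hy]
      _ = x * (g⁻¹ * y * g) := by group)
  simpa [mul_assoc] using mul_mem (mul_mem hg h) (inv_mem hg)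

theorem conj_not_mem_Γ {g x : G} (hx : x ∈ D.W) (hx1 : x ≠ 1) (hg : g ∉ D.Γ) : g * x * g⁻¹ ∉ D.Γ :=
  fun h => hg (D.mem_Γ_of_conj hx hx1 h)

/-- In a subgroup, an element of `W` is conjugate to each conjugate of an element of `W` outside `X`. -/
theorem exists_conj_in {K : Subgroup G} {z : G} (hz : z ∈ D.W) (hz1 : z ≠ 1) (hzK : z ∈ K) {g x : G}
    (hx : x ∈ D.W) (huK : g * x * g⁻¹ ∈ K) (huX : g * x * g⁻¹ ∉ D.Γ) :
    ∃ k ∈ K, k * z * k⁻¹ = g * x * g⁻¹ := by
  set u := g * x * g⁻¹ with hu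
  have hx1 : x ≠ 1 := fun h => huX (by rw [hu, h, mul_one, mul_inv_cancel]; exact D.Γ.one_mem)
  have hzo := D.W_orderOf hz hz1
  have huo : orderOf u = 2 := (Involutions.orderOf_conj_eq g x).trans (D.W_orderOf hx hx1)
  have hsub : Subgroup.closure ({z, u} : Set G) ≤ K := by
    rw [Subgroup.closure_le]; rintro y (rfl | rfl) <;> assumption
  rcases Nat.even_or_odd (orderOf (z * u)) with he | ho
  · exfalso
    obtain ⟨heo, hez, heu⟩ := Involutions.central_involution hzo huo he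
    set n := orderOf (z * u) / 2 with hn
    set e := (z * u) ^ n with hedef
    have : Fact (Nat.Prime 2) := ⟨Nat.prime_two⟩
    have heX : e ∈ D.Γ := D.mem_Γ_of_commute hz hz1 hez.eq
    have hze : z * e ∈ D.Γ := mul_mem (D.W_mem_Γ hz) heX
    have hshift : z * e = (z * u) ^ (-(n : ℤ)) * z := by
      rw [hedef, ← zpow_natCast]
      exact Involutions.involution_mul_zpow hzo huo _
    -- `z e` is a conjugate of `z` or of `u`
    obtain ⟨h, y, hy, hy'⟩ : ∃ h y, y ∈ D.W ∧ z * e = h * y * h⁻¹ := by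
      rcases Nat.even_or_odd' n with ⟨m, hm | hm⟩
      · have h1 := Involutions.conj_by_zpow hzo huo (m : ℤ) (-(n : ℤ))
        rw [← hshift, show 2 * (m : ℤ) + -(n : ℤ) = 0 by omega, zpow_zero, one_mul] at h1
        refine ⟨((z * u) ^ (m : ℤ))⁻¹, z, hz, ?_⟩
        generalize (z * u) ^ (m : ℤ) = g' at h1 ⊢
        conv_rhs => rw [← h1]
        group
      · have h1 := Involutions.conj_by_zpow hzo huo (m : ℤ) (-(n : ℤ))
        rw [← hshift, show 2 * (m : ℤ) + -(n : ℤ) = -1 by omega, zpow_neg_one, mul_inv_rev,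
          Involutions.inv_eq_self_of_involution huo, Involutions.inv_eq_self_of_involution hzo, mul_assoc u,
          D.W_sq hz, mul_one] at h1
        refine ⟨((z * u) ^ (m : ℤ))⁻¹ * g, x, hx, ?_⟩
        have h3 : u = g * x * g⁻¹ := hu
        generalize (z * u) ^ (m : ℤ) = g' at h1 ⊢
        calc z * e = g'⁻¹ * (g' * (z * e) * g'⁻¹) * g' := by group
          _ = _ := by rw [h1, h3]; group
    -- so `e` is conjugate in `Γ` to an element of `W`
    have h2 : IsPGroup 2 (zpowers z ⊔ zpowers e : Subgroup G) :=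
      (Involutions.isPGroup_two_zpowers hzo).to_sup_of_normal_left' (Involutions.isPGroup_two_zpowers heo)
        (zpowers_le.2 (mem_normalizer_of_conj_mem fun a ha => by
          obtain ⟨i, rfl⟩ := mem_zpowers_iff.1 ha
          have hc : Commute e (z ^ i) := (show Commute e z from hez).zpow_right i
          rw [hc.eq, mul_inv_cancel_right]
          exact zpow_mem (mem_zpowers z) i))
    obtain ⟨k, hk, -, hkX⟩ := D.two_to_X h2 (sup_le (zpowers_le.2 (D.W_mem_Γ hz)) (zpowers_le.2 heX))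
    have h1W : k * z * k⁻¹ ∈ D.W := D.conj_mem_W_of_X hz (hkX z (mem_sup_left (mem_zpowers z)))
    have h2W : k * (z * e) * k⁻¹ ∈ D.W := by
      have h' := hkX (z * e) (mul_mem (mem_sup_left (mem_zpowers z)) (mem_sup_right (mem_zpowers e)))
      rw [hy', show k * (h * y * h⁻¹) * k⁻¹ = k * h * y * (k * h)⁻¹ by group] at h' ⊢
      exact D.conj_mem_W_of_X hy h'
    have heW : k * e * k⁻¹ ∈ D.W := by
      have := D.W.mul_mem (D.W.inv_mem h1W) h2W
      rwa [show (k * z * k⁻¹)⁻¹ * (k * (z * e) * k⁻¹) = k * e * k⁻¹ by group] at this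
    have ee : k⁻¹ * (k * e * k⁻¹) * k⁻¹⁻¹ = e := by group
    refine huX (D.mem_Γ_of_commute' heW (fun h => Involutions.ne_one_of_involution heo (conj_eq_one_iff.1 h))
      (g := k⁻¹) (ee.symm ▸ heX) ?_)
    rw [ee]
    exact heu.eq.symm
  · obtain ⟨d, hd, hdz⟩ := Involutions.conj_of_odd_order hzo huo ho
    exact ⟨d, hsub hd, hdz⟩

theorem card_W : Nat.card D.W = D.Sp.Zs.index := by
  rw [AddSubgroup.index_eq_card]
  let f : Zc ⧸ D.Sp.Zs → D.W := fun q => Quotient.liftOn q (fun z => (⟨D.ω z, D.hω_mem z⟩ : D.W))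
    fun z z' h => Subtype.ext (by
      refine D.ω_eq_iff.2 ?_
      have h' := (QuotientAddGroup.leftRel_apply).1 h
      rwa [← eq_neg_of_add_eq_zero_left (D.Sp.hZ2 z)] at h')
  refine (Nat.card_congr (Equiv.ofBijective f ⟨?_, ?_⟩)).symm
  · intro q q' h
    induction q using QuotientAddGroup.induction_on with
    | _ z =>
    induction q' using QuotientAddGroup.induction_on with
    | _ z' =>
    refine QuotientAddGroup.eq.2 ?_
    rw [← eq_neg_of_add_eq_zero_left (D.Sp.hZ2 z)]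
    exact D.ω_eq_iff.1 (congrArg Subtype.val h)
  · rintro ⟨x, hx⟩
    obtain ⟨z, rfl⟩ := D.hω_surj x hx
    exact ⟨(z : Zc ⧸ D.Sp.Zs), rfl⟩

theorem W_two : IsPGroup 2 D.W := D.T_two.to_le D.W_le_T

/-- A `2`-subgroup of `X` centralizes a non-trivial element of `W`. -/
theorem exists_centralized (hW : D.W ≠ ⊥) {L : Subgroup G} (hLX : L ≤ D.X) (hL : IsPGroup 2 L) :
    ∃ z ∈ D.W, z ≠ 1 ∧ ∀ l ∈ L, l * z = z * l := by
  have : Fact (Nat.Prime 2) := ⟨Nat.prime_two⟩
  letI : MulAction L D.W :=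
    { smul := fun l z => ⟨l * z * (l : G)⁻¹, D.conj_mem_W (hLX l.2) z.2⟩
      one_smul := fun z => Subtype.ext (by show ((1 : L) : G) * z * ((1 : L) : G)⁻¹ = z; simp)
      mul_smul := fun a b z => Subtype.ext (by
        show ((a * b : L) : G) * z * ((a * b : L) : G)⁻¹ = a * (b * z * (b : G)⁻¹) * (a : G)⁻¹
        rw [Subgroup.coe_mul, mul_inv_rev]; group) }
  have hmod := hL.card_modEq_card_fixedPoints D.W
  obtain ⟨j, hj⟩ := IsPGroup.iff_card.1 D.W_two
  have hj0 : j ≠ 0 := fun e => hW (D.W.eq_bot_of_card_eq (by rw [hj, e, pow_zero]))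
  have h1 : (1 : D.W) ∈ MulAction.fixedPoints L D.W := fun l =>
    Subtype.ext (show (l : G) * 1 * (l : G)⁻¹ = 1 by group)
  have h2 : 2 ∣ Nat.card (MulAction.fixedPoints L D.W) :=
    Nat.modEq_zero_iff_dvd.1 (hmod.symm.trans (Nat.modEq_zero_iff_dvd.2 (hj ▸ dvd_pow_self 2 hj0)))
  have : Nonempty (MulAction.fixedPoints L D.W) := ⟨⟨1, h1⟩⟩
  have : Nontrivial (MulAction.fixedPoints L D.W) :=
    Finite.one_lt_card_iff_nontrivial.1 (lt_of_lt_of_le one_lt_two (Nat.le_of_dvd Nat.card_pos h2))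
  obtain ⟨⟨z, hz⟩, hne⟩ := exists_ne (⟨1, h1⟩ : MulAction.fixedPoints L D.W)
  exact ⟨z, z.2, fun h => hne (Subtype.ext (Subtype.ext h)), fun l hl =>
    mul_inv_eq_iff_eq_mul.1 (congrArg Subtype.val (hz ⟨l, hl⟩))⟩

/-- A `2`-subgroup of `Γ` centralizes a conjugate of a non-trivial element of `W`. -/
theorem exists_centralized' (hW : D.W ≠ ⊥) {L : Subgroup G} (hLΓ : L ≤ D.Γ) (hL : IsPGroup 2 L) :
    ∃ k ∈ D.K, ∃ z ∈ D.W, z ≠ 1 ∧ (∀ l ∈ L, l * (k * z * k⁻¹) = k * z * k⁻¹ * l) ∧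
      ∀ l ∈ L, k⁻¹ * l * k ∈ D.X := by
  obtain ⟨k, hk, -, hkX⟩ := D.two_to_X hL hLΓ
  obtain ⟨z, hz, hz1, hzL⟩ := D.exists_centralized hW (L := L.map (MulAut.conj k).toMonoidHom)
    (by rintro _ ⟨l, hl, rfl⟩; exact hkX l hl) (hL.map _)
  refine ⟨k⁻¹, D.K.inv_mem hk, z, hz, hz1, fun l hl => ?_, fun l hl => by rw [inv_inv]; exact hkX l hl⟩
  have h : k * l * k⁻¹ * z = z * (k * l * k⁻¹) := hzL _ ⟨l, hl, rfl⟩
  calc l * (k⁻¹ * z * k⁻¹⁻¹) = k⁻¹ * (k * l * k⁻¹ * z) * k := by group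
    _ = k⁻¹ * (z * (k * l * k⁻¹)) * k := by rw [h]
    _ = _ := by group

theorem Γ_le_X_of_small (hW : Nat.card D.W < 4) : D.Γ ≤ D.X := fun g hg => by
  obtain ⟨k, hk, x, hx, rfl⟩ := D.hdec g hg
  rw [D.hsmall hW, mem_bot] at hk
  rwa [hk, one_mul]

include D in
theorem no_isolated {t : G} (ht : Cfsg.IsIsolatedInvolution t) : False := by
  have hto := ht.1
  have hz := Involutions.zstar G t ht
  have : (Cfsg.pPrimeCore 2 G).Characteristic := inferInstance
  have : Fact (Nat.Prime 2) := ⟨Nat.prime_two⟩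
  rcases D.hnorm (Cfsg.pPrimeCore 2 G) (Subgroup.normal_of_characteristic _)
    (characteristic_iff_map_eq.1 inferInstance D.α) with h | h
  · have hc : t ∈ center G := mem_center_iff.2 fun g => by
      have := hz g
      rw [h, mem_bot, mul_inv_eq_one, mul_inv_eq_iff_eq_mul] at this
      exact this
    rw [D.center_eq_bot, mem_bot] at hc
    exact Involutions.ne_one_of_involution hto hc
  · have hodd := PCore.not_dvd_card_pPrimeCore (p := 2) (G := G)
    rw [h, Subgroup.card_top] at hodd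
    exact hodd (hto ▸ orderOf_dvd_natCard t)

/-- `W` is not of order one. -/
theorem W_ne_bot : D.W ≠ ⊥ := by
  intro hW
  have hΓX := D.Γ_le_X_of_small (by rw [hW, Subgroup.card_bot]; norm_num)
  have hWm : ∀ x ∈ D.W, x = (1 : G) := fun x hx => mem_bot.1 (hW ▸ hx)
  have : Fact (Nat.Prime 2) := ⟨Nat.prime_two⟩
  have htop : D.Sp.Zs = ⊤ := top_unique fun z _ => (D.hω_one z).1 (hWm _ (D.hω_mem z))
  obtain ⟨t, ht, ht1⟩ : ∃ t ∈ D.T, t ≠ 1 := by
    by_contra h
    push Not at h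
    exact D.T_ne_bot ((Subgroup.eq_bot_iff_forall _).2 h)
  -- every fixed element of `X` acts trivially on `M`
  have htriv : ∀ c ∈ D.X, D.α c = c → D.gM c = 1 := by
    intro c hcX hc
    have hm : D.π t ≠ 0 := fun e => ht1 (hWm t (D.mem_W_of_π ht e))
    obtain ⟨y, hy⟩ : ∃ y, D.Sp.B (D.π t) y ≠ 0 := by
      by_contra h; push Not at h; exact hm (D.Sp.B_nondeg h)
    obtain ⟨χ, hχ, hχy⟩ := D.Sp.exists_isW hy
    have hinj : ∀ z, χ z = 0 → z = 0 := fun z hz => D.Sp.eq_zero_of_mem_Zs hχ.1 (htop ▸ AddSubgroup.mem_top z) hz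
    have hR : D.Sp.Rad χ = ⊥ := (AddSubgroup.eq_bot_iff_forall _).2 fun x hx =>
      D.Sp.B_nondeg fun z => hinj _ (hx z)
    have hirr := D.Sp.irr_rad hχ
    rw [hR] at hirr
    have h1 := D.Sp.rigid hirr χ (fun x hx z _ => by rw [AddSubgroup.mem_bot.1 hx, map_zero]; simp)
      ⟨_, AddSubgroup.mem_top _, y, AddSubgroup.mem_top _, hχy⟩ (D.gM c)
      (DFunLike.ext _ _ fun m => D.gM_a hcX hc m) (fun _ _ => AddSubgroup.mem_top _)
      (fun x hx => by rw [AddSubgroup.mem_bot.1 hx, map_zero]; exact zero_mem _)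
      (fun x _ z _ => by
        rw [← D.hB c hcX hc, D.hfixZs c hcX hc _ (htop ▸ AddSubgroup.mem_top _)])
      (m := Nat.card G) (by rw [D.gM_pow hcX hc, pow_card_eq_one', D.gM_W D.W.one_mem])
      (D.hrn ▸ D.hrG)
    exact DFunLike.ext _ _ fun m =>
      (D.Sp.madd_eq_zero_iff).1 (AddSubgroup.mem_bot.1 (h1 m (AddSubgroup.mem_top m)))
  have hcomm : ∀ a ∈ D.T, ∀ b ∈ D.T, a * b = b * a := fun a ha b hb =>
    (D.commute_T_iff ha hb).2 (htop ▸ AddSubgroup.mem_top _)
  have hcent : ∀ x ∈ D.X, ∀ a ∈ D.T, x * a = a * x := by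
    intro x hx a ha
    obtain ⟨t', ht', c, hcX, hc, rfl⟩ := D.exists_eq_T_mul hx
    have h1 := mul_inv_eq_iff_eq_mul.1 (D.cent_T_of_gM hcX hc (htriv c hcX hc) ha)
    rw [mul_assoc, h1, ← mul_assoc, hcomm t' ht' a ha, mul_assoc]
  obtain ⟨S0, hS0⟩ := D.Q_sylow
  have hto : orderOf t = 2 := Involutions.orderOf_eq_two_iff_mul.2 ⟨ht1, hWm _ (D.sq_mem_W ht)⟩
  refine D.no_isolated (Involutions.isIsolated_of_sylow S0 hto fun g hg => ?_)
  set v := g * t * g⁻¹ with hv
  have hvX : v ∈ D.X := D.Q_le_X (hS0 ▸ hg)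
  -- a Sylow subgroup of the centralizer of `v` containing one of its intersection with `X`
  have hTC : D.T ≤ centralizer ({v} : Set G) ⊓ D.X := fun a ha =>
    ⟨mem_centralizer_singleton_iff.2 (hcent v hvX a ha).symm, D.T_le_X ha⟩
  obtain ⟨S1, hTS1⟩ := (D.T_two.comap_subtype (K := centralizer ({v} : Set G))).exists_le_sylow
  set S : Subgroup G := (S1 : Subgroup _).map (centralizer ({v} : Set G)).subtype with hSdef
  have hSC : S ≤ centralizer ({v} : Set G) := Subgroup.map_subtype_le _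
  have hTS : D.T ≤ S := fun a ha => ⟨⟨a, (hTC ha).1⟩, hTS1 ha, rfl⟩
  have hS2 : IsPGroup 2 S := S1.2.map _
  have hproper : ∀ E : Subgroup G, Inv D.α E → D.T ≤ E → E ≠ ⊤ → normalizer (E : Set G) ≤ D.X :=
    fun E hE hTE hne => (D.normalizer_le_Γ hE (fun e => D.T_ne_bot (le_bot_iff.1 (e ▸ hTE))) hne
      (hTE.trans Subgroup.le_normalizer)).trans hΓX
  have hSX : S ≤ D.X := by
    by_contra hle
    have hlt : (S ⊓ D.X).subgroupOf S < ⊤ := lt_top_iff_ne_top.2 fun e =>
      hle ((Subgroup.subgroupOf_eq_top.1 e).trans inf_le_right)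
    have : Group.IsNilpotent S := hS2.isNilpotent
    obtain ⟨y, hy, hyn⟩ := SetLike.exists_of_lt (Group.normalizerCondition_of_isNilpotent _ hlt)
    have hyN : (y : G) ∈ normalizer ((S ⊓ D.X : Subgroup G) : Set G) := mem_normalizer_of_conj_mem
      fun z hz => ((mem_normalizer_iff.1 hy) ⟨z, hz.1⟩).1 hz
    exact hyn ⟨y.2, hproper (S ⊓ D.X) (D.inv_of_T_le (le_inf hTS D.T_le_X) inf_le_right) (le_inf hTS D.T_le_X)
      (fun e => D.X_ne_top (top_unique (e ▸ inf_le_right))) hyN⟩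
  -- it is a Sylow subgroup of `G`
  have hcard : Nat.card D.Q ≤ Nat.card S := by
    have hQv : ∀ a ∈ D.Q.map (MulAut.conj g).toMonoidHom, a ∈ centralizer ({v} : Set G) := by
      rintro _ ⟨a, ha, rfl⟩
      rw [mem_centralizer_singleton_iff]
      show g * a * g⁻¹ * v = v * (g * a * g⁻¹)
      calc g * a * g⁻¹ * v = g * (a * t) * g⁻¹ := by rw [hv]; group
        _ = g * (t * a) * g⁻¹ := by rw [hcent a (D.Q_le_X ha) t ht]
        _ = _ := by rw [hv]; group
    have hp2 := (D.Q_two.map (MulAut.conj g).toMonoidHom).comap_subtype (K := centralizer ({v} : Set G))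
    obtain ⟨S2, hS2'⟩ := hp2.exists_le_sylow
    rw [Nat.card_congr (D.Q.equivMapOfInjective (MulAut.conj g).toMonoidHom (MulAut.conj g).injective).toEquiv,
      ← Subgroup.map_subgroupOf_eq_of_le hQv, Subgroup.card_map_of_injective (Subgroup.subtype_injective _),
      hSdef, Subgroup.card_map_of_injective (Subgroup.subtype_injective _)]
    exact (Subgroup.card_le_of_le hS2').trans (le_of_eq (S2.card_eq_multiplicity.trans S1.card_eq_multiplicity.symm))
  obtain ⟨S3, hSS3⟩ := hS2.exists_le_sylow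
  have hS3 : (S3 : Subgroup G) = S := (eq_of_le_of_card_ge hSS3 (by
    rw [S3.card_eq_multiplicity, ← S0.card_eq_multiplicity, hS0]; exact hcard)).symm
  have hvS : v ∈ S := by
    have hvC : v ∈ centralizer ({v} : Set G) := mem_centralizer_singleton_iff.2 rfl
    have h2 : IsPGroup 2 (S ⊔ zpowers v : Subgroup G) :=
      hS2.to_sup_of_normal_left' (Involutions.isPGroup_two_zpowers ((Involutions.orderOf_conj_eq g t).trans hto))
        (zpowers_le.2 (mem_normalizer_of_conj_mem fun a ha => by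
          rwa [← (mem_centralizer_singleton_iff.1 (hSC ha)), mul_inv_cancel_right]))
    obtain ⟨S4, hS4⟩ := h2.exists_le_sylow
    have : (S3 : Subgroup G) = S4 := eq_of_le_of_card_ge (hS3.le.trans (le_sup_left.trans hS4))
      (le_of_eq (S4.card_eq_multiplicity.trans S3.card_eq_multiplicity.symm))
    exact hS3 ▸ this.symm ▸ hS4 (mem_sup_right (mem_zpowers v))
  -- Burnside
  obtain ⟨c, hc, hgc⟩ := Transfer.exists_normalizer_of_image_eq S3 {t} {v}
    (fun x hx => by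
      rw [Set.image_singleton, hcent x (hSX (hS3 ▸ hx)) t ht, mul_inv_cancel_right])
    (fun x hx => by
      rw [Set.image_singleton, (mem_centralizer_singleton_iff.1 (hSC (hS3 ▸ hx))), mul_inv_cancel_right])
    g (by rw [Set.image_singleton])
  simp only [Set.image_singleton, Set.singleton_eq_singleton_iff] at hc
  rw [hS3] at hgc
  have hgcX := hproper S (D.inv_of_T_le hTS hSX) hTS (fun e => D.X_ne_top (top_unique (e ▸ hSX))) hgc
  have e1 : v = g * c * t * (g * c)⁻¹ := by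
    calc v = g * (c * t * c⁻¹) * g⁻¹ := by rw [hc]
      _ = _ := by group
  rw [e1, hcent _ hgcX t ht, mul_inv_cancel_right]

/-- `W` has order at least four. -/
theorem four_le_card_W : 4 ≤ Nat.card D.W := by
  have : Fact (Nat.Prime 2) := ⟨Nat.prime_two⟩
  obtain ⟨j, hj⟩ := IsPGroup.iff_card.1 D.W_two
  rcases j with _ | _ | j
  · exact absurd (D.W.eq_bot_of_card_eq (by rw [hj, pow_zero])) D.W_ne_bot
  · exfalso
    have hΓX := D.Γ_le_X_of_small (by rw [hj]; norm_num)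
    obtain ⟨z, hz, hz1⟩ : ∃ z ∈ D.W, z ≠ 1 := by
      by_contra h; push Not at h; exact D.W_ne_bot ((Subgroup.eq_bot_iff_forall _).2 h)
    refine D.no_isolated (t := z) ⟨D.W_orderOf hz hz1, fun g hg => ?_⟩
    have hv : g * z * g⁻¹ ∈ D.X := hΓX (D.mem_Γ_of_commute hz hz1 hg.eq.symm)
    have hvW := D.conj_mem_W_of_X hz hv
    by_contra hne
    have hv1 : g * z * g⁻¹ ≠ 1 := fun h => hz1 (conj_eq_one_iff.1 h)
    have h3 : 3 ≤ Nat.card D.W := by
      classical
      have := Fintype.ofFinite D.W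
      rw [Nat.card_eq_fintype_card]
      refine Fintype.two_lt_card_iff.2 ⟨1, ⟨z, hz⟩, ⟨_, hvW⟩, ?_, ?_, ?_⟩
      · exact fun h => hz1 (congrArg Subtype.val h).symm
      · exact fun h => hv1 (congrArg Subtype.val h).symm
      · exact fun h => hne (congrArg Subtype.val h).symm
    rw [hj] at h3
    norm_num at h3
  · rw [hj, pow_succ, pow_succ, mul_assoc]
    exact Nat.le_mul_of_pos_left _ (Nat.two_pow_pos j)

end GBar

end CfsgLib.FlavellHHS
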