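import Cfsg.Agent.Lib.FlavellHHS.InvolBase

/-!
Working modulo `K` in `Γ = K X`: transporting `2`-subgroups of `Γ` into `X` centralizing a given involution,
and the `X`-part of an element of `Γ`.
-/

set_option autoImplicit false
set_option linter.unusedSectionVars false

namespace CfsgLib.FlavellHHS

open Subgroup CfsgLib.CoprimeCentral CfsgLib.FlavellFpf
open scoped commutatorElement

universe u v w

namespace GBar

variable {G : Type u} [Group G] [Finite G] {M : Type v} [AddCommGroup M] [Finite M] {Zc : Type w}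
  [AddCommGroup Zc] [Finite Zc] {p r : ℕ} (D : GBar G M Zc p r)

/-- An element of `K` moves a `2`-subgroup of `Γ` into `X`, centralizing a given involution of it in `X`. -/
theorem two_to_X_cent {U : Subgroup G} (hU : IsPGroup 2 U) (hUΓ : U ≤ D.Γ) {c : G} (hcU : c ∈ U)
    (hcX : c ∈ D.X) (hc2 : c * c = 1) :
    ∃ k ∈ D.K, k * c = c * k ∧ ∀ u ∈ U, k * u * k⁻¹ ∈ D.X := by
  have := D.hp_fact
  obtain ⟨k, hk, -, hkX⟩ := D.two_to_X hU hUΓ
  have hcΓ := D.hXΓ hcX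
  set d := c⁻¹ * (k * c * k⁻¹) with hd
  have hdK : d ∈ D.K := by
    rw [hd, show c⁻¹ * (k * c * k⁻¹) = (c⁻¹ * k * c⁻¹⁻¹) * k⁻¹ by group]
    exact D.K.mul_mem (D.K_conj (inv_mem hcΓ) hk) (D.K.inv_mem hk)
  have hdX : d ∈ D.X := mul_mem (inv_mem hcX) (hkX c hcU)
  have hkc : k * c * k⁻¹ = c * d := by rw [hd]; group
  have hcd : c * d * (c * d) = 1 := by
    rw [← hkc, show k * c * k⁻¹ * (k * c * k⁻¹) = k * (c * c) * k⁻¹ by group, hc2, mul_one, mul_inv_cancel]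
  -- a square root of `d`
  obtain ⟨j, hj⟩ := D.hKp ⟨d, hdK⟩
  have hj' : d ^ p ^ j = 1 := congrArg Subtype.val hj
  obtain ⟨i, hi⟩ : Odd (p ^ j) := (D.hp.odd_of_ne_two D.hp2).pow
  set m := d ^ (i + 1) with hm
  have hmm : m * m = d := by
    rw [hm, ← pow_add, show i + 1 + (i + 1) = p ^ j + 1 by omega, pow_succ, hj', one_mul]
  have hcm : c * m * c⁻¹ = m⁻¹ := by
    have h1 : c * d * c⁻¹ = d⁻¹ := by
      rw [eq_inv_iff_mul_eq_one, inv_eq_of_mul_eq_one_right hc2]; rw [← hcd]; group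
    rw [hm, ← conj_pow, h1, inv_pow]
  have hmc : c * m = m⁻¹ * c := mul_inv_eq_iff_eq_mul.1 hcm
  refine ⟨m * k, D.K.mul_mem (D.K.pow_mem hdK _) hk, ?_, fun u hu => ?_⟩
  · calc m * k * c = m * (k * c * k⁻¹) * k := by group
      _ = m * c * d * k := by rw [hkc]; group
      _ = m * (c * m) * (m * k) := by rw [← hmm]; group
      _ = c * (m * k) := by rw [hmc]; group
  · rw [show m * k * u * (m * k)⁻¹ = m * (k * u * k⁻¹) * m⁻¹ by group]
    exact mul_mem (mul_mem (pow_mem hdX _) (hkX u hu)) (inv_mem (pow_mem hdX _))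

/-- An element of `Γ` conjugating an element of `T` into `X` does so as its part in `X` does. -/
theorem conj_T_part {k y t : G} (hk : k ∈ D.K) (hy : y ∈ D.X) (ht : t ∈ D.T)
    (h : k * y * t * (k * y)⁻¹ ∈ D.X) : k * y * t * (k * y)⁻¹ = y * t * y⁻¹ := by
  have e : k * y * t * (k * y)⁻¹ = k * (y * t * y⁻¹) * k⁻¹ := by group
  rw [e] at h ⊢
  rw [D.dtrick' (D.conj_mem_T hy ht) hk h, mul_inv_cancel_right]

/-- The part in `X` of an element of `Γ` centralizing an element of `X`, acting in the same way on `W`. -/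
theorem exists_X_part {k x a : G} (hk : k ∈ D.Γ) (hx : x ∈ D.X) (hkx : k * x = x * k) (ha : a ∈ D.W)
    (hka : k * a * k⁻¹ ∈ D.W) :
    ∃ y ∈ D.X, ∃ d ∈ D.K, d ∈ D.X ∧ y * x * y⁻¹ = x * d ∧ y * a * y⁻¹ = k * a * k⁻¹ := by
  obtain ⟨k1, hk1, y, hy, rfl⟩ := D.hdec k hk
  refine ⟨y, hy, x⁻¹ * (y * x * y⁻¹), ?_, mul_mem (inv_mem hx) (mul_mem (mul_mem hy hx) (inv_mem hy)),
    by group, (D.conj_T_part hk1 hy ha.1 (D.W_mem_X hka)).symm⟩
  have e : y * x * y⁻¹ = k1⁻¹ * x * k1 := by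
    calc y * x * y⁻¹ = k1⁻¹ * (k1 * y * x) * (k1 * y)⁻¹ * k1 := by group
      _ = _ := by rw [hkx]; group
  rw [e, show x⁻¹ * (k1⁻¹ * x * k1) = (x⁻¹ * k1⁻¹ * x⁻¹⁻¹) * k1 by group]
  exact D.K.mul_mem (D.K_conj (inv_mem (D.hXΓ hx)) (D.K.inv_mem hk1)) hk1

/-- A `p`-group normalized by two involutions of `W` lies in `Γ`. -/
theorem le_Γ_of_four {R : Subgroup G} (hR : IsPGroup p R) {z1 z2 : G} (h1 : z1 ∈ D.W) (h11 : z1 ≠ 1)
    (h2 : z2 ∈ D.W) (h21 : z2 ≠ 1) (h12 : z1 ≠ z2) (hn1 : z1 ∈ normalizer (R : Set G))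
    (hn2 : z2 ∈ normalizer (R : Set G)) : R ≤ D.Γ := by
  have := D.hp_fact
  have : Fact (Nat.Prime 2) := ⟨Nat.prime_two⟩
  set E : Subgroup G := zpowers z1 ⊔ zpowers z2 with hE
  have hEW : E ≤ D.W := sup_le (zpowers_le.2 h1) (zpowers_le.2 h2)
  have hE1 : z1 ∈ E := mem_sup_left (mem_zpowers z1)
  have hel : Cfsg.IsElementaryAbelian 2 E :=
    ⟨⟨⟨fun a b => Subtype.ext (D.W_comm (hEW a.2) (hEW b.2))⟩⟩, fun x hx => D.W_elementary.2 x (hEW hx)⟩
  have hcard : 3 ≤ Nat.card E := by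
    classical
    have := Fintype.ofFinite E
    rw [Nat.card_eq_fintype_card]
    exact Fintype.two_lt_card_iff.2 ⟨1, ⟨z1, hE1⟩, ⟨z2, mem_sup_right (mem_zpowers z2)⟩,
      fun h => h11 (congrArg Subtype.val h).symm, fun h => h21 (congrArg Subtype.val h).symm,
      fun h => h12 (congrArg Subtype.val h)⟩
  have hE0 : E ≠ ⊥ := fun e => h11 (mem_bot.1 (e ▸ hE1))
  have hcop : (Nat.card E).Coprime (Nat.card R) := by
    obtain ⟨i, hi⟩ := IsPGroup.iff_card.1 (D.W_two.to_le hEW)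
    obtain ⟨j, hj⟩ := IsPGroup.iff_card.1 hR
    rw [hi, hj]
    exact Nat.Coprime.pow i j ((Nat.coprime_primes Nat.prime_two D.hp).2 (Ne.symm D.hp2))
  refine (CfsgLib.Coprime39.le_hyperCent_of_isPGroup hel hE0 hR hcop
    (sup_le (zpowers_le.2 hn1) (zpowers_le.2 hn2))).trans (iSup_le fun B => ?_)
  obtain ⟨w, hw, hw1⟩ : ∃ w ∈ (B : Subgroup G), w ≠ 1 := by
    by_contra hB
    push Not at hB
    have h := B.2.2
    rw [(Subgroup.eq_bot_iff_forall _).2 hB, Subgroup.relIndex_bot_left] at h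
    omega
  exact fun x hx => D.mem_Γ_of_commute (hEW (B.2.1 hw)) hw1 (mem_centralizer_iff.1 hx.2 w hw).symm

/-- `[L, α]` is generated by its normal `p`-subgroup and the moved part of an invariant `2`-subgroup over
a given one. -/
theorem exists_two_part {L : Subgroup G} (hL : Inv D.α L) (hne : L ≠ ⊤) {U : Subgroup G} (hU : IsPGroup 2 U)
    (hUi : Inv D.α U) (hUL : U ≤ moved D.α L) :
    ∃ S : Subgroup G, IsPGroup 2 S ∧ Inv D.α S ∧ U ≤ S ∧ moved D.α L ≤ D.R L ⊔ moved D.α S := by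
  have := D.hp_fact
  have : Fact (Nat.Prime 2) := ⟨Nat.prime_two⟩
  obtain ⟨hRM, hRp, hRi, hn, -, hsq⟩ := D.R_spec hL hne
  set Mv := moved D.α L with hMv
  have hMn : Mv ≤ normalizer (D.R L : Set G) := (moved_le hL).trans hn
  have hMi : Inv D.α Mv := inv_moved hL
  have hrY : ¬ r ∣ Nat.card Mv := fun h => D.hrG (h.trans Mv.card_subgroup_dvd_card)
  obtain ⟨S1, hUS1, hS1i⟩ := exists_invariant_sylow_ge (p := 2) D.hr (resAut_pow_eq_one hMi D.hαr) hrY
    (U.subgroupOf Mv) hU.comap_subtype (inv_of_forall fun x hx => hUi.apply_mem hx)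
  set S : Subgroup G := (S1 : Subgroup Mv).map Mv.subtype with hS
  have hSM : S ≤ Mv := Subgroup.map_subtype_le _
  have hS2 : IsPGroup 2 S := S1.2.map _
  have hSi : Inv D.α S := inv_of_forall (by
    rintro _ ⟨x, hx, rfl⟩
    exact ⟨resAut hMi x, Inv.apply_mem hS1i hx, rfl⟩)
  refine ⟨S, hS2, hSi, fun x hx => ⟨⟨x, hUL hx⟩, hUS1 (mem_subgroupOf.2 hx), rfl⟩, ?_⟩
  have hMeq : Mv ≤ D.R L ⊔ S := by
    intro x hx
    have hn' : ((D.R L).subgroupOf Mv).Normal := normal_subgroupOf_of_le_normalizer hMn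
    have h2 : IsPGroup 2 (Mv ⧸ (D.R L).subgroupOf Mv) := fun y => by
      obtain ⟨⟨x, hx⟩, rfl⟩ := QuotientGroup.mk_surjective y
      obtain ⟨j, hj⟩ := hsq x hx
      exact ⟨j, by rw [← QuotientGroup.mk_pow, QuotientGroup.eq_one_iff]; exact hj⟩
    set V : Subgroup Mv := (D.R L).subgroupOf Mv ⊔ (S1 : Subgroup Mv) with hV
    have hVtop : V = ⊤ := by
      obtain ⟨i, hi⟩ := IsPGroup.iff_card.1 h2
      obtain ⟨i', -, hi'⟩ := (Nat.dvd_prime_pow Nat.prime_two).1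
        ((Subgroup.index_dvd_of_le (le_sup_left : _ ≤ V)).trans (dvd_of_eq hi))
      rcases i' with _ | i'
      · exact Subgroup.index_eq_one.1 (by simpa using hi')
      · exact absurd ((dvd_pow_self 2 i'.succ_ne_zero).trans
          (hi' ▸ Subgroup.index_dvd_of_le (le_sup_right : _ ≤ V))) S1.not_dvd_index
    have h := (Subgroup.map_mono hVtop.ge : (⊤ : Subgroup Mv).map Mv.subtype ≤ V.map Mv.subtype)
      ⟨⟨x, hx⟩, mem_top _, rfl⟩
    rw [hV, Subgroup.map_sup] at h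
    rw [Subgroup.subgroupOf_map_subtype] at h
    exact (sup_le (inf_le_left.trans le_sup_left) le_sup_right : D.R L ⊓ Mv ⊔ S ≤ D.R L ⊔ S) h
  rw [hMv, ← moved_moved D.hr D.hαr D.hrG hL]
  refine (closure_le _).2 ?_
  rintro _ ⟨x, hx, rfl⟩
  have hx' : x ∈ ((D.R L ⊔ S : Subgroup G) : Set G) := hMeq hx
  rw [Subgroup.coe_mul_of_right_le_normalizer_left (D.R L) S (hSM.trans hMn)] at hx'
  obtain ⟨y, hy, s, hs, rfl⟩ := hx'
  have e : (y * s)⁻¹ * D.α (y * s) = s⁻¹ * (y⁻¹ * D.α y) * s * (s⁻¹ * D.α s) := by rw [map_mul]; group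
  show (y * s)⁻¹ * D.α (y * s) ∈ D.R L ⊔ moved D.α S
  rw [e]
  refine mul_mem (mem_sup_left ?_) (mem_sup_right (mem_moved hs))
  simpa using (mem_normalizer_iff.1 (hMn (inv_mem (hSM hs))) _).1
    ((D.R L).mul_mem ((D.R L).inv_mem hy) (hRi.apply_mem hy))

end GBar

end CfsgLib.FlavellHHS
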