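import Cfsg.Agent.Lib.FlavellHHS.Main
import Cfsg.Agent.Lib.PGroup.Frattini
import Cfsg.Prelude.Def_Transfer

/-!
Shult's theorem for an irreducible representation of `X = G R` in which the complement `R` of prime order has
no fixed vector.
-/

set_option autoImplicit false
set_option linter.unusedSectionVars false

namespace CfsgLib.FlavellHHS

open Subgroup CfsgLib.CoprimeCentral CfsgLib.FlavellFpf
open scoped commutatorElement

universe u

/-- A moved two-group with a faithful fixed point free representation is non-abelian special. -/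
theorem special_of_trep {T : Type*} [Group T] [Finite T] {k : Type*} [Field k] [IsAlgClosed k] {V : Type*}
    [AddCommGroup V] [Module k V] [FiniteDimensional k V] {r : ℕ} (A : TRep T k V r) :
    (∃ m : ℕ, r = 2 ^ m + 1) ∧ ¬ IsMulCommutative T ∧ Cfsg.IsSpecial 2 T := by
  have : Fact (Nat.Prime 2) := ⟨Nat.prime_two⟩
  obtain ⟨n, -, hn⟩ := A.exists_n
  refine ⟨⟨n, hn⟩, fun hc => ?_, A.h2, ?_, A.center_eq_commutator.symm⟩
  · have hfix : fixedSub A.β = ⊤ := top_unique fun x _ =>
      A.center_fixed (mem_center_iff.2 fun y => hc.is_comm.comm y x)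
    have h : moved A.β (⊤ : Subgroup T) = ⊥ := moved_eq_bot_iff.2 hfix.ge
    have := A.hne
    exact bot_ne_top (h.symm.trans A.htop)
  · refine le_antisymm (CfsgLib.PGroup.frattini_le_of (p := 2) _ A.center_eq_commutator.ge fun x => ?_) ?_
    · rw [pow_two]; exact A.sq_mem_center x
    · exact A.center_eq_commutator.le.trans (CfsgLib.PGroup.commutator_le_frattini A.h2)

/-- A two-group isomorphic to a special group with central squares is special. -/
theorem isSpecial_of_equiv {T S : Type*} [Group T] [Group S] [Finite T] (e : T ≃* S) (h : Cfsg.IsSpecial 2 T)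
    (hsq : ∀ x : T, x * x ∈ center T) : Cfsg.IsSpecial 2 S := by
  have : Fact (Nat.Prime 2) := ⟨Nat.prime_two⟩
  have : Finite S := Finite.of_equiv T e.toEquiv
  obtain ⟨hp, -, hc⟩ := h
  have hcen : (center T).map e.toMonoidHom = center S := by
    ext z
    constructor
    · rintro ⟨w, hw, rfl⟩
      refine mem_center_iff.2 fun y => e.symm.injective ?_
      simp [mem_center_iff.1 hw (e.symm y)]
    · intro hz
      refine ⟨e.symm z, mem_center_iff.2 fun y => e.injective ?_, e.apply_symm_apply z⟩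
      simp [mem_center_iff.1 hz (e y)]
  have hcom : commutator S = center S := by
    rw [← hcen, ← hc, _root_.commutator_def, _root_.commutator_def, Subgroup.map_commutator,
      Subgroup.map_top_of_surjective _ e.surjective]
  have hS : IsPGroup 2 S := hp.of_equiv e
  refine ⟨hS, le_antisymm (CfsgLib.PGroup.frattini_le_of (p := 2) _ hcom.le fun x => ?_)
    (hcom.ge.trans (CfsgLib.PGroup.commutator_le_frattini hS)), hcom⟩
  rw [← hcen]
  exact ⟨e.symm x * e.symm x, hsq _, by simp [pow_two]⟩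

/-- A normal `p`-subgroup acts trivially on an irreducible module in characteristic `p`. -/
theorem eq_bot_of_normal_pGroup {X : Type*} [Group X] [Finite X] {k : Type*} [Field k] {p : ℕ} [Fact p.Prime]
    [CharP k p] {V : Type*} [AddCommGroup V] [Module k V] [Nontrivial V] (ρ : X →* Module.End k V)
    (hfaith : Function.Injective ρ) (hirr : ∀ W : Submodule k V, (∀ x : X, W.map (ρ x) ≤ W) → W = ⊥ ∨ W = ⊤)
    (N : Subgroup X) [hN : N.Normal] (hp : IsPGroup p N) : N = ⊥ := by
  let U : Submodule k V :=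
    { carrier := {w | ∀ n ∈ N, ρ n w = w}
      add_mem' := fun ha hb n hn => by rw [map_add, ha n hn, hb n hn]
      zero_mem' := fun n _ => map_zero _
      smul_mem' := fun c w hw n hn => by rw [map_smul, hw n hn] }
  obtain ⟨w, hw0, hw⟩ := exists_fixed_vector hp (CharP.cast_eq_zero k p) (ρ.comp N.subtype)
  rcases hirr U (fun h => Submodule.map_le_iff_le_comap.2 fun u hu n hn => by
    have e : n * h = h * (h⁻¹ * n * h) := by group
    rw [← Module.End.mul_apply, ← map_mul, e, map_mul, Module.End.mul_apply,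
      hu _ (by simpa using hN.conj_mem n hn h⁻¹)]) with e | e
  · exact absurd ((Submodule.eq_bot_iff U).1 e w fun n hn => hw ⟨n, hn⟩) hw0
  · refine (Subgroup.eq_bot_iff_forall _).2 fun n hn => hfaith (LinearMap.ext fun v => ?_)
    rw [map_one, Module.End.one_apply]
    exact (e.symm ▸ Submodule.mem_top : v ∈ U) n hn

/-- Shult's theorem. -/
theorem shult {X : Type u} [Group X] [Finite X] (G R : Subgroup X) [G.Normal] (hX : G ⊔ R = ⊤) (r : ℕ)
    (hr : r.Prime) (hR : Nat.card R = r) (hcop : ¬ r ∣ Nat.card G) {k : Type*} [Field k] {p : ℕ} [Fact p.Prime]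
    [CharP k p] {V : Type*} [AddCommGroup V] [Module k V] [FiniteDimensional k V] [Nontrivial V]
    (ρ : Representation k X V) (hfaith : Function.Injective ρ)
    (hirr : ∀ W : Submodule k V, (∀ x : X, W.map (ρ x) ≤ W) → W = ⊥ ∨ W = ⊤)
    (hfix : ∀ v : V, (∀ x ∈ R, ρ x v = v) → v = 0) :
    ⁅G, R⁆ = ⊥ ∨ ((∃ m : ℕ, r = 2 ^ m + 1) ∧ ¬ IsMulCommutative ↥⁅G, R⁆ ∧ Cfsg.IsSpecial 2 ↥⁅G, R⁆) := by
  classical
  have : Fact r.Prime := ⟨hr⟩
  obtain ⟨y, hy⟩ := exists_prime_orderOf_dvd_card' r (G := R) (hR ▸ dvd_rfl)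
  set x : X := (y : X) with hx
  have hxo : orderOf x = r := (Subgroup.orderOf_coe y).trans hy
  have hRz : R = zpowers x := (eq_of_le_of_card_ge (zpowers_le.2 y.2) (by rw [Nat.card_zpowers, hxo, hR])).symm
  set α : MulAut G := MulAut.conjNormal x with hα
  have hαv : ∀ (i : ℕ) (g : G), ((α ^ i) g : X) = x ^ i * g * (x ^ i)⁻¹ := fun i g => by
    rw [hα, ← map_pow, MulAut.conjNormal_apply]
  have hαr : α ^ r = 1 := MulEquiv.ext fun g => Subtype.ext (by
    rw [hαv, ← hxo, pow_orderOf_eq_one, one_mul, inv_one, mul_one]; rfl)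
  set a : Module.End k V := ρ x with ha
  have har : a ^ r = 1 := by rw [ha, ← map_pow, ← hxo, pow_orderOf_eq_one, map_one]
  have hafix : ∀ v, a v = v → v = 0 := fun v hv => hfix v fun z hz => by
    rw [hRz] at hz
    obtain ⟨i, rfl⟩ := mem_powers_iff_mem_zpowers.2 hz
    show ρ (x ^ i) v = v
    rw [map_pow]
    clear hz
    induction i with
    | zero => rw [pow_zero, Module.End.one_apply]
    | succ i ih => rw [pow_succ', Module.End.mul_apply, ih]; exact hv
  let σ : G →* Module.End k V := ρ.comp G.subtype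
  have hσ : Function.Injective σ := hfaith.comp G.subtype_injective
  have hc : ∀ g, σ (α g) * a = a * σ g := fun g => by
    show ρ ((α g : G) : X) * ρ x = ρ x * ρ (g : X)
    rw [← map_mul, ← map_mul, hα, MulAut.conjNormal_apply, inv_mul_cancel_right]
  have hP := hhs G p r k V σ α a hr hαr hcop har hc hafix hσ
  set Mv := moved α (⊤ : Subgroup G) with hMv
  -- `[G, R]` is the moved part
  have hMn : ∀ g : G, ∀ m ∈ Mv, g * m * g⁻¹ ∈ Mv := fun g m hm =>
    (mem_normalizer_iff.1 (le_normalizer_moved ⊤ (mem_top g)) m).1 hm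
  have hGR : ⁅G, R⁆ = Mv.map G.subtype := by
    refine le_antisymm ((Subgroup.commutator_le).2 fun g hg z hz => ?_) ?_
    · rw [hRz] at hz
      obtain ⟨i, rfl⟩ := mem_powers_iff_mem_zpowers.2 hz
      have key : ∀ (j : ℕ) (h : G), h * (α ^ j) h⁻¹ ∈ Mv := by
        intro j
        induction j with
        | zero => intro h; rw [pow_zero, MulAut.one_apply, mul_inv_cancel]; exact Mv.one_mem
        | succ j ih =>
          intro h
          have e : h * (α ^ (j + 1)) h⁻¹ = (h * (α ^ j) h⁻¹) * (((α ^ j) h⁻¹)⁻¹ * α ((α ^ j) h⁻¹)) := by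
            rw [pow_succ', MulAut.mul_apply]; group
          rw [e]
          exact mul_mem (ih h) (mem_moved (mem_top _))
      refine ⟨_, key i ⟨g, hg⟩, ?_⟩
      show ((⟨g, hg⟩ * (α ^ i) (⟨g, hg⟩ : G)⁻¹ : G) : X) = ⁅g, x ^ i⁆
      rw [Subgroup.coe_mul, hαv, commutatorElement_def]
      push_cast
      group
    · rw [hMv, moved, MonoidHom.map_closure, closure_le]
      rintro _ ⟨_, ⟨g, -, rfl⟩, rfl⟩
      have h := Subgroup.commutator_mem_commutator (inv_mem g.2) (hRz ▸ mem_zpowers x : x ∈ R)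
      show ((g⁻¹ * α g : G) : X) ∈ ⁅G, R⁆
      rw [commutatorElement_def] at h
      rw [Subgroup.coe_mul, hα, MulAut.conjNormal_apply]
      push_cast
      convert h using 1
      group
  have hXn : ∀ S : Subgroup G, Inv α S → (∀ g : G, ∀ m ∈ S, g * m * g⁻¹ ∈ S) → (S.map G.subtype).Normal := by
    intro S hSi hSg
    refine Subgroup.normalizer_eq_top_iff.1 (top_unique (hX ▸ sup_le ?_ ?_))
    · intro g hg
      refine mem_normalizer_of_conj_mem ?_
      rintro _ ⟨m, hm, rfl⟩
      exact ⟨_, hSg ⟨g, hg⟩ m hm, rfl⟩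
    · rw [hRz, zpowers_le]
      refine mem_normalizer_of_conj_mem ?_
      rintro _ ⟨m, hm, rfl⟩
      exact ⟨α m, hSi.apply_mem hm, MulAut.conjNormal_apply x m⟩
  -- the `p`-part is trivial
  rcases eq_or_ne p 2 with rfl | hp2
  · left
    rw [hGR]
    obtain ⟨R0, -, hR0, -, hsq⟩ := hP
    have h2 : IsPGroup 2 Mv := fun m => by
      obtain ⟨j, hj⟩ := hsq m m.2
      obtain ⟨i, hi⟩ := hR0 ⟨_, hj⟩
      refine ⟨j + i, Subtype.ext ?_⟩
      rw [SubmonoidClass.coe_pow, pow_add, pow_mul]
      exact congrArg Subtype.val hi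
    have := hXn Mv (inv_moved inv_top) hMn
    exact eq_bot_of_normal_pGroup ρ hfaith hirr _ (h2.map G.subtype)
  have h2 : IsPGroup 2 Mv := by
    obtain ⟨R0, hR0M, hR0, hR0n, hsq⟩ := hP
    have key := fun Q => le_of_pTwo (Q := Q) hp2 hsq
    have := hXn R0 (inv_of_forall fun m hm => key _ (hR0.map α.toMonoidHom) (by
        rintro _ ⟨m', hm', rfl⟩; exact (inv_moved inv_top).apply_mem (hR0M hm')) ⟨m, hm, rfl⟩)
      (fun g m hm => key _ (hR0.map (MulAut.conj g).toMonoidHom) (by
        rintro _ ⟨m', hm', rfl⟩; exact hMn g m' (hR0M hm')) ⟨m, hm, rfl⟩)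
    have h0 : R0 = ⊥ := (Subgroup.map_eq_bot_iff_of_injective _ G.subtype_injective).1
      (eq_bot_of_normal_pGroup ρ hfaith hirr _ (hR0.map G.subtype))
    intro m
    obtain ⟨j, hj⟩ := hsq m m.2
    rw [h0, mem_bot] at hj
    exact ⟨j, Subtype.ext hj⟩
  rcases eq_or_ne Mv ⊥ with h0 | h0
  · left; rw [hGR, h0, Subgroup.map_bot]
  right
  have hrp : r ≠ p := by
    rintro rfl
    exact not_subsingleton V (subsingleton_of_pow_char har hafix)
  obtain ⟨d, E, hEinj, hEfix⟩ := exists_extend (k := k) (W := V)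
  have hKp : CharP (AlgebraicClosure k) p :=
    charP_of_injective_algebraMap (algebraMap k (AlgebraicClosure k)).injective p
  have hMi : Inv α Mv := inv_moved inv_top
  let A : TRep Mv (AlgebraicClosure k) (Fin d → AlgebraicClosure k) r :=
    { β := resAut hMi
      hr := hr
      hβr := resAut_pow_eq_one hMi hαr
      hrT := fun h => hcop (h.trans Mv.card_subgroup_dvd_card)
      hrk := fun h => hrp
        ((Nat.prime_dvd_prime_iff_eq Fact.out hr).1 ((CharP.cast_eq_zero_iff _ p r).1 h)).symm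
      ℓ := 2
      hℓ := Nat.prime_two
      hℓk := fun h => hp2
        ((Nat.prime_dvd_prime_iff_eq Fact.out Nat.prime_two).1 ((CharP.cast_eq_zero_iff _ p 2).1 h))
      hℓT := h2
      σ := E.comp (σ.comp Mv.subtype)
      hinj := hEinj.comp (hσ.comp Mv.subtype_injective)
      a := E a
      har := by rw [← map_pow, har, map_one]
      hc := fun m => by
        show E (σ (α m)) * E a = E a * E (σ (m : G))
        rw [← map_mul, hc, map_mul]
      hfix := hEfix a hafix
      htop := moved_resAut_top hMi (moved_moved hr hαr hcop inv_top)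
      hne := (Subgroup.nontrivial_iff_ne_bot Mv).2 h0 }
  obtain ⟨h1, hnc, hsp⟩ := special_of_trep A
  have e : Mv ≃* ↥⁅G, R⁆ := (Mv.equivMapOfInjective G.subtype G.subtype_injective).trans
    (MulEquiv.subgroupCongr hGR.symm)
  refine ⟨h1, fun hc' => hnc ⟨⟨fun a b => e.injective ?_⟩⟩, ?_⟩
  · rw [map_mul, map_mul, hc'.is_comm.comm]
  · exact isSpecial_of_equiv e hsp fun m => A.sq_mem_center m

end CfsgLib.FlavellHHS
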