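import Cfsg.Agent.Lib.FlavellHHS.Bar
import Cfsg.Agent.Lib.Coprime.HyperplaneGeneration
import Cfsg.Agent.Lib.OddOrder41.Coprime
import Cfsg.Agent.Lib.PCore.Basic

/-!
The local structure over `T`: all proper invariant subgroups containing `T` lie in one subgroup
`Γ = K X` with a normal `p`-subgroup `K`.
-/

set_option autoImplicit false
set_option linter.unusedSectionVars false

namespace CfsgLib.FlavellHHS

open Subgroup CfsgLib.CoprimeCentral CfsgLib.FlavellFpf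
open scoped commutatorElement

universe u v w

/-- An element normalizing two subgroups normalizes their join. -/
theorem mem_normalizer_sup {G : Type*} [Group G] [Finite G] {A B : Subgroup G} {g : G}
    (hA : g ∈ normalizer (A : Set G)) (hB : g ∈ normalizer (B : Set G)) :
    g ∈ normalizer ((A ⊔ B : Subgroup G) : Set G) := by
  refine mem_normalizer_of_conj_mem fun b hb => ?_
  suffices A ⊔ B ≤ (A ⊔ B).comap (MulAut.conj g).toMonoidHom from this hb
  exact sup_le (fun a ha => mem_sup_left ((mem_normalizer_iff.1 hA a).1 ha))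
    (fun a ha => mem_sup_right ((mem_normalizer_iff.1 hB a).1 ha))

/-- A `2`-subgroup of `R S` is conjugate into `S` by an element of `R`. -/
theorem conj_into_of_sup {G : Type*} [Group G] [Finite G] {p : ℕ} [Fact p.Prime] (hp2 : p ≠ 2)
    {R S U : Subgroup G} (hR : IsPGroup p R) (hS : IsPGroup 2 S) (hn : S ≤ normalizer (R : Set G))
    (hU : IsPGroup 2 U) (hle : U ≤ R ⊔ S) : ∃ y ∈ R, ∀ u ∈ U, y * u * y⁻¹ ∈ S := by
  have : Fact (Nat.Prime 2) := ⟨Nat.prime_two⟩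
  set M := R ⊔ S
  have hset : ∀ g ∈ M, ∃ y ∈ R, ∃ s ∈ S, g = y * s := by
    intro g hg
    have hg' : g ∈ ((R ⊔ S : Subgroup G) : Set G) := hg
    rw [Subgroup.coe_mul_of_right_le_normalizer_left R S hn] at hg'
    obtain ⟨y, hy, s, hs, rfl⟩ := hg'
    exact ⟨y, hy, s, hs, rfl⟩
  obtain ⟨S1, hS1⟩ := (hS.comap_subtype (K := M)).exists_le_sylow
  obtain ⟨S2, hS2⟩ := (hU.comap_subtype (K := M)).exists_le_sylow
  have hS1S : ∀ g : M, g ∈ (S1 : Subgroup M) → (g : G) ∈ S := by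
    intro g hg
    obtain ⟨y, hy, s, hs, he⟩ := hset g g.2
    have hsM : (⟨s, mem_sup_right hs⟩ : M) ∈ (S1 : Subgroup M) := hS1 (mem_subgroupOf.2 hs)
    have hy1 : (⟨y, mem_sup_left hy⟩ : M) ∈ (S1 : Subgroup M) := by
      have h := (S1 : Subgroup M).mul_mem hg ((S1 : Subgroup M).inv_mem hsM)
      convert h using 1
      exact Subtype.ext (by show y = (g : G) * s⁻¹; rw [he, mul_inv_cancel_right])
    have hy' : y = 1 := mem_bot.1 (eq_bot_of_two_and_p hp2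
      (hR.to_le (inf_le_left : R ⊓ (S1 : Subgroup M).map M.subtype ≤ R))
      ((S1.2.map M.subtype).to_le inf_le_right) ▸ ⟨hy, _, hy1, rfl⟩)
    rw [he, hy', one_mul]; exact hs
  obtain ⟨g, hg⟩ := MulAction.exists_smul_eq M S1 S2
  obtain ⟨y, hy, s, hs, he⟩ := hset g g.2
  refine ⟨y⁻¹, R.inv_mem hy, fun u hu => ?_⟩
  have hu2 : (⟨u, hle hu⟩ : M) ∈ (S2 : Subgroup M) := hS2 (mem_subgroupOf.2 hu)
  rw [← hg, Sylow.coe_subgroup_smul] at hu2
  obtain ⟨w, hw, hwe⟩ := hu2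
  have hwe' : (g : G) * w * (g : G)⁻¹ = u := congrArg Subtype.val hwe
  have e : y⁻¹ * u * y⁻¹⁻¹ = s * w * s⁻¹ := by rw [← hwe', he]; group
  rw [e]
  exact S.mul_mem (S.mul_mem hs (hS1S w hw)) (S.inv_mem hs)

namespace Bar

variable {G : Type u} [Group G] [Finite G] {M : Type v} [AddCommGroup M] [Finite M] {Zc : Type w}
  [AddCommGroup Zc] [Finite Zc] {p r : ℕ} (D : Bar G M Zc p r)

theorem exists_R {L : Subgroup G} (hL : Inv D.α L) (hne : L ≠ ⊤) :
    ∃ R : Subgroup G, R ≤ moved D.α L ∧ IsPGroup p R ∧ Inv D.α R ∧ L ≤ normalizer (R : Set G) ∧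
      (∀ Q : Subgroup G, IsPGroup p Q → Q ≤ moved D.α L → Q ≤ R) ∧
      ∀ x ∈ moved D.α L, ∃ j : ℕ, x ^ 2 ^ j ∈ R := by
  have := D.hp_fact
  obtain ⟨R, hRM, hRp, hn, hsq⟩ := D.hIH L hL hne
  have key := fun Q => le_of_pTwo (Q := Q) D.hp2 hsq
  refine ⟨R, hRM, hRp, ?_, fun g hg => ?_, key, hsq⟩
  · refine inv_of_forall fun x hx => key _ (hRp.map D.α.toMonoidHom) ?_ ⟨x, hx, rfl⟩
    rintro _ ⟨y, hy, rfl⟩
    exact (inv_moved hL).apply_mem (hRM hy)
  · refine mem_normalizer_of_conj_mem fun x hx => key _ (hRp.map (MulAut.conj g).toMonoidHom) ?_ ⟨x, hx, rfl⟩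
    rintro _ ⟨y, hy, rfl⟩
    exact (mem_normalizer_iff.1 (le_normalizer_moved L hg) y).1 (hRM hy)

open Classical in
/-- The normal Sylow `p`-subgroup of `[L, α]`. -/
noncomputable def R (L : Subgroup G) : Subgroup G :=
  if h : Inv D.α L ∧ L ≠ ⊤ then (D.exists_R h.1 h.2).choose else ⊥

theorem R_spec {L : Subgroup G} (hL : Inv D.α L) (hne : L ≠ ⊤) :
    D.R L ≤ moved D.α L ∧ IsPGroup p (D.R L) ∧ Inv D.α (D.R L) ∧ L ≤ normalizer (D.R L : Set G) ∧
      (∀ Q : Subgroup G, IsPGroup p Q → Q ≤ moved D.α L → Q ≤ D.R L) ∧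
      ∀ x ∈ moved D.α L, ∃ j : ℕ, x ^ 2 ^ j ∈ D.R L := by
  rw [R, dif_pos ⟨hL, hne⟩]
  exact (D.exists_R hL hne).choose_spec

theorem R_le {L : Subgroup G} (hL : Inv D.α L) (hne : L ≠ ⊤) : D.R L ≤ L :=
  (D.R_spec hL hne).1.trans (moved_le hL)

theorem T_le_moved {L : Subgroup G} (hT : D.T ≤ L) : D.T ≤ moved D.α L :=
  D.moved_T.symm.le.trans (moved_mono hT)

/-- `[L, α] = R T`. -/
theorem moved_le_RT {L : Subgroup G} (hL : Inv D.α L) (hne : L ≠ ⊤) (hT : D.T ≤ L) :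
    moved D.α L ≤ D.R L ⊔ D.T := by
  have := D.hp_fact
  have : Fact (Nat.Prime 2) := ⟨Nat.prime_two⟩
  obtain ⟨hRM, hRp, hRi, hn, -, hsq⟩ := D.R_spec hL hne
  set Mv := moved D.α L with hMv
  have hMn : Mv ≤ normalizer (D.R L : Set G) := (moved_le hL).trans hn
  obtain ⟨S, hSM, hS2, hSidx, hSi⟩ :=
    exists_invariant_sylowOf (p := 2) D.hr D.hαr D.hrG Mv (inv_moved hL)
  have hMeq : Mv ≤ D.R L ⊔ S := by
    have : ((D.R L).subgroupOf Mv).Normal := normal_subgroupOf_of_le_normalizer hMn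
    have h2 : IsPGroup 2 (Mv ⧸ (D.R L).subgroupOf Mv) := fun y => by
      obtain ⟨⟨x, hx⟩, rfl⟩ := QuotientGroup.mk_surjective y
      obtain ⟨j, hj⟩ := hsq x hx
      exact ⟨j, by rw [← QuotientGroup.mk_pow, QuotientGroup.eq_one_iff]; exact hj⟩
    obtain ⟨i, hi⟩ := IsPGroup.iff_card.1 h2
    obtain ⟨i', -, hi'⟩ := (Nat.dvd_prime_pow Nat.prime_two).1
      ((Subgroup.relIndex_dvd_of_le_left Mv (le_sup_left : D.R L ≤ D.R L ⊔ S)).trans
        (dvd_of_eq (show (D.R L).relIndex Mv = 2 ^ i from hi)))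
    rcases i' with _ | i'
    · exact Subgroup.relIndex_eq_one.1 (by simpa using hi')
    · exact absurd ((dvd_pow_self 2 i'.succ_ne_zero).trans
        (hi' ▸ Subgroup.relIndex_dvd_of_le_left Mv (le_sup_right : S ≤ D.R L ⊔ S))) hSidx
  have hMS : Mv ≤ D.R L ⊔ moved D.α S := by
    rw [hMv, ← moved_moved D.hr D.hαr D.hrG hL]
    refine (closure_le _).2 ?_
    rintro _ ⟨x, hx, rfl⟩
    have hx' : x ∈ ((D.R L ⊔ S : Subgroup G) : Set G) := hMeq hx
    rw [Subgroup.coe_mul_of_right_le_normalizer_left (D.R L) S (hSM.trans hMn)] at hx'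
    obtain ⟨y, hy, s, hs, rfl⟩ := hx'
    have e : (y * s)⁻¹ * D.α (y * s) = s⁻¹ * (y⁻¹ * D.α y) * s * (s⁻¹ * D.α s) := by rw [map_mul]; group
    show (y * s)⁻¹ * D.α (y * s) ∈ D.R L ⊔ moved D.α S
    rw [e]
    refine mul_mem (mem_sup_left ?_) (mem_sup_right (mem_moved hs))
    simpa using (mem_normalizer_iff.1 (hMn (inv_mem (hSM hs))) _).1
      ((D.R L).mul_mem ((D.R L).inv_mem hy) (hRi.apply_mem hy))
  have hSn : moved D.α S ≤ normalizer (D.R L : Set G) := ((moved_le hSi).trans hSM).trans hMn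
  obtain ⟨y, hy, hyT⟩ := conj_into_of_sup D.hp2 hRp (hS2.to_le (moved_le hSi)) hSn D.T_two
    ((D.T_le_moved hT).trans hMS)
  obtain ⟨d, -, hd⟩ := D.moved_le_conj hS2 hSi
  have he : D.T.map (MulAut.conj y).toMonoidHom = moved D.α S := by
    refine eq_of_le_of_card_ge ?_ ?_
    · rintro _ ⟨t, ht, rfl⟩; exact hyT t ht
    · rw [Subgroup.card_map_of_injective (MulAut.conj y).injective]
      exact (Subgroup.card_le_of_le hd).trans (Subgroup.card_map_of_injective (MulAut.conj d).injective).le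
  refine hMS.trans (sup_le le_sup_left ?_)
  rw [← he]
  rintro _ ⟨t, ht, rfl⟩
  exact mul_mem (mul_mem (mem_sup_left hy) (mem_sup_right ht)) (inv_mem (mem_sup_left hy))

/-- `L = R (L ∩ N(T))`. -/
theorem exists_eq_R_mul {L : Subgroup G} (hL : Inv D.α L) (hne : L ≠ ⊤) (hT : D.T ≤ L) {g : G} (hg : g ∈ L) :
    ∃ y ∈ D.R L, ∃ n ∈ L, n ∈ D.NT ∧ g = y * n := by
  have := D.hp_fact
  obtain ⟨hRM, hRp, -, hn, -, -⟩ := D.R_spec hL hne
  obtain ⟨y, hy, hyT⟩ := conj_into_of_sup D.hp2 hRp D.T_two (hT.trans hn)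
    (D.T_two.map (MulAut.conj g).toMonoidHom) (by
      rintro _ ⟨t, ht, rfl⟩
      exact D.moved_le_RT hL hne hT ((mem_normalizer_iff.1 (le_normalizer_moved L hg) t).1 (D.T_le_moved hT ht)))
  refine ⟨y⁻¹, (D.R L).inv_mem hy, y * g, L.mul_mem (D.R_le hL hne hy) hg,
    mem_normalizer_of_conj_mem fun t ht => ?_, by group⟩
  have h := hyT _ ⟨t, ht, rfl⟩
  rwa [show y * g * t * (y * g)⁻¹ = y * (g * t * g⁻¹) * y⁻¹ by group]

/-- The normal Sylow `p`-subgroup of `[N(T), α]`. -/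
noncomputable def A : Subgroup G := D.R D.NT

theorem A_le : D.A ≤ D.NT := D.R_le D.NT_inv D.NT_ne_top

/-- A `p`-subgroup normalized by `T` meets `N(T)` in `C(T)`. -/
theorem cent_of_mem_NT {K : Subgroup G} (hK : IsPGroup p K) (hT : D.T ≤ normalizer (K : Set G)) {x : G}
    (hx : x ∈ K) (hxN : x ∈ D.NT) : x ∈ centralizer (D.T : Set G) := by
  have := D.hp_fact
  have : Fact (Nat.Prime 2) := ⟨Nat.prime_two⟩
  refine mem_centralizer_iff.2 fun t ht => ?_
  have h1 : t * x * t⁻¹ * x⁻¹ ∈ K ⊓ D.T := by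
    refine ⟨K.mul_mem ((mem_normalizer_iff.1 (hT ht) x).1 hx) (K.inv_mem hx), ?_⟩
    show t * x * t⁻¹ * x⁻¹ ∈ D.T
    rw [show t * x * t⁻¹ * x⁻¹ = t * (x * t⁻¹ * x⁻¹) by group]
    exact D.T.mul_mem ht ((mem_normalizer_iff.1 hxN _).1 (D.T.inv_mem ht))
  rw [eq_bot_of_two_and_p D.hp2 (hK.to_le inf_le_left) (D.T_two.to_le inf_le_right), mem_bot,
    mul_inv_eq_one, mul_inv_eq_iff_eq_mul] at h1
  exact h1

theorem A_cent : D.A ≤ centralizer (D.T : Set G) := fun _ hx =>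
  D.cent_of_mem_NT (D.R_spec D.NT_inv D.NT_ne_top).2.1
    (D.T_le_NT.trans (D.R_spec D.NT_inv D.NT_ne_top).2.2.2.1) hx (D.A_le hx)

/-- `N(T) = A X`. -/
theorem exists_eq_A_mul {g : G} (hg : g ∈ D.NT) : ∃ a ∈ D.A, ∃ x ∈ D.X, g = a * x := by
  obtain ⟨m, hm, c, ⟨hcN, hc⟩, rfl⟩ := exists_eq_moved_mul_fixed D.hr D.hαr D.hrG D.NT_inv hg
  have hm' : m ∈ ((D.A ⊔ D.T : Subgroup G) : Set G) := D.moved_le_RT D.NT_inv D.NT_ne_top D.T_le_NT hm
  rw [Subgroup.coe_mul_of_right_le_normalizer_left D.A D.T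
    (D.T_le_NT.trans (D.R_spec D.NT_inv D.NT_ne_top).2.2.2.1)] at hm'
  obtain ⟨a, ha, t, ht, rfl⟩ := hm'
  exact ⟨a, ha, t * c, D.X.mul_mem (D.T_le_X ht) (D.mem_X_of_fixed_NT hcN hc), by simp only [mul_assoc]⟩

/-- `K = Y C_K(T)` if `[K, T] ≤ Y`. -/
theorem exists_cent_decomp {K Y : Subgroup G} (hK : IsPGroup p K) (hYK : Y ≤ K)
    (hTK : D.T ≤ normalizer (K : Set G)) (hTY : D.T ≤ normalizer (Y : Set G))
    (hY : ∀ c ∈ K, ∀ t ∈ D.T, c * t * c⁻¹ * t⁻¹ ∈ Y) {c : G} (hc : c ∈ K) :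
    ∃ y ∈ Y, ∃ n ∈ K, n ∈ centralizer (D.T : Set G) ∧ c = y * n := by
  have := D.hp_fact
  obtain ⟨y, hy, hyT⟩ := conj_into_of_sup D.hp2 (hK.to_le hYK) D.T_two hTY
    (D.T_two.map (MulAut.conj c).toMonoidHom) (by
      rintro _ ⟨t, ht, rfl⟩
      show c * t * c⁻¹ ∈ Y ⊔ D.T
      rw [show c * t * c⁻¹ = c * t * c⁻¹ * t⁻¹ * t by group]
      exact mul_mem (mem_sup_left (hY c hc t ht)) (mem_sup_right ht))
  have hyc : y * c ∈ K := K.mul_mem (hYK hy) hc
  refine ⟨y⁻¹, Y.inv_mem hy, y * c, hyc,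
    D.cent_of_mem_NT hK hTK hyc (mem_normalizer_of_conj_mem fun t ht => ?_), by group⟩
  have h := hyT _ ⟨t, ht, rfl⟩
  rwa [show y * c * t * (y * c)⁻¹ = y * (c * t * c⁻¹) * y⁻¹ by group]

/-- `O_p(C(T))`. -/
noncomputable def D0 : Subgroup G :=
  (Cfsg.pCore p (centralizer (D.T : Set G))).map (centralizer (D.T : Set G)).subtype

theorem D0_le : D.D0 ≤ centralizer (D.T : Set G) := Subgroup.map_subtype_le _

theorem D0_p : IsPGroup p D.D0 := by
  have := D.hp_fact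
  exact CfsgLib.PCore.pCore_isPGroup.map _

theorem D0_inv : Inv D.α D.D0 := D.T_inv.centralizer.of_characteristic _

theorem cent_T_le_NT : centralizer (D.T : Set G) ≤ D.NT := Subgroup.centralizer_le_normalizer _

theorem le_D0 {Q : Subgroup G} (hQ : IsPGroup p Q) (hQC : Q ≤ centralizer (D.T : Set G))
    (hn : centralizer (D.T : Set G) ≤ normalizer (Q : Set G)) : Q ≤ D.D0 := by
  have := D.hp_fact
  intro x hx
  refine ⟨⟨x, hQC hx⟩, CfsgLib.PCore.le_pCore (N := Q.subgroupOf (centralizer (D.T : Set G)))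
    (normal_subgroupOf_of_le_normalizer hn) (hQ.comap_of_injective _ (Subgroup.subtype_injective _)) hx, rfl⟩

theorem NT_normalizes_D0 : D.NT ≤ normalizer (D.D0 : Set G) := by
  have := D.hp_fact
  intro g hg
  have hgC : ∀ z ∈ centralizer (D.T : Set G), g * z * g⁻¹ ∈ centralizer (D.T : Set G) := by
    intro z hz
    refine mem_centralizer_iff.2 fun t ht => ?_
    have h1 := mem_centralizer_iff.1 hz (g⁻¹ * t * g) ((mem_normalizer_iff''.1 hg t).1 ht)
    calc t * (g * z * g⁻¹) = g * (g⁻¹ * t * g * z) * g⁻¹ := by group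
      _ = g * (z * (g⁻¹ * t * g)) * g⁻¹ := by rw [h1]
      _ = _ := by group
  have hgn : g ∈ normalizer (centralizer (D.T : Set G) : Set G) := mem_normalizer_of_conj_mem hgC
  refine mem_normalizer_of_conj_mem fun x hx =>
    D.le_D0 (D.D0_p.map (MulAut.conj g).toMonoidHom) ?_ ?_ ⟨x, hx, rfl⟩
  · rintro _ ⟨z, hz, rfl⟩; exact hgC z (D.D0_le hz)
  · intro c hc
    refine mem_normalizer_of_conj_mem ?_
    rintro _ ⟨z, hz, rfl⟩
    obtain ⟨z0, hz0, rfl⟩ := hz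
    have hc' : g⁻¹ * c * g ∈ centralizer (D.T : Set G) := (mem_normalizer_iff''.1 hgn c).1 hc
    exact ⟨_, ⟨⟨_, hc'⟩ * z0 * ⟨_, hc'⟩⁻¹,
      (inferInstance : (Cfsg.pCore p (centralizer (D.T : Set G))).Normal).conj_mem z0 hz0 _, rfl⟩, by
        simp [MulAut.conj_apply]; group⟩

/-- The `p`-subgroups normalized by `T` and `C(T)`. -/
structure Mem (K : Subgroup G) : Prop where
  pgroup : IsPGroup p K
  inv : Inv D.α K
  hT : D.T ≤ normalizer (K : Set G)
  hC : centralizer (D.T : Set G) ≤ normalizer (K : Set G)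

theorem D0_mem : D.Mem D.D0 :=
  ⟨D.D0_p, D.D0_inv, D.T_le_NT.trans D.NT_normalizes_D0, D.cent_T_le_NT.trans D.NT_normalizes_D0⟩

theorem Mem.sup_D0 {K : Subgroup G} (h : D.Mem K) : D.Mem (K ⊔ D.D0) :=
  ⟨h.pgroup.to_sup_of_normal_left' D.D0_p (D.D0_le.trans h.hC), h.inv.sup D.D0_inv,
    fun _ hg => mem_normalizer_sup (h.hT hg) (D.D0_mem.hT hg),
    fun _ hg => mem_normalizer_sup (h.hC hg) (D.D0_mem.hC hg)⟩

/-- The largest member inside `L`. -/
noncomputable def RD (L : Subgroup G) : Subgroup G := D.R L ⊔ D.D0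

theorem le_normalizer_RD {L : Subgroup G} (hL : Inv D.α L) (hne : L ≠ ⊤) (hT : D.T ≤ L) :
    L ≤ normalizer (D.RD L : Set G) := by
  intro g hg
  obtain ⟨y, hy, n, hnL, hnN, rfl⟩ := D.exists_eq_R_mul hL hne hT hg
  exact mul_mem (Subgroup.le_normalizer (mem_sup_left hy))
    (mem_normalizer_sup ((D.R_spec hL hne).2.2.2.1 hnL) (D.NT_normalizes_D0 hnN))

theorem RD_mem {L : Subgroup G} (hL : Inv D.α L) (hne : L ≠ ⊤) (hT : D.T ≤ L)
    (hC : centralizer (D.T : Set G) ≤ L) : D.Mem (D.RD L) :=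
  ⟨(D.R_spec hL hne).2.1.to_sup_of_normal_left' D.D0_p ((D.D0_le.trans hC).trans (D.R_spec hL hne).2.2.2.1),
    (D.R_spec hL hne).2.2.1.sup D.D0_inv, hT.trans (D.le_normalizer_RD hL hne hT),
    hC.trans (D.le_normalizer_RD hL hne hT)⟩

theorem Mem.le_RD {K L : Subgroup G} (h : D.Mem K) (hL : Inv D.α L) (hne : L ≠ ⊤) (hT : D.T ≤ L)
    (hKL : K ≤ L) : K ≤ D.RD L := by
  intro c hc
  obtain ⟨hRM, -, -, hn, hRmax, -⟩ := D.R_spec hL hne
  obtain ⟨y, hy, n, hnK, hnC, rfl⟩ := D.exists_cent_decomp h.pgroup (Y := K ⊓ moved D.α L) inf_le_left h.hT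
    (fun t ht => mem_normalizer_of_conj_mem fun x hx => ⟨(mem_normalizer_iff.1 (h.hT ht) x).1 hx.1,
      (mem_normalizer_iff.1 (le_normalizer_moved L (hT ht)) x).1 hx.2⟩)
    (fun c hc t ht => ⟨by
      rw [show c * t * c⁻¹ * t⁻¹ = c * (t * c⁻¹ * t⁻¹) by group]
      exact K.mul_mem hc ((mem_normalizer_iff.1 (h.hT ht) _).1 (K.inv_mem hc)),
      (moved D.α L).mul_mem ((mem_normalizer_iff.1 (le_normalizer_moved L (hKL hc)) t).1 (D.T_le_moved hT ht))
        ((moved D.α L).inv_mem (D.T_le_moved hT ht))⟩) hc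
  refine mul_mem (mem_sup_left (hRmax _ (h.pgroup.to_le inf_le_left) inf_le_right hy)) (mem_sup_right ?_)
  refine D.le_D0 (Q := K ⊓ centralizer (D.T : Set G)) (h.pgroup.to_le inf_le_left) inf_le_right ?_ ⟨hnK, hnC⟩
  exact fun g hg => mem_normalizer_of_conj_mem fun x hx => ⟨(mem_normalizer_iff.1 (h.hC hg) x).1 hx.1,
    (centralizer (D.T : Set G)).mul_mem ((centralizer (D.T : Set G)).mul_mem hg hx.2)
      ((centralizer (D.T : Set G)).inv_mem hg)⟩

theorem W_elementary : Cfsg.IsElementaryAbelian 2 D.W :=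
  ⟨⟨⟨fun a b => Subtype.ext (D.W_comm a.2 b.2)⟩⟩, fun x hx => by
    rw [pow_two]; exact mul_eq_one_iff_eq_inv.2 (D.W_inv hx).symm⟩

theorem W_normalizes_cv {v : G} (hv : v ∈ D.W) :
    Inv D.α (centralizer ({v} : Set G)) ∧ D.T ≤ centralizer ({v} : Set G) ∧
      centralizer (D.T : Set G) ≤ centralizer ({v} : Set G) := by
  refine ⟨inv_of_forall fun x hx => ?_, fun t ht => mem_centralizer_singleton_iff.2 (D.W_central hv ht).symm,
    fun x hx => mem_centralizer_singleton_iff.2 (mem_centralizer_iff.1 hx v hv.1).symm⟩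
  rw [mem_centralizer_singleton_iff] at hx ⊢
  have h := congrArg D.α hx
  have hvf : D.α v = v := hv.2
  rwa [map_mul, map_mul, hvf] at h

include D in
theorem cv_ne_top {v : G} (hv1 : v ≠ 1) : centralizer ({v} : Set G) ≠ ⊤ := fun e => hv1 (mem_bot.1
  (D.center_eq_bot ▸ mem_center_iff.2 fun y => mem_centralizer_singleton_iff.1 (e.symm.le (mem_top y))))

/-- A `p`-group normalized by `W` is generated by the centralizers of elements of `W`. -/
theorem le_of_cent_le (h4 : 4 ≤ Nat.card D.W) {Q X0 : Subgroup G} (hQ : IsPGroup p Q)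
    (hWQ : D.W ≤ normalizer (Q : Set G))
    (h : ∀ w ∈ D.W, w ≠ 1 → Q ⊓ centralizer ({w} : Set G) ≤ X0) : Q ≤ X0 := by
  have := D.hp_fact
  have : Fact (Nat.Prime 2) := ⟨Nat.prime_two⟩
  have hW0 : D.W ≠ ⊥ := fun e => by rw [e, Subgroup.card_bot] at h4; omega
  have hcop : (Nat.card D.W).Coprime (Nat.card Q) := by
    obtain ⟨i, hi⟩ := IsPGroup.iff_card.1 (D.T_two.to_le D.W_le_T)
    obtain ⟨j, hj⟩ := IsPGroup.iff_card.1 hQ
    rw [hi, hj]
    exact Nat.Coprime.pow i j ((Nat.coprime_primes Nat.prime_two D.hp).2 (Ne.symm D.hp2))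
  refine (CfsgLib.Coprime39.le_hyperCent_of_isPGroup D.W_elementary hW0 hQ hcop hWQ).trans (iSup_le fun B => ?_)
  obtain ⟨w, hw, hw1⟩ : ∃ w ∈ (B : Subgroup G), w ≠ 1 := by
    by_contra hB
    push Not at hB
    have h2 := B.2.2
    rw [(Subgroup.eq_bot_iff_forall _).2 hB, Subgroup.relIndex_bot_left] at h2
    omega
  refine le_trans ?_ (h w (B.2.1 hw) hw1)
  exact inf_le_inf_left _ fun x hx =>
    mem_centralizer_singleton_iff.2 (mem_centralizer_iff.1 hx w hw).symm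

/-- The trivial case: if the fixed `p`-elements of `N(T)` centralize `W`, all `R` are trivial. -/
theorem R_eq_bot_of_centW
    (hW : ∀ c, c ∈ D.NT → D.α c = c → (∃ j, c ^ p ^ j = 1) → D.CentW c) {L : Subgroup G}
    (hL : Inv D.α L) (hne : L ≠ ⊤) (hT : D.T ≤ L) : D.R L = ⊥ := by
  have := D.hp_fact
  by_contra hR0
  -- a `p`-subgroup of `N(T)` centralizes `T`
  have hcent : ∀ U : Subgroup G, IsPGroup p U → Inv D.α U → U ≤ D.NT →
      U ≤ centralizer (D.T : Set G) := by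
    intro U hU hUi hUN
    refine (le_moved_sup_fixed D.hr D.hαr D.hrG hUi).trans (sup_le ?_ ?_)
    · exact ((D.R_spec D.NT_inv D.NT_ne_top).2.2.2.2.1 _ (hU.to_le (moved_le hUi)) (moved_mono hUN)).trans D.A_cent
    · rintro c ⟨hcU, hc⟩
      obtain ⟨j, hj⟩ := hU ⟨c, hcU⟩
      have hj' : c ^ p ^ j = 1 := congrArg Subtype.val hj
      refine mem_centralizer_iff.2 fun t ht => (mul_inv_eq_iff_eq_mul.1 ?_).symm
      exact D.cent_T_of_odd (D.mem_X_of_fixed_NT (hUN hcU) hc) hc (hW c (hUN hcU) hc ⟨j, hj'⟩)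
        ((D.hp.odd_of_ne_two D.hp2).pow) hj' t ht
  let S : Set (Subgroup G) :=
    {U | IsPGroup p U ∧ Inv D.α U ∧ D.T ≤ normalizer (U : Set G) ∧ ¬ U ≤ fixedSub D.α}
  obtain ⟨hRM, hRp, hRi, hn, -, -⟩ := D.R_spec hL hne
  have hRS : D.R L ∈ S := by
    refine ⟨hRp, hRi, hT.trans hn, fun hfix => hR0 ?_⟩
    have hTc : D.T ≤ centralizer (D.R L : Set G) :=
      D.moved_T.symm.le.trans (moved_le_centralizer hfix (hT.trans hn))
    refine le_bot_iff.1 ?_
    have hle : moved D.α L ≤ D.T := by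
      rw [← moved_moved D.hr D.hαr D.hrG hL]
      refine (closure_le _).2 ?_
      rintro _ ⟨x, hx, rfl⟩
      have hx' : x ∈ ((D.R L ⊔ D.T : Subgroup G) : Set G) := D.moved_le_RT hL hne hT hx
      rw [Subgroup.coe_mul_of_right_le_normalizer_left (D.R L) D.T (hT.trans hn)] at hx'
      obtain ⟨y, hy, t, ht, rfl⟩ := hx'
      have hyf : D.α y = y := hfix hy
      have e : (y * t)⁻¹ * D.α (y * t) = t⁻¹ * D.α t := by rw [map_mul, hyf]; group
      show (y * t)⁻¹ * D.α (y * t) ∈ D.T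
      rw [e]
      exact D.T.mul_mem (D.T.inv_mem ht) (D.T_inv.apply_mem ht)
    have : Fact (Nat.Prime 2) := ⟨Nat.prime_two⟩
    exact (eq_bot_of_two_and_p D.hp2 hRp (D.T_two.to_le (hRM.trans hle))).le
  obtain ⟨S0, -, hmax⟩ := (Set.toFinite S).exists_le_maximal hRS
  obtain ⟨hSp, hSi, hST, hSf⟩ := hmax.1
  have hS0 : S0 ≠ ⊥ := fun e => hSf (e ▸ bot_le)
  set L2 := normalizer (S0 : Set G) with hL2
  have hL2i : Inv D.α L2 := hSi.normalizer
  have hL2ne : L2 ≠ ⊤ := D.normalizer_ne_top hSp hSi hS0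
  obtain ⟨-, -, -, hn2, -, -⟩ := D.R_spec hL2i hL2ne
  -- an invariant Sylow subgroup of `N(S0)` properly contains `S0`
  obtain ⟨P1, hP1le, hP1p, hP1idx, hP1i⟩ := exists_invariant_sylowOf (p := p) D.hr D.hαr D.hrG L2 hL2i
  have hbig : ∀ Q : Subgroup G, IsPGroup p Q → Q ≤ L2 → L2 ≤ normalizer (Q : Set G) → Q ≤ P1 := by
    intro Q hQ hQL hQn
    have hj : IsPGroup p ↥(Q ⊔ P1) := hQ.to_sup_of_normal_left' hP1p (hP1le.trans hQn)
    obtain ⟨j, hj'⟩ := hj.index (P1.subgroupOf (Q ⊔ P1))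
    rcases Nat.eq_zero_or_pos j with rfl | hj0
    · rw [pow_zero] at hj'
      exact le_trans le_sup_left (Subgroup.relIndex_eq_one.1 hj')
    · refine absurd ?_ hP1idx
      refine dvd_trans ?_ (Dvd.intro _ (Subgroup.relIndex_mul_relIndex P1 (Q ⊔ P1) L2 le_sup_right
        (sup_le hQL hP1le)))
      rw [Subgroup.relIndex, hj']
      exact dvd_pow_self p hj0.ne'
  have hR2le : D.R L2 ≤ P1 := hbig _ (D.R_spec hL2i hL2ne).2.1 (D.R_le hL2i hL2ne) hn2
  have hS0P1 : S0 ≤ P1 := hbig _ hSp Subgroup.le_normalizer le_rfl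
  have hU := hcent (P1 ⊓ D.NT) (hP1p.to_le inf_le_left) (Inv.inf hP1i D.NT_inv) inf_le_right
  have hTP1 : D.T ≤ normalizer (P1 : Set G) := by
    intro t ht
    refine mem_normalizer_of_conj_mem fun x hx => ?_
    obtain ⟨y, hy, n, hnL, hnN, rfl⟩ := D.exists_eq_R_mul hL2i hL2ne hST (hP1le hx)
    have hnP : n ∈ P1 := by
      simpa using P1.mul_mem (P1.inv_mem (hR2le hy)) hx
    have hcn : t * n = n * t := mem_centralizer_iff.1 (hU ⟨hnP, hnN⟩) t ht
    rw [show t * (y * n) * t⁻¹ = (t * y * t⁻¹) * (t * n * t⁻¹) by group, hcn, mul_inv_cancel_right]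
    exact P1.mul_mem (hR2le ((mem_normalizer_iff.1 (hn2 (hST ht)) y).1 hy)) hnP
  obtain ⟨Pf, hPf⟩ := hSp.exists_le_sylow
  have hS0ne : ¬ (Pf : Subgroup G) ≤ S0 := fun he => by
    have e : (Pf : Subgroup G) = S0 := le_antisymm he hPf
    exact D.not_normalizes_sylow Pf (e ▸ hSi) (e ▸ hST)
  have hP1S : P1 ≤ S0 := hmax.2 ⟨hP1p, hP1i, hTP1, fun h => hSf (hS0P1.trans h)⟩ hS0P1
  obtain ⟨x, hxP, hxN, hxS⟩ : ∃ x ∈ (Pf : Subgroup G), x ∈ L2 ∧ x ∉ S0 := by
    have hnc : Group.IsNilpotent (Pf : Subgroup G) := Pf.2.isNilpotent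
    have hlt : S0.subgroupOf Pf < ⊤ := lt_top_iff_ne_top.2 fun e => hS0ne (Subgroup.subgroupOf_eq_top.1 e)
    obtain ⟨y, hy, hyK⟩ := SetLike.exists_of_lt (Group.normalizerCondition_of_isNilpotent _ hlt)
    exact ⟨y, y.2, mem_normalizer_of_conj_mem fun z hz => ((mem_normalizer_iff.1 hy) ⟨z, hPf hz⟩).1 hz, hyK⟩
  -- so `S0` would not be the Sylow subgroup of its normalizer
  have hj : IsPGroup p ↥(S0 ⊔ zpowers x) := (Pf.2).to_le (sup_le hPf (zpowers_le.2 hxP))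
  obtain ⟨j, hj'⟩ := hj.index (S0.subgroupOf (S0 ⊔ zpowers x))
  rcases Nat.eq_zero_or_pos j with rfl | hj0
  · rw [pow_zero] at hj'
    exact hxS ((Subgroup.relIndex_eq_one.1 hj') (mem_sup_right (mem_zpowers x)))
  · refine hP1idx ?_
    rw [le_antisymm hP1S hS0P1]
    refine dvd_trans ?_ (Dvd.intro _ (Subgroup.relIndex_mul_relIndex S0 (S0 ⊔ zpowers x) L2 le_sup_left
      (sup_le Subgroup.le_normalizer (zpowers_le.2 hxN))))
    rw [Subgroup.relIndex, hj']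
    exact dvd_pow_self p hj0.ne'

/-- If `W` is small, all `R` are trivial. -/
theorem R_eq_bot_of_small (hW : Nat.card D.W < 4) {L : Subgroup G}
    (hL : Inv D.α L) (hne : L ≠ ⊤) (hT : D.T ≤ L) : D.R L = ⊥ := by
  refine D.R_eq_bot_of_centW (fun c hcN hc _ z hz => ?_) hL hne hT
  have hcX := D.mem_X_of_fixed_NT hcN hc
  have : Fact (Nat.Prime 2) := ⟨Nat.prime_two⟩
  by_contra hne'
  have hz1 : z ≠ 1 := fun h => hne' (by rw [h]; group)
  classical
  have := Fintype.ofFinite D.W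
  obtain ⟨i, hi⟩ := IsPGroup.iff_card.1 (D.T_two.to_le D.W_le_T)
  have h3 : 3 ≤ Nat.card D.W := by
    rw [Nat.card_eq_fintype_card]
    refine Fintype.two_lt_card_iff.2 ⟨1, ⟨z, hz⟩, ⟨_, D.fixed_conj_mem_W hcX hc hz⟩,
      fun h => hz1 (congrArg Subtype.val h).symm, fun h => hz1 (conj_eq_one_iff.1 (congrArg Subtype.val h).symm),
      fun h => hne' (congrArg Subtype.val h).symm⟩
  rw [hi] at h3 hW
  rcases i with _ | _ | i
  · simp at h3
  · norm_num at h3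
  · rw [pow_succ, pow_succ] at hW
    have := Nat.one_le_two_pow (n := i)
    omega

/-- Two maximal members with non-trivial intersection are equal. -/
theorem eq_of_inf_ne_bot {K1 K2 : Subgroup G} (h1 : Maximal D.Mem K1) (h2 : Maximal D.Mem K2)
    (h0 : K1 ⊓ K2 ≠ ⊥) : K1 = K2 := by
  have := D.hp_fact
  by_contra hne
  let S : Set (Subgroup G) := {I | I ≠ ⊥ ∧ ∃ A B, A ≠ B ∧ Maximal D.Mem A ∧ Maximal D.Mem B ∧ A ⊓ B = I}
  obtain ⟨I, -, hmax⟩ := (Set.toFinite S).exists_le_maximal (a := K1 ⊓ K2) ⟨h0, K1, K2, hne, h1, h2, rfl⟩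
  obtain ⟨hI0, A, B, hAB, hA, hB, rfl⟩ := hmax.1
  set I := A ⊓ B with hI
  have hIi : Inv D.α I := hA.1.inv.inf hB.1.inv
  have hIp : IsPGroup p I := hA.1.pgroup.to_le inf_le_left
  set L := normalizer (I : Set G) with hLdef
  have hTL : D.T ≤ L := fun t ht => mem_normalizer_of_conj_mem fun x hx =>
    ⟨(mem_normalizer_iff.1 (hA.1.hT ht) x).1 hx.1, (mem_normalizer_iff.1 (hB.1.hT ht) x).1 hx.2⟩
  have hCL : centralizer (D.T : Set G) ≤ L := fun t ht => mem_normalizer_of_conj_mem fun x hx =>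
    ⟨(mem_normalizer_iff.1 (hA.1.hC ht) x).1 hx.1, (mem_normalizer_iff.1 (hB.1.hC ht) x).1 hx.2⟩
  have hLne : L ≠ ⊤ := D.normalizer_ne_top hIp hIi hI0
  obtain ⟨K3, hle3, hK3⟩ :=
    (Set.toFinite {K | D.Mem K}).exists_le_maximal (a := D.RD L) (D.RD_mem hIi.normalizer hLne hTL hCL)
  have key : ∀ A : Subgroup G, Maximal D.Mem A → I ≤ A → ¬ A ≤ I → K3 = A := by
    intro A hA hIA hlt
    by_contra hne'
    have hnc : Group.IsNilpotent A := hA.1.pgroup.isNilpotent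
    have hlt' : I.subgroupOf A < ⊤ := lt_top_iff_ne_top.2 fun e => hlt (Subgroup.subgroupOf_eq_top.1 e)
    obtain ⟨y, hy, hyI⟩ := SetLike.exists_of_lt (Group.normalizerCondition_of_isNilpotent _ hlt')
    have hyL : (y : G) ∈ L := mem_normalizer_of_conj_mem fun z hz =>
      ((mem_normalizer_iff.1 hy) ⟨z, hIA hz⟩).1 hz
    have hmem : D.Mem (A ⊓ L) :=
      ⟨hA.1.pgroup.to_le inf_le_left, hA.1.inv.inf hIi.normalizer,
        fun t ht => mem_normalizer_of_conj_mem fun x hx => ⟨(mem_normalizer_iff.1 (hA.1.hT ht) x).1 hx.1,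
          L.mul_mem (L.mul_mem (hTL ht) hx.2) (L.inv_mem (hTL ht))⟩,
        fun t ht => mem_normalizer_of_conj_mem fun x hx => ⟨(mem_normalizer_iff.1 (hA.1.hC ht) x).1 hx.1,
          L.mul_mem (L.mul_mem (hCL ht) hx.2) (L.inv_mem (hCL ht))⟩⟩
    have hsub : A ⊓ L ≤ K3 := (hmem.le_RD D hIi.normalizer hLne hTL inf_le_right).trans hle3
    have hI' : I ≤ K3 ⊓ A := le_inf ((le_inf hIA Subgroup.le_normalizer).trans hsub) hIA
    have := hmax.2 ⟨fun e => hI0 (le_bot_iff.1 (e ▸ hI')), K3, A, hne', hK3, hA, rfl⟩ hI'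
    exact hyI (this ⟨hsub ⟨y.2, hyL⟩, y.2⟩)
  have hAnle : ¬ A ≤ I := fun h => hAB (le_antisymm (h.trans inf_le_right) (hA.2 hB.1 (h.trans inf_le_right)))
  have hBnle : ¬ B ≤ I := fun h => hAB (le_antisymm (hB.2 hA.1 (h.trans inf_le_left)) (h.trans inf_le_left))
  exact hAB ((key A hA inf_le_left hAnle).symm.trans (key B hB inf_le_right hBnle))

theorem D0_le_max {K : Subgroup G} (h : Maximal D.Mem K) : D.D0 ≤ K :=
  le_sup_right.trans (h.2 (h.1.sup_D0 D) le_sup_left)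

theorem Mem.inf_cent {K : Subgroup G} (h : D.Mem K) {v : G} (hv : v ∈ D.W) :
    D.Mem (K ⊓ centralizer ({v} : Set G)) := by
  obtain ⟨hi, hT, hC⟩ := D.W_normalizes_cv hv
  set L := centralizer ({v} : Set G)
  exact ⟨h.pgroup.to_le inf_le_left, h.inv.inf hi,
    fun t ht => mem_normalizer_of_conj_mem fun x hx => ⟨(mem_normalizer_iff.1 (h.hT ht) x).1 hx.1,
      L.mul_mem (L.mul_mem (hT ht) hx.2) (L.inv_mem (hT ht))⟩,
    fun t ht => mem_normalizer_of_conj_mem fun x hx => ⟨(mem_normalizer_iff.1 (h.hC ht) x).1 hx.1,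
      L.mul_mem (L.mul_mem (hC ht) hx.2) (L.inv_mem (hC ht))⟩⟩

/-- A maximal member lying in the centralizer of `v` and met by no other centralizer is impossible. -/
theorem no_line (h4 : 4 ≤ Nat.card D.W) (hD0 : D.D0 = ⊥) {K : Subgroup G} (hK : Maximal D.Mem K) (hK0 : K ≠ ⊥)
    {v : G} (hv : v ∈ D.W) (hv1 : v ≠ 1) (hKv : K ≤ centralizer ({v} : Set G))
    (honly : ∀ u ∈ D.W, u ≠ 1 → u ≠ v → K ⊓ centralizer ({u} : Set G) = ⊥)
    (hcard : Nat.card D.W = 4) : False := by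
  have := D.hp_fact
  obtain ⟨hci, hcT, hcC⟩ := D.W_normalizes_cv hv
  have hcne := D.cv_ne_top hv1
  have hKR : K ≤ D.R (centralizer ({v} : Set G)) := by
    have h := hK.1.le_RD D hci hcne hcT hKv
    rwa [RD, hD0, sup_bot_eq] at h
  have hKeq : D.R (centralizer ({v} : Set G)) = K := by
    refine le_antisymm ?_ hKR
    have h := D.RD_mem hci hcne hcT hcC
    rw [RD, hD0, sup_bot_eq] at h
    exact hK.2 h hKR
  set L := normalizer (K : Set G) with hLdef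
  have hLi : Inv D.α L := hK.1.inv.normalizer
  have hLne : L ≠ ⊤ := D.normalizer_ne_top hK.1.pgroup hK.1.inv hK0
  have hcvL : centralizer ({v} : Set G) ≤ L := by rw [hLdef, ← hKeq]; exact (D.R_spec hci hcne).2.2.2.1
  have hRL : D.R L = K := by
    have h := D.RD_mem hLi hLne hK.1.hT hK.1.hC
    rw [RD, hD0, sup_bot_eq] at h
    refine le_antisymm (hK.2 h ?_) ?_
    all_goals
      exact hKeq.symm.le.trans ((D.R_spec hLi hLne).2.2.2.2.1 _ (D.R_spec hci hcne).2.1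
        ((D.R_spec hci hcne).1.trans (moved_mono hcvL)))
  have hcent : ∀ n ∈ K, n ∈ centralizer (D.T : Set G) → n = 1 := fun n hn hnC => by
    refine mem_bot.1 (hD0.le (D.le_D0 (Q := K ⊓ centralizer (D.T : Set G)) (hK.1.pgroup.to_le inf_le_left)
      inf_le_right (fun g hg => ?_) ⟨hn, hnC⟩))
    exact mem_normalizer_of_conj_mem fun x hx => ⟨(mem_normalizer_iff.1 (hK.1.hC hg) x).1 hx.1,
      (centralizer (D.T : Set G)).mul_mem ((centralizer (D.T : Set G)).mul_mem hg hx.2)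
        ((centralizer (D.T : Set G)).inv_mem hg)⟩
  have hA0 : D.A = ⊥ := le_bot_iff.1 (hD0 ▸ D.le_D0 (D.R_spec D.NT_inv D.NT_ne_top).2.1 D.A_cent
    (D.cent_T_le_NT.trans (D.R_spec D.NT_inv D.NT_ne_top).2.2.2.1))
  have hNX : D.NT ≤ D.X := fun g hg => by
    obtain ⟨a, ha, x, hx, rfl⟩ := D.exists_eq_A_mul hg
    rw [hA0, mem_bot] at ha
    rwa [ha, one_mul]
  -- `p`-elements of `N(T) ∩ N(K)` centralize `T`
  have helt : ∀ U : Subgroup G, IsPGroup p U → Inv D.α U → U ≤ D.NT → U ≤ L →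
      U ≤ centralizer (D.T : Set G) := by
    intro U hU hUi hUN hUL x hx
    have hUf : moved D.α U = ⊥ := le_bot_iff.1 (hA0 ▸
      (D.R_spec D.NT_inv D.NT_ne_top).2.2.2.2.1 _ (hU.to_le (moved_le hUi)) (moved_mono hUN))
    have hxf : D.α x = x := moved_eq_bot_iff.1 hUf hx
    have hxX := hNX (hUN hx)
    obtain ⟨j, hj⟩ := hU ⟨x, hx⟩
    have hj' : x ^ p ^ j = 1 := congrArg Subtype.val hj
    refine mem_centralizer_iff.2 fun t ht => (mul_inv_eq_iff_eq_mul.1 ?_).symm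
    refine D.cent_T_of_odd hxX hxf ?_ ((D.hp.odd_of_ne_two D.hp2).pow) hj' t ht
    -- `x` fixes `v`
    have hxv : x * v * x⁻¹ = v := by
      by_contra hne
      have hw := D.fixed_conj_mem_W hxX hxf hv
      have hw1 : x * v * x⁻¹ ≠ 1 := fun h => hv1 (conj_eq_one_iff.1 h)
      refine hK0 (le_bot_iff.1 (honly _ hw hw1 hne ▸ le_inf le_rfl fun k hk => ?_))
      rw [mem_centralizer_singleton_iff]
      have hk' : x⁻¹ * k * x ∈ K := (mem_normalizer_iff''.1 (hUL hx) k).1 hk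
      have h2 := mem_centralizer_singleton_iff.1 (hKv hk')
      calc k * (x * v * x⁻¹) = x * (x⁻¹ * k * x * v) * x⁻¹ := by group
        _ = x * (v * (x⁻¹ * k * x)) * x⁻¹ := by rw [h2]
        _ = _ := by group
    intro z hz
    by_contra hzne
    classical
    have := Fintype.ofFinite D.W
    have hconj : ∀ z ∈ D.W, x * z * x⁻¹ ∈ D.W := fun z hz => D.fixed_conj_mem_W hxX hxf hz
    -- `W = {1, v, z, x z x⁻¹}`
    have hz1 : z ≠ 1 := fun h => hzne (by rw [h]; group)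
    have hzv : z ≠ v := fun h => hzne (h ▸ hxv)
    set z' := x * z * x⁻¹ with hz'
    have hall : ∀ y ∈ D.W, y = 1 ∨ y = v ∨ y = z ∨ y = z' := by
      intro y hy
      by_contra hcon
      push Not at hcon
      have h5 : 5 ≤ Nat.card D.W := by
        rw [Nat.card_eq_fintype_card]
        refine le_trans (le_of_eq (?_ : 5 = ({1, ⟨v, hv⟩, ⟨z, hz⟩, ⟨z', hconj z hz⟩, ⟨y, hy⟩} : Finset D.W).card))
          (Finset.card_le_univ _)
        have n1 : z' ≠ 1 := fun h => hz1 (conj_eq_one_iff.1 h)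
        have n2 : z' ≠ v := fun h => hzv (mul_left_cancel (a := x) (mul_right_cancel (b := x⁻¹) (h.trans hxv.symm)))
        rw [Finset.card_insert_of_notMem, Finset.card_insert_of_notMem, Finset.card_insert_of_notMem,
          Finset.card_insert_of_notMem, Finset.card_singleton]
        all_goals simp [Subtype.ext_iff, hv1.symm, hz1.symm, n1.symm, hzv.symm, n2.symm, Ne.symm hzne,
          hcon.1.symm, hcon.2.1.symm, hcon.2.2.1.symm, hcon.2.2.2.symm]
      omega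
    have h2 : x * z' * x⁻¹ = z := by
      rcases hall _ (hconj _ (hconj z hz)) with e | e | e | e
      · exact absurd (conj_eq_one_iff.1 (conj_eq_one_iff.1 e)) hz1
      · exact absurd (mul_left_cancel (a := x) (mul_right_cancel (b := x⁻¹)
          ((mul_left_cancel (a := x) (mul_right_cancel (b := x⁻¹) (e.trans hxv.symm))).trans hxv.symm))) hzv
      · exact e
      · exact absurd (mul_left_cancel (a := x) (mul_right_cancel (b := x⁻¹) e)) hzne
    have hper : ∀ i : ℕ, x ^ (2 * i) * z * (x ^ (2 * i))⁻¹ = z := by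
      intro i
      induction i with
      | zero => simp
      | succ i ih =>
        calc x ^ (2 * (i + 1)) * z * (x ^ (2 * (i + 1)))⁻¹
            = x * (x * (x ^ (2 * i) * z * (x ^ (2 * i))⁻¹) * x⁻¹) * x⁻¹ := by
              rw [mul_add, mul_one, add_comm, pow_add, pow_two]; group
          _ = z := by rw [ih]; exact h2
    obtain ⟨i, hi⟩ : Odd (p ^ j) := (D.hp.odd_of_ne_two D.hp2).pow
    apply hzne
    calc z' = x * (x ^ (2 * i) * z * (x ^ (2 * i))⁻¹) * x⁻¹ := by rw [hper i]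
      _ = x ^ (2 * i + 1) * z * (x ^ (2 * i + 1))⁻¹ := by rw [pow_succ']; group
      _ = z := by rw [← hi, hj']; group
  -- a Sylow subgroup of `N(K)`
  obtain ⟨P1, hP1le, hP1p, hP1idx, hP1i⟩ := exists_invariant_sylowOf (p := p) D.hr D.hαr D.hrG L hLi
  have hKP1 : K ≤ P1 := by
    have hj : IsPGroup p ↥(K ⊔ P1) := hK.1.pgroup.to_sup_of_normal_left' hP1p hP1le
    obtain ⟨j, hj'⟩ := hj.index (P1.subgroupOf (K ⊔ P1))
    rcases Nat.eq_zero_or_pos j with rfl | hj0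
    · rw [pow_zero] at hj'
      exact le_trans le_sup_left (Subgroup.relIndex_eq_one.1 hj')
    · refine absurd (dvd_trans ?_ (Dvd.intro _ (Subgroup.relIndex_mul_relIndex P1 (K ⊔ P1) L le_sup_right
        (sup_le Subgroup.le_normalizer hP1le)))) hP1idx
      rw [Subgroup.relIndex, hj']
      exact dvd_pow_self p hj0.ne'
  have hU := helt (P1 ⊓ D.NT) (hP1p.to_le inf_le_left) (Inv.inf hP1i D.NT_inv) inf_le_right
    (inf_le_left.trans hP1le)
  have hdec : ∀ x ∈ P1, ∃ y ∈ K, ∃ n ∈ P1, n ∈ centralizer (D.T : Set G) ∧ x = y * n := by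
    intro x hx
    obtain ⟨y, hy, n, -, hnN, rfl⟩ := D.exists_eq_R_mul hLi hLne hK.1.hT (hP1le hx)
    rw [hRL] at hy
    have hnP : n ∈ P1 := by simpa using P1.mul_mem (P1.inv_mem (hKP1 hy)) hx
    exact ⟨y, hy, n, hnP, hU ⟨hnP, hnN⟩, rfl⟩
  have hTP1 : D.T ≤ normalizer (P1 : Set G) := fun t ht => mem_normalizer_of_conj_mem fun x hx => by
    obtain ⟨y, hy, n, hnP, hnC, rfl⟩ := hdec x hx
    rw [show t * (y * n) * t⁻¹ = (t * y * t⁻¹) * (t * n * t⁻¹) by group, mem_centralizer_iff.1 hnC t ht,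
      mul_inv_cancel_right]
    exact P1.mul_mem (hKP1 ((mem_normalizer_iff.1 (hK.1.hT ht) y).1 hy)) hnP
  have hP10 : P1 ≠ ⊥ := fun e => hK0 (le_bot_iff.1 (e ▸ hKP1))
  set L2 := normalizer (P1 : Set G) with hL2def
  have hL2i : Inv D.α L2 := Inv.normalizer hP1i
  have hL2ne : L2 ≠ ⊤ := D.normalizer_ne_top hP1p hP1i hP10
  -- elements of `N(T) ∩ N(P1)` normalize `K = [P1, T]`
  have hNL : ∀ g ∈ L2, g ∈ D.NT → g ∈ L := by
    intro g hg hgN
    set Y := closure {z | ∃ c ∈ P1, ∃ t ∈ D.T, z = c * t * c⁻¹ * t⁻¹} with hY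
    have hYK : Y ≤ K := (closure_le _).2 (by
      rintro _ ⟨c, hc, t, ht, rfl⟩
      obtain ⟨y, hy, n, -, hnC, rfl⟩ := hdec c hc
      rw [SetLike.mem_coe, show y * n * t * (y * n)⁻¹ * t⁻¹ = y * (n * t * n⁻¹) * y⁻¹ * t⁻¹ by group,
        ← mem_centralizer_iff.1 hnC t ht, mul_inv_cancel_right,
        show y * t * y⁻¹ * t⁻¹ = y * (t * y⁻¹ * t⁻¹) by group]
      exact K.mul_mem hy ((mem_normalizer_iff.1 (hK.1.hT ht) _).1 (K.inv_mem hy)))
    have hconjY : ∀ g, g ∈ L2 → g ∈ D.NT → ∀ z ∈ Y, g * z * g⁻¹ ∈ Y := by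
      intro g hg hgN z hz
      refine conj_mem_closure ?_ hz
      rintro _ ⟨c, hc, t, ht, rfl⟩
      exact subset_closure ⟨g * c * g⁻¹, (mem_normalizer_iff.1 hg c).1 hc, g * t * g⁻¹,
        (mem_normalizer_iff.1 hgN t).1 ht, by group⟩
    have hKY : K ≤ Y := fun c hc => by
      obtain ⟨y, hy, n, hnK, hnC, rfl⟩ := D.exists_cent_decomp hK.1.pgroup hYK hK.1.hT
        (fun t ht => mem_normalizer_of_conj_mem (hconjY t (hTP1 ht) (D.T_le_NT ht)))
        (fun c hc t ht => subset_closure ⟨c, hKP1 hc, t, ht, rfl⟩) hc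
      rw [hcent n hnK hnC, mul_one]; exact hy
    exact mem_normalizer_of_conj_mem fun z hz => hYK (hconjY g hg hgN z (hKY hz))
  obtain ⟨P2, hP2le, hP2p, hP2idx, hP2i⟩ := exists_invariant_sylowOf (p := p) D.hr D.hαr D.hrG L2 hL2i
  have hsup2 : ∀ Q : Subgroup G, IsPGroup p Q → Q ≤ L2 → L2 ≤ normalizer (Q : Set G) → Q ≤ P2 := by
    intro Q hQ hQL hQn
    have hj : IsPGroup p ↥(Q ⊔ P2) := hQ.to_sup_of_normal_left' hP2p (hP2le.trans hQn)
    obtain ⟨j, hj'⟩ := hj.index (P2.subgroupOf (Q ⊔ P2))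
    rcases Nat.eq_zero_or_pos j with rfl | hj0
    · rw [pow_zero] at hj'
      exact le_trans le_sup_left (Subgroup.relIndex_eq_one.1 hj')
    · refine absurd (dvd_trans ?_ (Dvd.intro _ (Subgroup.relIndex_mul_relIndex P2 (Q ⊔ P2) L2 le_sup_right
        (sup_le hQL hP2le)))) hP2idx
      rw [Subgroup.relIndex, hj']
      exact dvd_pow_self p hj0.ne'
  have hR2 : D.R L2 ≤ P2 :=
    hsup2 _ (D.R_spec hL2i hL2ne).2.1 (D.R_le hL2i hL2ne) (D.R_spec hL2i hL2ne).2.2.2.1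
  have hP12 : P1 ≤ P2 := hsup2 _ hP1p Subgroup.le_normalizer le_rfl
  have hU2 := helt (P2 ⊓ D.NT) (hP2p.to_le inf_le_left) (Inv.inf hP2i D.NT_inv) inf_le_right
    fun g hg => hNL g (hP2le hg.1) hg.2
  have hTP2 : D.T ≤ normalizer (P2 : Set G) := fun t ht => mem_normalizer_of_conj_mem fun x hx => by
    obtain ⟨y, hy, n, -, hnN, rfl⟩ := D.exists_eq_R_mul hL2i hL2ne hTP1 (hP2le hx)
    have hnP : n ∈ P2 := by simpa using P2.mul_mem (P2.inv_mem (hR2 hy)) hx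
    rw [show t * (y * n) * t⁻¹ = (t * y * t⁻¹) * (t * n * t⁻¹) by group,
      mem_centralizer_iff.1 (hU2 ⟨hnP, hnN⟩) t ht, mul_inv_cancel_right]
    exact P2.mul_mem (hR2 ((mem_normalizer_iff.1 ((D.R_spec hL2i hL2ne).2.2.2.1 (hTP1 ht)) y).1 hy)) hnP
  -- `P2 ∩ N(K) = P1`
  have hcap : P2 ⊓ L ≤ P1 := by
    have hj : IsPGroup p ↥(P1 ⊔ (P2 ⊓ L)) := hP2p.to_le (sup_le hP12 inf_le_left)
    obtain ⟨j, hj'⟩ := hj.index (P1.subgroupOf (P1 ⊔ (P2 ⊓ L)))
    rcases Nat.eq_zero_or_pos j with rfl | hj0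
    · rw [pow_zero] at hj'
      exact le_trans le_sup_right (Subgroup.relIndex_eq_one.1 hj')
    · refine absurd (dvd_trans ?_ (Dvd.intro _ (Subgroup.relIndex_mul_relIndex P1 (P1 ⊔ (P2 ⊓ L)) L le_sup_left
        (sup_le hP1le inf_le_right)))) hP1idx
      rw [Subgroup.relIndex, hj']
      exact dvd_pow_self p hj0.ne'
  have hvP1 : P1 ≤ centralizer ({v} : Set G) := fun x hx => by
    obtain ⟨y, hy, n, -, hnC, rfl⟩ := hdec x hx
    exact mul_mem (hKv hy) (hcC hnC)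
  -- `v` centralizes `P2`
  have hvP2 : P2 ≤ centralizer ({v} : Set G) := by
    have hz2 : IsPGroup 2 (zpowers v) := D.T_two.to_le (zpowers_le.2 hv.1)
    have h := CfsgLib.OddOrder41.le_centralizer_of_centralizer_fixed_le P2 (zpowers v) hP2p.isNilpotent
      ((zpowers_le.2 hv.1).trans hTP2) (by
        have : Fact (Nat.Prime 2) := ⟨Nat.prime_two⟩
        obtain ⟨i, hi⟩ := IsPGroup.iff_card.1 hz2
        obtain ⟨j, hj⟩ := IsPGroup.iff_card.1 hP2p
        rw [hi, hj]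
        exact Nat.Coprime.pow i j ((Nat.coprime_primes Nat.prime_two D.hp).2 (Ne.symm D.hp2)))
      (by
        rintro z ⟨hz, hzc⟩
        refine ⟨hz, mem_centralizer_iff.2 fun a ha => ?_⟩
        obtain ⟨i, rfl⟩ := ha
        have hP1c : ∀ y ∈ P1, y * z = z * y := fun y hy => mem_centralizer_iff.1 hzc y
          ⟨hP12 hy, mem_centralizer_iff.2 fun a ha => by
            obtain ⟨i, rfl⟩ := ha
            exact ((show Commute v y from (mem_centralizer_singleton_iff.1 (hvP1 hy)).symm).zpow_left i).eq⟩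
        have hzL : z ∈ L := mem_normalizer_of_conj_mem fun y hy => by
          rw [← hP1c y (hKP1 hy), mul_inv_cancel_right]; exact hy
        exact ((show Commute v z from
          (mem_centralizer_singleton_iff.1 (hvP1 (hcap ⟨hz, hzL⟩))).symm).zpow_left i).eq)
    exact fun x hx => mem_centralizer_singleton_iff.2 (mem_centralizer_iff.1 (h (mem_zpowers v)) x hx)
  have hP2eq : P2 ≤ P1 := fun x hx => hcap ⟨hx, hcvL (hvP2 hx)⟩
  -- so `P1` is a Sylow subgroup, normalized by `T`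
  obtain ⟨Pf, hPf⟩ := hP1p.exists_le_sylow
  by_cases he : (Pf : Subgroup G) ≤ P1
  · have e : (Pf : Subgroup G) = P1 := le_antisymm he hPf
    exact D.not_normalizes_sylow Pf (e ▸ hP1i) (e ▸ hTP1)
  · have hnc : Group.IsNilpotent (Pf : Subgroup G) := Pf.2.isNilpotent
    have hlt : P1.subgroupOf Pf < ⊤ := lt_top_iff_ne_top.2 fun e => he (Subgroup.subgroupOf_eq_top.1 e)
    obtain ⟨y, hy, hyK⟩ := SetLike.exists_of_lt (Group.normalizerCondition_of_isNilpotent _ hlt)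
    have hyL2 : (y : G) ∈ L2 := mem_normalizer_of_conj_mem fun z hz =>
      ((mem_normalizer_iff.1 hy) ⟨z, hPf hz⟩).1 hz
    have hj : IsPGroup p ↥(P1 ⊔ zpowers (y : G)) := Pf.2.to_le (sup_le hPf (zpowers_le.2 y.2))
    obtain ⟨j, hj'⟩ := hj.index (P1.subgroupOf (P1 ⊔ zpowers (y : G)))
    rcases Nat.eq_zero_or_pos j with rfl | hj0
    · rw [pow_zero] at hj'
      exact hyK ((Subgroup.relIndex_eq_one.1 hj') (mem_sup_right (mem_zpowers (y : G))))
    · refine hP2idx ?_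
      rw [le_antisymm hP2eq hP12]
      refine dvd_trans ?_ (Dvd.intro _ (Subgroup.relIndex_mul_relIndex P1 (P1 ⊔ zpowers (y : G)) L2 le_sup_left
        (sup_le Subgroup.le_normalizer (zpowers_le.2 hyL2))))
      rw [Subgroup.relIndex, hj']
      exact dvd_pow_self p hj0.ne'

/-- There is only one maximal member. -/
theorem max_unique (h4 : 4 ≤ Nat.card D.W) {K1 K2 : Subgroup G} (h1 : Maximal D.Mem K1) (h2 : Maximal D.Mem K2)
    (h10 : K1 ≠ ⊥) (h20 : K2 ≠ ⊥) : K1 = K2 := by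
  classical
  by_contra hne
  have hD0 : D.D0 = ⊥ := by
    by_contra h0
    exact hne (D.eq_of_inf_ne_bot h1 h2 fun e => h0 (le_bot_iff.1 (e ▸ le_inf (D.D0_le_max h1) (D.D0_le_max h2))))
  have hsep : ∀ v ∈ D.W, v ≠ 1 → K1 ⊓ centralizer ({v} : Set G) ≠ ⊥ →
      K2 ⊓ centralizer ({v} : Set G) = ⊥ := by
    intro v hv hv1 ha
    by_contra hb
    obtain ⟨hci, hcT, hcC⟩ := D.W_normalizes_cv hv
    obtain ⟨K3, hle, hK3⟩ := (Set.toFinite {K | D.Mem K}).exists_le_maximal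
      (a := D.RD (centralizer ({v} : Set G))) (D.RD_mem hci (D.cv_ne_top hv1) hcT hcC)
    have key : ∀ K : Subgroup G, Maximal D.Mem K → K ⊓ centralizer ({v} : Set G) ≠ ⊥ → K = K3 :=
      fun K hK hK' => D.eq_of_inf_ne_bot hK hK3 fun e => hK' (le_bot_iff.1 (e ▸ le_inf inf_le_left
        (((hK.1.inf_cent D hv).le_RD D hci (D.cv_ne_top hv1) hcT inf_le_right).trans hle)))
    exact hne ((key K1 h1 ha).trans (key K2 h2 hb).symm)
  have hex : ∀ K : Subgroup G, Maximal D.Mem K → K ≠ ⊥ → ∃ B : Subgroup G, B ≤ D.W ∧ B.relIndex D.W = 2 ∧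
      ∀ b ∈ B, b ≠ 1 → K ⊓ centralizer ({b} : Set G) ≠ ⊥ := by
    intro K hK hK0
    have : Fact (Nat.Prime 2) := ⟨Nat.prime_two⟩
    have := D.hp_fact
    by_contra hcon
    push Not at hcon
    have hcop : (Nat.card D.W).Coprime (Nat.card K) := by
      obtain ⟨i, hi⟩ := IsPGroup.iff_card.1 (D.T_two.to_le D.W_le_T)
      obtain ⟨j, hj⟩ := IsPGroup.iff_card.1 hK.1.pgroup
      rw [hi, hj]
      exact Nat.Coprime.pow i j ((Nat.coprime_primes Nat.prime_two D.hp).2 (Ne.symm D.hp2))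
    refine hK0 (le_bot_iff.1 ((CfsgLib.Coprime39.le_hyperCent_of_isPGroup D.W_elementary
      (fun e => by rw [e, Subgroup.card_bot] at h4; omega) hK.1.pgroup hcop
      (D.W_le_T.trans hK.1.hT)).trans (iSup_le fun B => ?_)))
    obtain ⟨b, hb, -, hKb⟩ := hcon B B.2.1 B.2.2
    rw [← hKb]
    exact inf_le_inf_left _ fun x hx =>
      mem_centralizer_singleton_iff.2 (mem_centralizer_iff.1 hx b hb).symm
  obtain ⟨B1, hB1, hi1, hb1⟩ := hex K1 h1 h10
  obtain ⟨B2, hB2, hi2, hb2⟩ := hex K2 h2 h20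
  have hcap : ∀ b ∈ B1, b ∈ B2 → b = 1 := fun b hb hb' => by
    by_contra hb0
    exact hb2 b hb' hb0 (hsep b (hB1 hb) hb0 (hb1 b hb hb0))
  have hcard : ∀ B : Subgroup G, B ≤ D.W → B.relIndex D.W = 2 → Nat.card B * 2 = Nat.card D.W := by
    intro B hB hi
    rw [← hi, ← Subgroup.relIndex_bot_left B, ← Subgroup.relIndex_bot_left D.W,
      Subgroup.relIndex_mul_relIndex _ _ _ bot_le hB]
  -- `W` is a four-group
  have hW4 : Nat.card D.W = 4 := by
    have hinj : Function.Injective (fun a : B1 × B2 => (⟨(a.1 : G) * a.2, D.W.mul_mem (hB1 a.1.2) (hB2 a.2.2)⟩ :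
        D.W)) := by
      rintro ⟨a, b⟩ ⟨a', b'⟩ h
      have h' : (a : G) * b = a' * b' := congrArg Subtype.val h
      have e : (a' : G)⁻¹ * a = b' * (b : G)⁻¹ := by
        calc (a' : G)⁻¹ * a = (a' : G)⁻¹ * (a * b) * (b : G)⁻¹ := by group
          _ = _ := by rw [h']; group
      have h0 := hcap _ (B1.mul_mem (B1.inv_mem a'.2) a.2) (e ▸ B2.mul_mem b'.2 (B2.inv_mem b.2))
      refine Prod.ext (Subtype.ext (inv_mul_eq_one.1 h0).symm) (Subtype.ext ?_)
      rw [h0, eq_comm, mul_inv_eq_one] at e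
      exact e.symm
    have hle := Nat.card_le_card_of_injective _ hinj
    rw [Nat.card_prod] at hle
    have e1 := hcard B1 hB1 hi1
    have e2 := hcard B2 hB2 hi2
    nlinarith
  obtain ⟨v1, hv1B, hv11⟩ : ∃ v ∈ B1, v ≠ 1 := by
    by_contra hB; push Not at hB
    have := hcard B1 hB1 hi1
    rw [(Subgroup.eq_bot_iff_forall _).2 hB, Subgroup.card_bot, hW4] at this
    omega
  obtain ⟨v2, hv2B, hv21⟩ : ∃ v ∈ B2, v ≠ 1 := by
    by_contra hB; push Not at hB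
    have := hcard B2 hB2 hi2
    rw [(Subgroup.eq_bot_iff_forall _).2 hB, Subgroup.card_bot, hW4] at this
    omega
  have h12 : v1 ≠ v2 := fun h => hv11 (hcap v1 hv1B (h ▸ hv2B))
  have hv1W := hB1 hv1B
  have hv2W := hB2 hv2B
  have h3W := D.W.mul_mem hv1W hv2W
  have hall : ∀ u ∈ D.W, u ≠ 1 → u = v1 ∨ u = v2 ∨ u = v1 * v2 := by
    intro u hu hu1
    by_contra hcon
    push Not at hcon
    have := Fintype.ofFinite D.W
    have h5 : 5 ≤ Nat.card D.W := by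
      rw [Nat.card_eq_fintype_card]
      refine le_trans (le_of_eq (?_ : 5 = ({1, ⟨v1, hv1W⟩, ⟨v2, hv2W⟩, ⟨v1 * v2, h3W⟩, ⟨u, hu⟩} : Finset D.W).card))
        (Finset.card_le_univ _)
      have n1 : v1 * v2 ≠ 1 := fun h => h12 (by
        rw [mul_eq_one_iff_eq_inv, D.W_inv hv2W] at h; exact h)
      have n2 : v1 * v2 ≠ v1 := fun h => hv21 (mul_eq_left.1 h)
      have n3 : v1 * v2 ≠ v2 := fun h => hv11 (mul_eq_right.1 h)
      rw [Finset.card_insert_of_notMem, Finset.card_insert_of_notMem, Finset.card_insert_of_notMem,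
        Finset.card_insert_of_notMem, Finset.card_singleton]
      all_goals simp [Subtype.ext_iff, hv11.symm, hv21.symm, n1.symm, h12, n2.symm, n3.symm, hu1.symm,
        hcon.1.symm, hcon.2.1.symm, hcon.2.2.symm]
    omega
  -- one of the two is met by one centralizer only
  have hline : ∀ (K : Subgroup G) (v : G), v ∈ D.W → v ≠ 1 →
      (∀ u ∈ D.W, u ≠ 1 → u ≠ v → K ⊓ centralizer ({u} : Set G) = ⊥) → Maximal D.Mem K → K ≠ ⊥ → False := by
    intro K v hv hv1 honly hK hK0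
    refine D.no_line h4 hD0 hK hK0 hv hv1 ?_ honly hW4
    refine D.le_of_cent_le h4 hK.1.pgroup (D.W_le_T.trans hK.1.hT) fun u hu hu1 => ?_
    rcases eq_or_ne u v with rfl | hne'
    · exact inf_le_right
    · rw [honly u hu hu1 hne']; exact bot_le
  have hsep' : ∀ v ∈ D.W, v ≠ 1 → K2 ⊓ centralizer ({v} : Set G) ≠ ⊥ →
      K1 ⊓ centralizer ({v} : Set G) = ⊥ := fun v hv hv1 hb => by
    by_contra ha
    exact hb (hsep v hv hv1 ha)
  by_cases h3 : K1 ⊓ centralizer ({v1 * v2} : Set G) = ⊥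
  · refine hline K1 v1 hv1W hv11 (fun u hu hu1 hne' => ?_) h1 h10
    rcases hall u hu hu1 with rfl | rfl | rfl
    · exact absurd rfl hne'
    · exact hsep' _ hu hu1 (hb2 _ hv2B hu1)
    · exact h3
  · refine hline K2 v2 hv2W hv21 (fun u hu hu1 hne' => ?_) h2 h20
    rcases hall u hu hu1 with rfl | rfl | rfl
    · exact hsep _ hu hu1 (hb1 _ hv1B hu1)
    · exact absurd rfl hne'
    · exact hsep _ hu hu1 h3

/-- The subgroup `Γ = K X` over `T`. -/
theorem exists_local : ∃ Γ K : Subgroup G, Inv D.α Γ ∧ Inv D.α K ∧ Γ ≠ ⊤ ∧ IsPGroup p K ∧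
    Γ ≤ normalizer (K : Set G) ∧ K ≤ Γ ∧ D.X ≤ Γ ∧ (∀ g ∈ Γ, ∃ k ∈ K, ∃ x ∈ D.X, g = k * x) ∧
    (∀ L : Subgroup G, Inv D.α L → L ≠ ⊤ → D.T ≤ L → L ≤ Γ) ∧ (Nat.card D.W < 4 → K = ⊥) := by
  have := D.hp_fact
  by_cases hall : ∀ L : Subgroup G, Inv D.α L → L ≠ ⊤ → D.T ≤ L → D.R L = ⊥
  · have hA : D.A = ⊥ := hall _ D.NT_inv D.NT_ne_top D.T_le_NT
    have hNX : D.NT ≤ D.X := fun g hg => by
      obtain ⟨a, ha, x, hx, rfl⟩ := D.exists_eq_A_mul hg
      rw [hA, mem_bot] at ha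
      rwa [ha, one_mul]
    refine ⟨D.X, ⊥, D.X_inv, inv_bot, D.X_ne_top, IsPGroup.of_bot, ?_, bot_le, le_rfl,
      fun g hg => ⟨1, Subgroup.one_mem _, g, hg, (one_mul g).symm⟩, fun L hL hne hT g hg => ?_, fun _ => rfl⟩
    · rw [Subgroup.normalizer_eq_top]; exact le_top
    · obtain ⟨y, hy, n, -, hnN, rfl⟩ := D.exists_eq_R_mul hL hne hT hg
      rw [hall L hL hne hT, mem_bot] at hy
      rw [hy, one_mul]; exact hNX hnN
  push Not at hall
  obtain ⟨L0, hL0, hL0ne, hTL0, hR0⟩ := hall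
  have h4 : 4 ≤ Nat.card D.W := by
    by_contra h
    exact hR0 (D.R_eq_bot_of_small (not_le.1 h) hL0 hL0ne hTL0)
  -- some centralizer carries a non-trivial `R`
  obtain ⟨v, hv, hv1, hRv⟩ : ∃ v ∈ D.W, v ≠ 1 ∧ D.R (centralizer ({v} : Set G)) ≠ ⊥ := by
    by_contra hcon
    push Not at hcon
    obtain ⟨hRM, hRp, hRi, hn, -, -⟩ := D.R_spec hL0 hL0ne
    have hfix : D.R L0 ≤ fixedSub D.α := by
      refine D.le_of_cent_le h4 hRp ((D.W_le_T.trans hTL0).trans hn) fun w hw hw1 => ?_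
      obtain ⟨hci, hcT, hcC⟩ := D.W_normalizes_cv hw
      have h := (D.R_spec hci (D.cv_ne_top hw1)).2.2.2.2.1 _ ((hRp.to_le inf_le_left).to_le (moved_le (hRi.inf hci)))
        (moved_mono (inf_le_right : D.R L0 ⊓ centralizer ({w} : Set G) ≤ _))
      rw [hcon w hw hw1, le_bot_iff, moved_eq_bot_iff] at h
      exact h
    refine hR0 (le_bot_iff.1 ?_)
    have hTc : D.T ≤ centralizer (D.R L0 : Set G) :=
      D.moved_T.symm.le.trans (moved_le_centralizer hfix (hTL0.trans hn))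
    have hle : moved D.α L0 ≤ D.T := by
      rw [← moved_moved D.hr D.hαr D.hrG hL0]
      refine (closure_le _).2 ?_
      rintro _ ⟨x, hx, rfl⟩
      have hx' : x ∈ ((D.R L0 ⊔ D.T : Subgroup G) : Set G) := D.moved_le_RT hL0 hL0ne hTL0 hx
      rw [Subgroup.coe_mul_of_right_le_normalizer_left (D.R L0) D.T (hTL0.trans hn)] at hx'
      obtain ⟨y, hy, t, ht, rfl⟩ := hx'
      have hyf : D.α y = y := hfix hy
      have e : (y * t)⁻¹ * D.α (y * t) = t⁻¹ * D.α t := by rw [map_mul, hyf]; group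
      show (y * t)⁻¹ * D.α (y * t) ∈ D.T
      rw [e]
      exact D.T.mul_mem (D.T.inv_mem ht) (D.T_inv.apply_mem ht)
    have : Fact (Nat.Prime 2) := ⟨Nat.prime_two⟩
    exact (eq_bot_of_two_and_p D.hp2 hRp (D.T_two.to_le (hRM.trans hle))).le
  obtain ⟨hci, hcT, hcC⟩ := D.W_normalizes_cv hv
  obtain ⟨K, hleK, hK⟩ := (Set.toFinite {K | D.Mem K}).exists_le_maximal
    (a := D.RD (centralizer ({v} : Set G))) (D.RD_mem hci (D.cv_ne_top hv1) hcT hcC)
  have hK0 : K ≠ ⊥ := fun e => hRv (le_bot_iff.1 ((le_sup_left.trans hleK).trans e.le))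
  have hmem : ∀ Q : Subgroup G, D.Mem Q → Q ≤ K := by
    intro Q hQ
    rcases eq_or_ne Q ⊥ with rfl | hQ0
    · exact bot_le
    obtain ⟨K', hQK', hK'⟩ := (Set.toFinite {K | D.Mem K}).exists_le_maximal (a := Q) hQ
    exact hQK'.trans (D.max_unique h4 hK' hK (fun e => hQ0 (le_bot_iff.1 (e ▸ hQK'))) hK0).le
  have hAK : D.A ≤ K := (D.le_D0 (D.R_spec D.NT_inv D.NT_ne_top).2.1 D.A_cent
    (D.cent_T_le_NT.trans (D.R_spec D.NT_inv D.NT_ne_top).2.2.2.1)).trans (hmem _ D.D0_mem)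
  have hXK : D.X ≤ normalizer (K : Set G) := by
    refine sup_le hK.1.hT fun c hc => ?_
    refine mem_normalizer_of_conj_mem fun x hx => hmem (K.map (MulAut.conj c).toMonoidHom) ?_ ⟨x, hx, rfl⟩
    have hcf : D.α c = c := hc.2
    have hconj : ∀ S : Subgroup G, S ≤ D.NT →
        (∀ g ∈ S, c⁻¹ * g * c ∈ normalizer (K : Set G)) → S ≤ normalizer (K.map (MulAut.conj c).toMonoidHom : Set G) := by
      intro S _ h g hg
      refine mem_normalizer_of_conj_mem ?_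
      rintro _ ⟨y, hy, rfl⟩
      exact ⟨c⁻¹ * g * c * y * (c⁻¹ * g * c)⁻¹, (mem_normalizer_iff.1 (h g hg) y).1 hy, by
        simp [MulAut.conj_apply]; group⟩
    refine ⟨hK.1.pgroup.map _, inv_of_forall ?_, hconj _ D.T_le_NT fun g hg => hK.1.hT
      ((mem_normalizer_iff''.1 hc.1 g).1 hg), hconj _ D.cent_T_le_NT fun g hg => hK.1.hC ?_⟩
    · rintro _ ⟨y, hy, rfl⟩
      exact ⟨D.α y, hK.1.inv.apply_mem hy, by simp [MulAut.conj_apply, hcf]⟩
    · refine mem_centralizer_iff.2 fun t ht => ?_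
      have h1 := mem_centralizer_iff.1 hg (c * t * c⁻¹) ((mem_normalizer_iff.1 hc.1 t).1 ht)
      calc t * (c⁻¹ * g * c) = c⁻¹ * (c * t * c⁻¹ * g) * c := by group
        _ = c⁻¹ * (g * (c * t * c⁻¹)) * c := by rw [h1]
        _ = _ := by group
  set Γ := normalizer (K : Set G)
  have hΓne : Γ ≠ ⊤ := D.normalizer_ne_top hK.1.pgroup hK.1.inv hK0
  have hNTΓ : D.NT ≤ Γ := fun g hg => by
    obtain ⟨a, ha, x, hx, rfl⟩ := D.exists_eq_A_mul hg
    exact mul_mem (Subgroup.le_normalizer (hAK ha)) (hXK hx)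
  have hdec : ∀ L : Subgroup G, Inv D.α L → L ≠ ⊤ → D.T ≤ L → D.R L ≤ K → ∀ g ∈ L, ∃ k ∈ K, ∃ x ∈ D.X, g = k * x := by
    intro L hL hne hT hRK g hg
    obtain ⟨y, hy, n, -, hnN, rfl⟩ := D.exists_eq_R_mul hL hne hT hg
    obtain ⟨a, ha, x, hx, rfl⟩ := D.exists_eq_A_mul hnN
    exact ⟨y * a, K.mul_mem (hRK hy) (hAK ha), x, hx, by group⟩
  have hcv : ∀ w ∈ D.W, w ≠ 1 → centralizer ({w} : Set G) ≤ Γ := by
    intro w hw hw1 g hg
    obtain ⟨hi', hT', hC'⟩ := D.W_normalizes_cv hw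
    obtain ⟨k, hk, x, hx, rfl⟩ := hdec _ hi' (D.cv_ne_top hw1) hT'
      ((le_sup_left : D.R _ ≤ D.RD _).trans (hmem _ (D.RD_mem hi' (D.cv_ne_top hw1) hT' hC'))) g hg
    exact mul_mem (Subgroup.le_normalizer hk) (hXK hx)
  refine ⟨Γ, K, hK.1.inv.normalizer, hK.1.inv, hΓne, hK.1.pgroup, le_rfl, Subgroup.le_normalizer, hXK,
    hdec Γ hK.1.inv.normalizer hΓne (D.T_le_NT.trans hNTΓ)
      ((le_sup_left : D.R Γ ≤ D.RD Γ).trans (hmem _ (D.RD_mem hK.1.inv.normalizer hΓne (D.T_le_NT.trans hNTΓ)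
        (D.cent_T_le_NT.trans hNTΓ)))),
    fun L hL hne hT g hg => ?_, fun h => absurd h (not_lt.2 h4)⟩
  obtain ⟨y, hy, n, -, hnN, rfl⟩ := D.exists_eq_R_mul hL hne hT hg
  refine mul_mem ?_ (hNTΓ hnN)
  obtain ⟨-, hRp, -, hn, -, -⟩ := D.R_spec hL hne
  exact D.le_of_cent_le h4 hRp ((D.W_le_T.trans hT).trans hn)
    (fun w hw hw1 => inf_le_right.trans (hcv w hw hw1)) hy

end Bar

end CfsgLib.FlavellHHS
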