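import Cfsg.Agent.Lib.FlavellHHS.M1Conj
import Cfsg.Agent.Lib.FlavellFpf.SpaceMain

/-!
`Γ` is strongly embedded with respect to `W`: an element conjugating an involution of `W` into `Γ`
lies in `Γ`.
-/

set_option autoImplicit false
set_option linter.unusedSectionVars false
set_option maxHeartbeats 400000

namespace CfsgLib.FlavellHHS

open Subgroup CfsgLib.CoprimeCentral CfsgLib.FlavellFpf
open scoped commutatorElement

universe u v w

namespace GBar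

variable {G : Type u} [Group G] [Finite G] {M : Type v} [AddCommGroup M] [Finite M] {Zc : Type w}
  [AddCommGroup Zc] [Finite Zc] {p r : ℕ} (D : GBar G M Zc p r)

/-- The second part of `(iii)`: `g` conjugates all of `W` into `X`. -/
theorem conj_W_mem_X {g x : G} (hg : g ∉ D.Γ) (hN : D.Norm g) (hx : x ∈ D.W) (hx1 : x ≠ 1) (hv : g * x * g⁻¹ ∈ D.X)
    {u : G} (hu : u ∈ D.W) : g * u * g⁻¹ ∈ D.X := by
  by_contra hnu
  have hA : ∃ u ∈ D.W, g * u * g⁻¹ ∉ D.X := ⟨u, hu, hnu⟩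
  obtain ⟨q, c, h⟩ := D.exists_conj hg hN hx hx1 hv
  have hc1 := h.gM_eq_one_of_ne hA
  have hall : ∀ z ∈ D.W, g⁻¹ * z * g ∈ D.X := fun z hz => (h.commute_iff hz).2
    ((h.commute_iff_c hz).2 (D.centW_of_gM h.hcX h.hc hc1 z hz))
  have hnull := h.null fun y hy => h.sq_eq_one hA hy
  set L := D.Sp.span (D.π q) with hL
  have hLiso : ∀ e ∈ L, ∀ e' ∈ L, D.Sp.B e e' ∈ D.Sp.Zs := D.Sp.B_span hnull
  have hLinv : D.Sp.AInv L := D.Sp.span_inv _
  -- all the conjugates lie over `L`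
  have hline : ∀ x' q' c', D.Conj g x' q' c' → D.π q' ∈ L := by
    intro x' q' c' h'
    have hc1' := h'.gM_eq_one_of_ne hA
    have hnull' := h'.null fun y hy => h'.sq_eq_one hA hy
    refine D.Sp.orth hLinv (D.Sp.span_ne_bot h.ne_zero) hLiso fun e he => ?_
    rw [D.Sp.B_symm]
    refine D.Sp.B_span (fun j => ?_) e he _ (D.Sp.mem_span_self _)
    obtain ⟨ht, hπt⟩ := h'.π_pow j
    rw [← hπt]
    refine (D.commute_q_iff h.hq ht (D.cent_T_of_gM h.hcX h.hc hc1 ht)).1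
      ((h.T_commute_iff ht).1 ((h'.T_commute_iff ht).2 ?_))
    rw [D.commute_q_iff h'.hq ht (D.cent_T_of_gM h'.hcX h'.hc hc1' ht), hπt]
    exact hnull' j
  have hF : ∀ t ∈ D.T, D.π t ∈ L → g⁻¹ * t * g ∈ D.X := fun t ht htL =>
    (h.T_commute_iff ht).2 ((D.commute_q_iff h.hq ht (D.cent_T_of_gM h.hcX h.hc hc1 ht)).2
      (hLiso _ (D.Sp.mem_span_self _) _ htL))
  let S : Set G := {t | t ∈ D.T ∧ D.π t ∈ L} ∪ {b | b ∈ D.X ∧ g⁻¹ * b * g ∈ D.W}
  set E := closure S with hE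
  have hEX : E ≤ D.X := by
    rw [hE, closure_le]
    rintro e (⟨he, -⟩ | ⟨he, -⟩)
    exacts [D.T_le_X he, he]
  have hFE : ∀ t ∈ D.T, D.π t ∈ L → t ∈ E := fun t ht htL => subset_closure (Or.inl ⟨ht, htL⟩)
  have hBE : ∀ b ∈ D.X, g⁻¹ * b * g ∈ D.W → b ∈ E := fun b hb hb' => subset_closure (Or.inr ⟨hb, hb'⟩)
  have hdec : ∀ b ∈ D.X, g⁻¹ * b * g ∈ D.W → b ≠ 1 → ∃ q' c', D.Conj g (g⁻¹ * b * g) q' c' ∧ b = q' * c' := by
    intro b hb hb' hb1
    obtain ⟨q', c', h'⟩ := D.exists_conj hg hN hb' (fun h1 => hb1 (by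
      calc b = g * (g⁻¹ * b * g) * g⁻¹ := by group
        _ = 1 := by rw [h1]; group)) (by simpa [mul_assoc] using hb)
    exact ⟨q', c', h', by rw [← h'.heq]; group⟩
  have hEinv : Inv D.α E := inv_of_forall fun e he => by
    refine (closure_le (K := E.comap D.α.toMonoidHom)).2 ?_ he
    rintro e (⟨he, heL⟩ | ⟨he, he'⟩)
    · refine hFE _ (D.T_inv.apply_mem he) ?_
      show D.π (D.α e) ∈ L
      rw [D.hπα e he]; exact hLinv _ heL
    · rcases eq_or_ne e 1 with rfl | he1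
      · simp [E.one_mem]
      obtain ⟨q', c', h', rfl⟩ := hdec e he he' he1
      show D.α (q' * c') ∈ E
      have e1 : D.α (q' * c') = (D.α q' * q'⁻¹) * (q' * c') := by rw [map_mul, h'.hc]; group
      have hαq := D.T_inv.apply_mem h'.hq
      rw [e1]
      refine mul_mem (hFE _ (D.T.mul_mem hαq (D.T.inv_mem h'.hq)) ?_) (hBE _ he he')
      rw [D.hπ_mul _ hαq _ (D.T.inv_mem h'.hq), D.π_inv h'.hq, D.hπα _ h'.hq]
      exact L.add_mem (hLinv _ (hline _ _ _ h')) (hline _ _ _ h')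
  have hTn : D.T ≤ normalizer (E : Set G) := by
    intro t ht
    refine mem_normalizer_of_conj_mem fun e he => conj_mem_closure ?_ he
    rintro e (⟨he, heL⟩ | ⟨he, he'⟩)
    · refine hFE _ (D.conj_mem_T (D.T_le_X ht) he) ?_
      rw [D.hπ_mul _ (D.T.mul_mem ht he) _ (D.T.inv_mem ht), D.hπ_mul t ht e he, D.π_inv ht]
      rwa [add_right_comm, D.Sp.hM2, zero_add]
    · rcases eq_or_ne e 1 with rfl | he1
      · simp [E.one_mem]
      obtain ⟨q', c', h', rfl⟩ := hdec e he he' he1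
      have hct := mul_inv_eq_iff_eq_mul.1
        (D.cent_T_of_gM h'.hcX h'.hc (h'.gM_eq_one_of_ne hA) (D.T.inv_mem ht))
      have e1 : t * (q' * c') * t⁻¹ = (t * q' * t⁻¹ * q'⁻¹) * (q' * c') := by
        calc t * (q' * c') * t⁻¹ = t * q' * (c' * t⁻¹) := by group
          _ = _ := by rw [hct]; group
      rw [e1]
      refine mul_mem (hFE _ (D.T.mul_mem (D.conj_mem_T (D.T_le_X ht) h'.hq) (D.T.inv_mem h'.hq)) ?_)
        (hBE _ he he')
      rw [D.hπ_mul _ (D.conj_mem_T (D.T_le_X ht) h'.hq) _ (D.T.inv_mem h'.hq),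
        D.hπ_mul _ (D.T.mul_mem ht h'.hq) _ (D.T.inv_mem ht), D.hπ_mul t ht q' h'.hq, D.π_inv ht,
        D.π_inv h'.hq, add_right_comm (D.π t), D.Sp.hM2, zero_add, D.Sp.hM2]
      exact L.zero_mem
  have hvE : g * x * g⁻¹ ∈ E := hBE _ hv (by simpa [mul_assoc] using hx)
  have hNX := D.normalizer_le_Γ hEinv (fun e => hx1 (conj_eq_one_iff.1 (mem_bot.1 (e ▸ hvE))))
    (fun e => D.X_ne_top (top_unique (e ▸ hEX))) hTn
  refine hnu (hN.fwd u hu.1 (hNX (mem_normalizer_of_conj_mem fun e he => conj_mem_closure ?_ he)))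
  set b := g * u * g⁻¹ with hb
  rintro e (⟨he, heL⟩ | ⟨he, he'⟩)
  · have hy' := hF e he heL
    set d := b * e * b⁻¹ * e⁻¹ with hd
    have hd' : g⁻¹ * d * g ∈ D.W := by
      rw [show g⁻¹ * d * g = u * ((g⁻¹ * e * g) * u⁻¹ * (g⁻¹ * e * g)⁻¹) by rw [hd, hb]; group]
      exact D.W.mul_mem hu (D.conj_mem_W hy' (D.W.inv_mem hu))
    set i := x * b * x⁻¹ * b⁻¹ with hi
    have hi' : g⁻¹ * i * g ∈ D.W := by
      rw [show g⁻¹ * i * g = (g⁻¹ * x * g) * u * (g⁻¹ * x * g)⁻¹ * u⁻¹ by rw [hi, hb]; group]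
      exact D.comm_mem_W (hall x hx) hu
    have hbb : b * b = 1 := by
      rw [hb, show g * u * g⁻¹ * (g * u * g⁻¹) = g * (u * u) * g⁻¹ by group,
        mul_eq_one_iff_eq_inv.2 (D.W_inv hu).symm, mul_one, mul_inv_cancel]
    have hxi : x * i * x⁻¹ = i := by
      have e1 : i⁻¹ = x * i * x⁻¹ := by
        calc i⁻¹ = b * x * b⁻¹ * x⁻¹ := by rw [hi]; group
          _ = b⁻¹ * x * b * x⁻¹ := by rw [← eq_inv_of_mul_eq_one_left hbb]
          _ = _ := by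
            rw [hi]
            calc b⁻¹ * x * b * x⁻¹ = (x * x) * b⁻¹ * x * b * x⁻¹ := by
                  rw [mul_eq_one_iff_eq_inv.2 (D.W_inv hx).symm, one_mul]
              _ = x * (x * b⁻¹ * x⁻¹ * b) * (b⁻¹ * (x * x) * b) * x⁻¹ := by group
              _ = _ := by
                rw [mul_eq_one_iff_eq_inv.2 (D.W_inv hx).symm, mul_one, inv_mul_cancel, mul_one,
                  ← eq_inv_of_mul_eq_one_left hbb]
      have hii : i⁻¹ = i := by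
        calc i⁻¹ = g * (g⁻¹ * i * g)⁻¹ * g⁻¹ := by group
          _ = i := by rw [D.W_inv hi']; group
      rw [← e1, hii]
    have hix := mul_inv_eq_iff_eq_mul.1 hxi
    have hiy : i * e = e * i := by
      rcases eq_or_ne i 1 with h1 | h1
      · rw [h1]; group
      obtain ⟨q', c', h', he2⟩ := hdec i (by
        have e : g * (g⁻¹ * i * g) * g⁻¹ = i := by group
        simpa only [e] using hN.fwd _ hi'.1 (e.symm ▸ D.mem_Γ_of_commute hx hx1 hix.symm)) hi' h1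
      rw [he2]
      exact (h'.T_commute_iff he).1 hy'
    have hxd : x * d * x⁻¹ = d := by
      calc x * d * x⁻¹ = (x * b * x⁻¹) * (x * e * x⁻¹) * (x * b * x⁻¹)⁻¹ * (x * e * x⁻¹)⁻¹ := by
            rw [hd]; group
        _ = (i * b) * e * (i * b)⁻¹ * e⁻¹ := by
            rw [D.W_central hx he, mul_inv_cancel_right, hi]; group
        _ = i * d * (e * i⁻¹ * e⁻¹) := by rw [hd]; group
        _ = i * d * i⁻¹ := by
            rw [← (show Commute i e from hiy).inv_left.eq, mul_inv_cancel_right]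
        _ = g * ((g⁻¹ * i * g) * (g⁻¹ * d * g) * (g⁻¹ * i * g)⁻¹) * g⁻¹ := by group
        _ = d := by rw [D.W_comm hi' hd', mul_inv_cancel_right]; group
    rw [show b * e * b⁻¹ = d * e by rw [hd]; group]
    exact mul_mem (hBE _ (by
      have e' : g * (g⁻¹ * d * g) * g⁻¹ = d := by group
      simpa only [e'] using hN.fwd _ hd'.1
        (e'.symm ▸ D.mem_Γ_of_commute hx hx1 (mul_inv_eq_iff_eq_mul.1 hxd).symm)) hd') (hFE e he heL)
  · have e1 : b * e * b⁻¹ = e := by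
      calc b * e * b⁻¹ = g * (u * (g⁻¹ * e * g) * u⁻¹) * g⁻¹ := by rw [hb]; group
        _ = e := by rw [D.W_comm hu he', mul_inv_cancel_right]; group
    rw [e1]
    exact hBE _ he he'

/-- `g` and `g⁻¹` both conjugate `W` into `X`. -/
structure Dbl (g : G) : Prop where
  hg : g ∉ D.Γ
  hN : D.Norm g
  left : ∀ u ∈ D.W, g * u * g⁻¹ ∈ D.X
  right : ∀ u ∈ D.W, g⁻¹ * u * g ∈ D.X

theorem Dbl.symm {g : G} (h : D.Dbl g) : D.Dbl g⁻¹ :=
  ⟨D.inv_not_mem_Γ h.hg, h.hN.symm D, fun u hu => by simpa using h.right u hu, fun u hu => by simpa using h.left u hu⟩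

theorem Dbl.gM_eq_one {g x q c : G} (hD : D.Dbl g) (h : D.Conj g x q c) : D.gM c = 1 := h.gM_eq_one hD.right

/-- The data attached to a null conjugate. -/
structure Flip (g c0 : G) : Prop where
  hcX : c0 ∈ D.X
  hc : D.α c0 = c0
  hne : D.gM c0 ≠ 1
  hW : D.CentW c0
  invol : ∀ m, D.gM c0 (D.gM c0 m) = m
  exists_u : ∃ u ∈ D.T, ∃ q0 ∈ D.T, g⁻¹ * u * g = q0 * c0 ∧ D.gM c0 (D.π q0) = D.π q0 ∧
    ∃ x q c j, D.Conj g x q c ∧ D.π u = (D.Sp.a ^ j : AddMonoid.End M) (D.π q)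

theorem centW_of_conj {g t q' c' : G} (hD : D.Dbl g) (ht : t ∈ D.T) (ht' : g⁻¹ * t * g ∈ D.X)
    (hq' : q' ∈ D.T) (he : g⁻¹ * t * g = q' * c') : D.CentW c' := by
  intro z hz
  rcases eq_or_ne z 1 with rfl | hz1
  · group
  obtain ⟨q, c, h⟩ := D.exists_conj hD.hg hD.hN hz hz1 (hD.left z hz)
  have h1 := (h.T_commute_iff ht).1 ht'
  rw [← h.heq] at h1
  have h2 : q' * c' * z = z * (q' * c') := by
    rw [← he]
    calc g⁻¹ * t * g * z = g⁻¹ * (t * (g * z * g⁻¹)) * g := by group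
      _ = g⁻¹ * (g * z * g⁻¹ * t) * g := by rw [h1]
      _ = z * (g⁻¹ * t * g) := by group
  rwa [← mul_assoc z, D.W_central hz hq', mul_assoc, mul_assoc, mul_right_inj, ← mul_inv_eq_iff_eq_mul] at h2

theorem exists_flip {g x q c : G} (hD : D.Dbl g) (h : D.Conj g x q c)
    (hnull : ∀ k : ℕ, D.Sp.B (D.π q) ((D.Sp.a ^ k) (D.π q)) ∈ D.Sp.Zs) : ∃ c0, D.Flip g c0 := by
  have hc1 := hD.gM_eq_one D h
  obtain ⟨j, hj⟩ : ∃ j, D.Sp.B (D.π q) ((D.Sp.a ^ j) (D.π q)) ≠ 0 := by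
    by_contra hall
    push Not at hall
    refine D.Sp.span_ne_bot h.ne_zero (D.Sp.hnd _ (D.Sp.span_inv _) fun u hu v hv => ?_)
    exact AddSubgroup.mem_bot.1 (D.Sp.B_span (W := ⊥) (fun k => by rw [hall k]; exact zero_mem _) u hu v hv)
  obtain ⟨hu, hπu⟩ := h.π_pow j
  set u := (D.α ^ j) q
  have hcu := D.cent_T_of_gM h.hcX h.hc hc1 hu
  have hvu : q * c * u = u * (q * c) := (D.commute_q_iff h.hq hu hcu).2 (hπu ▸ hnull j)
  have hu' := (h.T_commute_iff hu).2 hvu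
  obtain ⟨q0, hq0, c0, hc0X, hc0, he⟩ := D.exists_eq_T_mul hu'
  have huu : u * u = 1 := by
    rw [D.sq_eq_one_iff hu, hπu]
    exact D.Sp.Qf_mem_of_iso (D.Sp.span_inv (D.π q)) (D.Sp.B_span hnull)
      (Space.AInv.pow_mem D.Sp (D.Sp.span_inv _) (D.Sp.mem_span_self _) j)
  have hsq : q0 * c0 * (q0 * c0) = 1 := by
    rw [← he, show g⁻¹ * u * g * (g⁻¹ * u * g) = g⁻¹ * (u * u) * g by group, huu, mul_one, inv_mul_cancel]
  obtain ⟨hinv, hfix⟩ := D.sq_dec hq0 hc0X hc0 hsq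
  refine ⟨c0, hc0X, hc0, fun h1 => hj ?_, D.centW_of_conj hD hu hu' hq0 he, hinv,
    u, hu, q0, hq0, he, hfix, x, q, c, j, h, hπu⟩
  -- lifts of `v` and `u` would commute
  obtain ⟨z, hz⟩ := D.hω_surj x h.hx
  have h2 : D.κ c0 x := hz ▸ (D.κ_ω c0 hc0X hc0 z).2 (D.gZ_of_gM hc0X hc0 h1 z)
  have h3 : D.κ (q0 * c0) x := (D.κ_mul q0 c0 x h2).2 (hz ▸ D.κ_Tω q0 hq0 z)
  have h4 := D.κ_conj g _ _ h3
  rw [h.heq, ← he, show g * (g⁻¹ * u * g) * g⁻¹ = u by group] at h4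
  have h5 := D.κ_symm _ _ h4
  rw [D.κ_mul q c u (D.κ_triv c h.hcX h.hc hc1 u hu), D.κ_T q h.hq u hu, hπu] at h5
  exact h5

theorem Flip.mem_line {g c0 : G} (hF : D.Flip g c0) (hD : D.Dbl g) {x q c : G} (h : D.Conj g⁻¹ x q c) :
    D.π q ∈ D.Pim c0 := by
  obtain ⟨u, hu, q0, hq0, he, hfix, -⟩ := hF.exists_u
  refine D.mem_Pim_of_fixed hF.hcX hF.hc hF.hW hF.invol hF.hne ?_
  have hcomm : q0 * c0 * (q * c) = q * c * (q0 * c0) := by
    rw [← he, ← h.heq, inv_inv]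
    calc g⁻¹ * u * g * (g⁻¹ * x * g) = g⁻¹ * (u * x) * g := by group
      _ = g⁻¹ * (x * u) * g := by rw [D.W_central h.hx hu]
      _ = _ := by group
  have h1 := D.comm_π hq0 hF.hcX hF.hc h.hq h.hcX h.hc hcomm
  rw [hD.symm.gM_eq_one D h, AddMonoid.End.coe_one, id, add_comm (D.π q)] at h1
  exact add_left_cancel h1

theorem Flip.iso {g c0 : G} (hF : D.Flip g c0) : ∀ a ∈ D.Pim c0, ∀ b ∈ D.Pim c0, D.Sp.B a b ∈ D.Sp.Zs :=
  D.Pim_iso hF.hcX hF.hc hF.hW hF.invol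

theorem Flip.inv {g c0 : G} (hF : D.Flip g c0) : D.Sp.AInv (D.Pim c0) := D.Pim_inv hF.hcX hF.hc

theorem Flip.null {g c0 : G} (hF : D.Flip g c0) (hD : D.Dbl g) {x q c : G} (h : D.Conj g⁻¹ x q c) (k : ℕ) :
    D.Sp.B (D.π q) ((D.Sp.a ^ k) (D.π q)) ∈ D.Sp.Zs :=
  hF.iso D _ (hF.mem_line D hD h) _ (Space.AInv.pow_mem D.Sp (hF.inv D) (hF.mem_line D hD h) k)

theorem exists_flips {g x : G} (hD : D.Dbl g) (hx : x ∈ D.W) (hx1 : x ≠ 1) :
    ∃ c0 c1, D.Flip g c0 ∧ D.Flip g⁻¹ c1 := by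
  obtain ⟨q, c, h⟩ := D.exists_conj hD.hg hD.hN hx hx1 (hD.left x hx)
  obtain ⟨q2, c2, h2⟩ := D.exists_conj hD.symm.hg hD.symm.hN hx hx1 (hD.symm.left x hx)
  have hboth : (∃ c0, D.Flip g c0) ∨ ∃ c1, D.Flip g⁻¹ c1 := by
    by_cases hsq : ∀ y ∈ D.T, q * c * y = y * (q * c) → y * y = 1
    · exact Or.inl (D.exists_flip hD h (h.null hsq))
    push Not at hsq
    obtain ⟨y, hy, hyc, hy1⟩ := hsq
    have hy' := (h.T_commute_iff hy).2 hyc
    obtain ⟨q', hq', c', hc'X, hc', he⟩ := D.exists_eq_T_mul hy'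
    have hW := D.centW_of_conj hD hy hy' hq' he
    have hyy : g⁻¹ * (y * y) * g⁻¹⁻¹ ∈ D.X := hD.symm.left _ (D.sq_mem_W hy)
    obtain ⟨q3, c3, h3⟩ := D.exists_conj hD.symm.hg hD.symm.hN (D.sq_mem_W hy) hy1 hyy
    have hcq := D.conj_mem_T hc'X hq'
    have hcc : D.α (c' * c') = c' * c' := by rw [map_mul, hc']
    have e : q3 * c3 = q' * (c' * q' * c'⁻¹) * (c' * c') := by
      calc q3 * c3 = (g⁻¹ * y * g) * (g⁻¹ * y * g) := by rw [← h3.heq]; group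
        _ = _ := by rw [he]; group
    have hcc1 : D.gM (c' * c') = 1 := by
      rw [← D.gM_unique h3.hq (D.T.mul_mem hq' hcq) h3.hcX h3.hc (mul_mem hc'X hc'X) hcc e]
      exact hD.symm.gM_eq_one D h3
    have hinv : ∀ m, D.gM c' (D.gM c' m) = m := fun m => by
      rw [← D.gM_mul hc'X hc' hc'X hc', hcc1]; rfl
    have hmem : D.π q3 ∈ D.Pim c' := by
      rw [(D.π_unique h3.hq (D.T.mul_mem hq' hcq) h3.hc hcc e).1, D.hπ_mul q' hq' _ hcq,
        D.hgM c' hc'X hc' q' hq', add_comm]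
      exact D.mem_Pim.2 ⟨_, rfl⟩
    exact Or.inr (D.exists_flip hD.symm h3 fun k =>
      D.Pim_iso hc'X hc' hW hinv _ hmem _ (Space.AInv.pow_mem D.Sp (D.Pim_inv hc'X hc') hmem k))
  rcases hboth with ⟨c0, h0⟩ | ⟨c1, h1⟩
  · obtain ⟨c1, h1⟩ := D.exists_flip hD.symm h2 (h0.null D hD h2)
    exact ⟨c0, c1, h0, h1⟩
  · have h' : D.Conj g⁻¹⁻¹ x q c := by rwa [inv_inv]
    obtain ⟨c0, h0⟩ := D.exists_flip hD h (h1.null D hD.symm h')
    exact ⟨c0, c1, h0, h1⟩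

/-- Elements of `T` over the line of one side are conjugated over the line of the other side. -/
theorem conj_line {g c0 c1 : G} (hD : D.Dbl g) (h0 : D.Flip g c0) (h1 : D.Flip g⁻¹ c1) {x : G}
    (hx : x ∈ D.W) (hx1 : x ≠ 1) {t : G} (ht : t ∈ D.T) (htL : D.π t ∈ D.Pim c1) :
    ∃ q' ∈ D.T, ∃ c' ∈ D.X, D.α c' = c' ∧ g⁻¹ * t * g = q' * c' ∧ D.π q' ∈ D.Pim c0 ∧
      ∀ m, D.gM c' m + m ∈ D.Pim c0 := by
  obtain ⟨q, c, h⟩ := D.exists_conj hD.hg hD.hN hx hx1 (hD.left x hx)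
  have hside : ∀ {x q c : G}, D.Conj g x q c → D.π q ∈ D.Pim c1 := fun {x q c} h =>
    h1.mem_line D hD.symm (by rwa [inv_inv])
  have ht' : g⁻¹ * t * g ∈ D.X := (h.T_commute_iff ht).2
    ((D.commute_q_iff h.hq ht (D.cent_T_of_gM h.hcX h.hc (hD.gM_eq_one D h) ht)).2
      (h1.iso D _ (hside h) _ htL))
  obtain ⟨q', hq', c', hc'X, hc', he⟩ := D.exists_eq_T_mul ht'
  refine ⟨q', hq', c', hc'X, hc', he, ?_⟩
  have hW := D.centW_of_conj hD ht ht' hq' he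
  have hsq : q' * c' * (q' * c') = 1 := by
    rw [← he, show g⁻¹ * t * g * (g⁻¹ * t * g) = g⁻¹ * (t * t) * g by group,
      (D.sq_eq_one_iff ht).2 (D.Sp.Qf_mem_of_iso (h1.inv D) (h1.iso D) htL), mul_one, inv_mul_cancel]
  obtain ⟨hinv, hfix⟩ := D.sq_dec hq' hc'X hc' hsq
  by_cases hne : D.gM c' = 1
  · refine ⟨?_, fun m => by rw [hne, AddMonoid.End.coe_one, id, D.Sp.hM2]; exact zero_mem _⟩
    obtain ⟨u, hu, q0, hq0, heu, hfix0, x2, q2, c2, j, hconj, hπu⟩ := h0.exists_u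
    have hut : u * t = t * u := (D.commute_T_iff hu ht).2 (h1.iso D _ (by
      rw [hπu]; exact Space.AInv.pow_mem D.Sp (h1.inv D) (hside hconj) j) _ htL)
    have hcomm : q0 * c0 * (q' * c') = q' * c' * (q0 * c0) := by
      rw [← heu, ← he]
      calc g⁻¹ * u * g * (g⁻¹ * t * g) = g⁻¹ * (u * t) * g := by group
        _ = g⁻¹ * (t * u) * g := by rw [hut]
        _ = _ := by group
    have h3 := D.comm_π hq0 h0.hcX h0.hc hq' hc'X hc' hcomm
    rw [hne, AddMonoid.End.coe_one, id, add_comm (D.π q')] at h3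
    exact D.mem_Pim_of_fixed h0.hcX h0.hc h0.hW h0.invol h0.hne (add_left_cancel h3)
  · obtain ⟨qz, cz, hz⟩ := D.exists_conj hD.symm.hg hD.symm.hN hx hx1 (hD.symm.left x hx)
    have hcomm : q' * c' * (qz * cz) = qz * cz * (q' * c') := by
      rw [← he, ← hz.heq, inv_inv]
      calc g⁻¹ * t * g * (g⁻¹ * x * g) = g⁻¹ * (t * x) * g := by group
        _ = g⁻¹ * (x * t) * g := by rw [D.W_central hx ht]
        _ = _ := by group
    have h3 := D.comm_π hq' hc'X hc' hz.hq hz.hcX hz.hc hcomm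
    rw [hD.symm.gM_eq_one D hz, AddMonoid.End.coe_one, id, add_comm (D.π qz)] at h3
    have hz' := D.mem_Pim_of_fixed hc'X hc' hW hinv hne (add_left_cancel h3)
    have hiso' := D.Pim_iso hc'X hc' hW hinv
    have hspan := D.Sp.span_inv (D.π qz)
    have hne' := D.Sp.span_ne_bot hz.ne_zero
    have hspiso := D.Sp.B_span (h0.null D hD hz)
    have e1 := D.Sp.line_eq hspan hspiso (D.Pim_inv hc'X hc') hiso' hne'
      (D.Sp.span_le (D.Pim_inv hc'X hc') hz')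
    have e2 := D.Sp.line_eq hspan hspiso (h0.inv D) (h0.iso D) hne'
      (D.Sp.span_le (h0.inv D) (h0.mem_line D hD hz))
    have e3 : D.Pim c' = D.Pim c0 := e1.symm.trans e2
    exact ⟨e3 ▸ D.mem_Pim_of_fixed hc'X hc' hW hinv hne hfix, fun m => e3 ▸ D.mem_Pim.2 ⟨m, rfl⟩⟩

/-- Generators of the subgroup normalized by `T` and `g T g⁻¹`. -/
def dblGens (g c0 c1 : G) : Set G :=
  {t | t ∈ D.T ∧ D.π t ∈ D.Pim c1} ∪ {e | g⁻¹ * e * g ∈ D.T ∧ D.π (g⁻¹ * e * g) ∈ D.Pim c0}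

theorem conj_dblGens {g c0 c1 e : G} (he : e ∈ closure (D.dblGens g c0 c1)) :
    g⁻¹ * e * g ∈ closure (D.dblGens g⁻¹ c1 c0) := by
  have := conj_mem_closure (g := g⁻¹) (K := closure (D.dblGens g⁻¹ c1 c0)) ?_ he
  · simpa using this
  rintro e (⟨h1, h2⟩ | ⟨h1, h2⟩) <;> rw [inv_inv]
  · refine subset_closure (Or.inr ?_)
    simpa [mul_assoc] using And.intro h1 h2
  · exact subset_closure (Or.inl ⟨h1, h2⟩)

theorem dblGens_normalized {g c0 c1 : G} (hD : D.Dbl g) (h0 : D.Flip g c0) (h1 : D.Flip g⁻¹ c1) {x : G}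
    (hx : x ∈ D.W) (hx1 : x ≠ 1) :
    closure (D.dblGens g c0 c1) ≤ D.X ∧ Inv D.α (closure (D.dblGens g c0 c1)) ∧
      D.T ≤ normalizer (closure (D.dblGens g c0 c1) : Set G) := by
  set E := closure (D.dblGens g c0 c1) with hE
  have h0' : D.Flip g⁻¹⁻¹ c0 := by rwa [inv_inv]
  have hdec : ∀ e, g⁻¹ * e * g ∈ D.T → D.π (g⁻¹ * e * g) ∈ D.Pim c0 →
      ∃ q' ∈ D.T, ∃ c' ∈ D.X, D.α c' = c' ∧ e = q' * c' ∧ D.π q' ∈ D.Pim c1 ∧
        ∀ m, D.gM c' m + m ∈ D.Pim c1 := by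
    intro e he heL
    obtain ⟨q', hq', c', hc'X, hc', he', hπ, hm⟩ := D.conj_line hD.symm h1 h0' hx hx1 he heL
    refine ⟨q', hq', c', hc'X, hc', ?_, hπ, hm⟩
    rw [← he']; group
  refine ⟨?_, ?_, ?_⟩
  · rw [hE, closure_le]
    rintro e (⟨he, -⟩ | ⟨he, heL⟩)
    · exact D.T_le_X he
    · obtain ⟨q', hq', c', hc'X, -, rfl, -⟩ := hdec e he heL
      exact mul_mem (D.T_le_X hq') hc'X
  · refine inv_of_forall fun e he => (closure_le (K := E.comap D.α.toMonoidHom)).2 ?_ he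
    rintro e (⟨he, heL⟩ | ⟨he, heL⟩)
    · refine subset_closure (Or.inl ⟨D.T_inv.apply_mem he, ?_⟩)
      show D.π (D.α e) ∈ _
      rw [D.hπα e he]; exact h1.inv D _ heL
    · obtain ⟨q', hq', c', hc'X, hc', rfl, hπ, -⟩ := hdec e he heL
      show D.α (q' * c') ∈ E
      have hαq := D.T_inv.apply_mem hq'
      rw [show D.α (q' * c') = (D.α q' * q'⁻¹) * (q' * c') by rw [map_mul, hc']; group]
      refine mul_mem (subset_closure (Or.inl ⟨D.T.mul_mem hαq (D.T.inv_mem hq'), ?_⟩))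
        (subset_closure (Or.inr ⟨he, heL⟩))
      rw [D.hπ_mul _ hαq _ (D.T.inv_mem hq'), D.π_inv hq', D.hπα _ hq']
      exact AddSubgroup.add_mem _ (h1.inv D _ hπ) hπ
  · intro s hs
    refine mem_normalizer_of_conj_mem fun e he => conj_mem_closure ?_ he
    rintro e (⟨he, heL⟩ | ⟨he, heL⟩)
    · refine subset_closure (Or.inl ⟨D.conj_mem_T (D.T_le_X hs) he, ?_⟩)
      rw [D.hπ_mul _ (D.T.mul_mem hs he) _ (D.T.inv_mem hs), D.hπ_mul s hs e he, D.π_inv hs]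
      rwa [add_right_comm, D.Sp.hM2, zero_add]
    · obtain ⟨q', hq', c', hc'X, hc', rfl, hπ, hm⟩ := hdec e he heL
      have hcs := D.conj_mem_T hc'X (D.T.inv_mem hs)
      have hd := D.T.mul_mem (D.T.mul_mem (D.T.mul_mem hs hq') hcs) (D.T.inv_mem hq')
      rw [show s * (q' * c') * s⁻¹ = (s * q' * (c' * s⁻¹ * c'⁻¹) * q'⁻¹) * (q' * c') by group]
      refine mul_mem (subset_closure (Or.inl ⟨hd, ?_⟩)) (subset_closure (Or.inr ⟨he, heL⟩))
      rw [D.hπ_mul _ (D.T.mul_mem (D.T.mul_mem hs hq') hcs) _ (D.T.inv_mem hq'),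
        D.hπ_mul _ (D.T.mul_mem hs hq') _ hcs, D.hπ_mul s hs q' hq', D.hgM c' hc'X hc' _ (D.T.inv_mem hs),
        D.π_inv hs, D.π_inv hq']
      have e1 : D.π s + D.π q' + D.gM c' (D.π s) + D.π q' = D.gM c' (D.π s) + D.π s := by
        calc _ = D.gM c' (D.π s) + D.π s + (D.π q' + D.π q') := by abel
          _ = _ := by rw [D.Sp.hM2, add_zero]
      rw [e1]
      exact hm _

/-- The double case is impossible. -/
theorem dbl_false {g x : G} (hD : D.Dbl g) (hx : x ∈ D.W) (hx1 : x ≠ 1) : False := by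
  obtain ⟨c0, c1, h0, h1⟩ := D.exists_flips hD hx hx1
  have h0' : D.Flip g⁻¹⁻¹ c0 := by rwa [inv_inv]
  set E := closure (D.dblGens g c0 c1) with hE
  obtain ⟨hEX, hEinv, hTn⟩ := D.dblGens_normalized hD h0 h1 hx hx1
  obtain ⟨-, -, hTn'⟩ := D.dblGens_normalized hD.symm h1 h0' hx hx1
  have hxE : x ∈ E := subset_closure (Or.inl ⟨hx.1, by rw [D.π_W hx]; exact zero_mem _⟩)
  have hNX := D.normalizer_le_Γ hEinv (fun e => hx1 (mem_bot.1 (e ▸ hxE)))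
    (fun e => D.X_ne_top (top_unique (e ▸ hEX))) hTn
  have hconj : ∀ t ∈ D.T, g * t * g⁻¹ ∈ D.X := fun t ht => hD.hN.fwd t ht (hNX (mem_normalizer_of_conj_mem fun e he => by
    have h2 := D.conj_dblGens ((mem_normalizer_iff.1 (hTn' ht) _).1 (D.conj_dblGens he))
    simp only [inv_inv] at h2
    convert h2 using 1
    group))
  -- `T` centralizes the other side
  obtain ⟨qz, cz, hz⟩ := D.exists_conj hD.symm.hg hD.symm.hN hx hx1 (hD.symm.left x hx)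
  have hcz := hD.symm.gM_eq_one D hz
  have horth : ∀ m, D.Sp.B m (D.π qz) ∈ D.Sp.Zs := by
    intro m
    obtain ⟨t, ht, rfl⟩ := D.hπ_surj m
    set d := g * t * g⁻¹ * x * (g * t * g⁻¹)⁻¹ * x⁻¹ with hd
    have hdW : d ∈ D.W := D.comm_mem_W (hconj t ht) hx
    have e : g⁻¹ * d * g = t * qz * t⁻¹ * qz⁻¹ := by
      have e1 : g⁻¹ * d * g = t * (qz * cz) * t⁻¹ * (qz * cz)⁻¹ := by rw [hd, ← hz.heq]; group
      rw [e1]
      calc t * (qz * cz) * t⁻¹ * (qz * cz)⁻¹ = t * qz * (cz * t⁻¹ * cz⁻¹) * qz⁻¹ := by group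
        _ = _ := by rw [D.cent_T_of_gM hz.hcX hz.hc hcz (D.T.inv_mem ht)]
    have hd1 := D.W_disjoint hD.hg hdW (by
      rw [e, D.hcomm t ht qz hz.hq]; simpa [mul_assoc] using D.hω_mem _)
    rw [← D.commute_T_iff ht hz.hq]
    rw [hd1, mul_one, inv_mul_cancel, eq_comm, mul_inv_eq_one, mul_inv_eq_iff_eq_mul] at e
    exact e
  -- so all radicals coincide
  obtain ⟨w, hw⟩ : ∃ y, D.Sp.B (D.π qz) y ≠ 0 := by
    by_contra h; push Not at h; exact hz.ne_zero (D.Sp.B_nondeg h)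
  obtain ⟨χ, hχ, -⟩ := D.Sp.exists_isW hw
  have hB0 : ∀ χ' : Zc →+ ZMod 2, D.Sp.IsW χ' → ∀ y ∈ D.Sp.Rad χ', D.Sp.B (D.π qz) y = 0 := by
    intro χ' hχ' y hy
    refine D.Sp.eq_zero_of_mem_Zs hχ'.1 ?_ ?_
    · rw [D.Sp.B_symm]; exact horth y
    · rw [D.Sp.B_symm]; exact hy _
  have heq : ∀ χ', D.Sp.IsW χ' → D.Sp.Rad χ' = D.Sp.Rad χ := by
    intro χ' hχ'
    by_contra hne
    refine hw ?_
    obtain ⟨a, ha, b, hb, hab⟩ := AddSubgroup.mem_sup.1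
      ((D.Sp.rad_sup_top hχ' hχ hne).symm.le (AddSubgroup.mem_top w))
    rw [← hab, map_add, hB0 χ' hχ' a ha, hB0 χ hχ b hb, add_zero]
  have hbot : D.Sp.Rad χ = ⊥ := (AddSubgroup.eq_bot_iff_forall _).2 fun y hy =>
    D.Sp.rad_sep fun χ' hχ' => (heq χ' hχ').symm ▸ hy
  have hM : Nat.card M = D.Sp.b := by
    have h2 := hχ.2
    rwa [hbot, AddSubgroup.index_bot] at h2
  -- but `1 + c0` has kernel equal to its image
  set f : M →+ M := (D.gM c0 + 1 : AddMonoid.End M) with hf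
  have hne : D.Pim c0 ≠ ⊥ := fun e => h0.hne (DFunLike.ext _ _ fun m =>
    (D.Sp.madd_eq_zero_iff).1 (AddSubgroup.mem_bot.1 (e.le (D.mem_Pim.2 ⟨m, rfl⟩))))
  have hker : f.ker = D.Pim c0 := by
    ext y
    rw [AddMonoidHom.mem_ker]
    constructor
    · intro hy
      exact D.mem_Pim_of_fixed h0.hcX h0.hc h0.hW h0.invol h0.hne ((D.Sp.madd_eq_zero_iff).1 hy)
    · rintro ⟨m, rfl⟩
      show D.gM c0 (D.gM c0 m + m) + (D.gM c0 m + m) = 0
      rw [map_add, h0.invol, add_comm m, D.Sp.hM2]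
  have hcard : f.range = D.Pim c0 := rfl
  have h3 := AddSubgroup.card_mul_index f.ker
  rw [AddSubgroup.index_ker, hker, hcard, (D.Sp.line (h0.inv D) hne (h0.iso D)).1, hM] at h3
  have h4 := D.Sp.four_le_b
  nlinarith

/-- `(M1)`: a normalized element conjugating an involution of `W` into `X` lies in `Γ`. -/
theorem mem_Γ_of_conj_norm {g x : G} (hN : D.Norm g) (hx : x ∈ D.W) (hx1 : x ≠ 1) (hv : g * x * g⁻¹ ∈ D.X) :
    g ∈ D.Γ := by
  by_contra hg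
  obtain ⟨q, c, h⟩ := D.exists_conj hg hN hx hx1 hv
  have hleft : ∀ u ∈ D.W, g * u * g⁻¹ ∈ D.X := fun u hu => D.conj_W_mem_X hg hN hx hx1 hv hu
  obtain ⟨z, hz, hz1, hzc⟩ : ∃ z ∈ D.W, z ≠ 1 ∧ q * c * z = z * (q * c) := by
    by_cases hfix : ∀ z ∈ D.W, q * c * z * (q * c)⁻¹ = z
    · exact ⟨x, hx, hx1, mul_inv_eq_iff_eq_mul.1 (hfix x hx)⟩
    push Not at hfix
    obtain ⟨z, hz, hne⟩ := hfix
    have hvz := D.conj_mem_W h.mem_X hz
    refine ⟨q * c * z * (q * c)⁻¹ * z, D.W.mul_mem hvz hz, fun h1 => hne ?_, mul_inv_eq_iff_eq_mul.1 ?_⟩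
    · rw [mul_eq_one_iff_eq_inv, D.W_inv hz] at h1; exact h1
    · set v := q * c with hvdef
      calc v * (v * z * v⁻¹ * z) * v⁻¹ = (v * v) * z * (v * v)⁻¹ * (v * z * v⁻¹) := by group
        _ = z * (v * z * v⁻¹) := by rw [hvdef, h.sq_one]; group
        _ = v * z * v⁻¹ * z := D.W_comm hz hvz
  have hz' : g⁻¹ * z * g⁻¹⁻¹ ∈ D.X := by rw [inv_inv]; exact (h.commute_iff hz).2 hzc
  refine D.dbl_false ⟨hg, hN, hleft, fun u hu => ?_⟩ hx hx1
  simpa using D.conj_W_mem_X (D.inv_not_mem_Γ hg) (hN.symm D) hz hz1 hz' hu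

/-- `(M1)`: an element conjugating an involution of `W` into `Γ` lies in `Γ`. -/
theorem mem_Γ_of_conj {g x : G} (hx : x ∈ D.W) (hx1 : x ≠ 1) (hv : g * x * g⁻¹ ∈ D.Γ) : g ∈ D.Γ := by
  obtain ⟨k1, hk1, k2, hk2, -, -, hN, hX⟩ := D.exists_norm hx hv
  exact D.mem_Γ_of_mul (D.hKΓ hk2)
    (by simpa [mul_assoc] using mul_mem (inv_mem (D.hKΓ hk1)) (D.mem_Γ_of_conj_norm hN hx hx1 hX))

end GBar

end CfsgLib.FlavellHHS
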