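import Cfsg.Agent.Lib.FlavellHHS.M1Fixed

/-!
An involution of `W` conjugate to a non-fixed element `q c` of `X` by a normalized element `g ∉ Γ`.
-/

set_option autoImplicit false
set_option linter.unusedSectionVars false

namespace CfsgLib.FlavellHHS

open Subgroup CfsgLib.CoprimeCentral CfsgLib.FlavellFpf
open scoped commutatorElement

universe u v w

namespace GBar

variable {G : Type u} [Group G] [Finite G] {M : Type v} [AddCommGroup M] [Finite M] {Zc : Type w}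
  [AddCommGroup Zc] [Finite Zc] {p r : ℕ} (D : GBar G M Zc p r)

/-- `g x g⁻¹ = q c` lies in `X`, with `g ∉ X` and `x ∈ W` an involution. -/
structure Conj (g x q c : G) : Prop where
  hg : g ∉ D.Γ
  hN : D.Norm g
  hx : x ∈ D.W
  hx1 : x ≠ 1
  hq : q ∈ D.T
  hcX : c ∈ D.X
  hc : D.α c = c
  heq : g * x * g⁻¹ = q * c

theorem exists_conj {g x : G} (hg : g ∉ D.Γ) (hN : D.Norm g) (hx : x ∈ D.W) (hx1 : x ≠ 1) (hv : g * x * g⁻¹ ∈ D.X) :
    ∃ q c, D.Conj g x q c := by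
  obtain ⟨q, hq, c, hcX, hc, he⟩ := D.exists_eq_T_mul hv
  exact ⟨q, c, hg, hN, hx, hx1, hq, hcX, hc, he⟩

namespace Conj

variable {D} {g x q c : G} (h : D.Conj g x q c)
include h

theorem mem_X : q * c ∈ D.X := mul_mem (D.T_le_X h.hq) h.hcX

theorem conj_mem : g * x * g⁻¹ ∈ D.X := h.heq ▸ h.mem_X

theorem sq_one : q * c * (q * c) = 1 := by
  rw [← h.heq, show g * x * g⁻¹ * (g * x * g⁻¹) = g * (x * x) * g⁻¹ by group,
    mul_eq_one_iff_eq_inv.2 (D.W_inv h.hx).symm, mul_one, mul_inv_cancel]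

theorem csq : c * c ∈ D.W := by
  have hT : c * c ∈ D.T := by
    have h1 : q * (c * q * c⁻¹) * (c * c) = 1 := by rw [← h.sq_one]; group
    rw [mul_eq_one_iff_inv_eq] at h1
    rw [← h1]
    exact D.T.inv_mem (D.T.mul_mem h.hq (D.conj_mem_T h.hcX h.hq))
  exact ⟨hT, show D.α (c * c) = c * c by rw [map_mul, h.hc]⟩

theorem invol (m : M) : D.gM c (D.gM c m) = m := by
  rw [← D.gM_mul h.hcX h.hc h.hcX h.hc, D.gM_W h.csq]; rfl

theorem fix : D.gM c (D.π q) = D.π q := by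
  have h1 : q * (c * q * c⁻¹) * (c * c) = 1 := by rw [← h.sq_one]; group
  have hcq := D.conj_mem_T h.hcX h.hq
  have h2 := congrArg D.π h1
  rw [D.hπ_mul _ (D.T.mul_mem h.hq hcq) _ h.csq.1, D.hπ_mul _ h.hq _ hcq, D.π_W h.csq, D.π_one, add_zero,
    D.hgM c h.hcX h.hc q h.hq] at h2
  exact ((D.Sp.madd_eq_zero_iff).1 h2).symm

theorem translate {k : G} (hk : k ∈ D.T) :
    D.Conj (k * g) x (k * q * (c * k⁻¹ * c⁻¹)) c ∧
      D.π (k * q * (c * k⁻¹ * c⁻¹)) = D.π q + (D.gM c (D.π k) + D.π k) := by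
  have hck := D.conj_mem_T h.hcX (D.T.inv_mem hk)
  refine ⟨⟨D.mul_not_mem_Γ h.hg (D.T_le_Γ hk), h.hN.mul_left D (D.T_le_X hk), h.hx, h.hx1, D.T.mul_mem (D.T.mul_mem hk h.hq) hck,
    h.hcX, h.hc, ?_⟩, ?_⟩
  · calc k * g * x * (k * g)⁻¹ = k * (g * x * g⁻¹) * k⁻¹ := by group
      _ = _ := by rw [h.heq]; group
  · rw [D.hπ_mul _ (D.T.mul_mem hk h.hq) _ hck, D.hπ_mul k hk q h.hq, D.hgM c h.hcX h.hc _ (D.T.inv_mem hk),
      D.π_inv hk]
    abel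

theorem not_mem_Pim : D.π q ∉ D.Pim c := by
  intro hP
  obtain ⟨m, hm⟩ := D.mem_Pim.1 hP
  obtain ⟨k, hk, rfl⟩ := D.hπ_surj m
  obtain ⟨h', hπ⟩ := h.translate hk
  rw [hm, D.Sp.hM2] at hπ
  have hW := D.mem_W_of_π h'.hq hπ
  refine h'.hg (D.mem_Γ_of_conj_fixed h'.hx h'.hx1 (D.hXΓ h'.conj_mem) ?_)
  have hWf : D.α (k * q * (c * k⁻¹ * c⁻¹)) = k * q * (c * k⁻¹ * c⁻¹) := hW.2
  rw [h'.heq, map_mul, h'.hc, hWf]

theorem ne_zero : D.π q ≠ 0 := fun e => h.not_mem_Pim (e ▸ (D.Pim c).zero_mem)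

/-- The elements of `W` centralized by `g x g⁻¹` are those in `g X g⁻¹`. -/
theorem commute_iff {z : G} (hz : z ∈ D.W) : g⁻¹ * z * g ∈ D.X ↔ q * c * z = z * (q * c) := by
  constructor
  · intro hz'
    have hd : q * c * z * (q * c)⁻¹ * z⁻¹ ∈ D.W := D.comm_mem_W h.mem_X hz
    have e : g⁻¹ * (q * c * z * (q * c)⁻¹ * z⁻¹) * g =
        x * ((g⁻¹ * z * g) * x⁻¹ * (g⁻¹ * z * g)⁻¹) := by rw [← h.heq]; group
    have h1 := D.W_disjoint h.hg hd (e ▸ D.W.mul_mem h.hx (D.conj_mem_W hz' (D.W.inv_mem h.hx)))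
    rwa [mul_inv_eq_one, mul_inv_eq_iff_eq_mul] at h1
  · intro hzc
    refine h.hN.bwd z hz.1 (D.mem_Γ_of_commute h.hx h.hx1 ?_)
    calc g⁻¹ * z * g * x = g⁻¹ * (z * (g * x * g⁻¹)) * g := by group
      _ = g⁻¹ * (g * x * g⁻¹ * z) * g := by rw [h.heq, hzc]
      _ = x * (g⁻¹ * z * g) := by group

theorem commute_iff_c {z : G} (hz : z ∈ D.W) : q * c * z = z * (q * c) ↔ c * z * c⁻¹ = z := by
  rw [mul_inv_eq_iff_eq_mul, ← mul_assoc z, D.W_central hz h.hq, mul_assoc, mul_assoc, mul_right_inj]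

theorem gM_eq_one (hall : ∀ z ∈ D.W, g⁻¹ * z * g ∈ D.X) : D.gM c = 1 := by
  by_contra hne
  have hW : D.CentW c := fun z hz => (h.commute_iff_c hz).1 ((h.commute_iff hz).1 (hall z hz))
  exact h.not_mem_Pim (D.mem_Pim_of_fixed h.hcX h.hc hW h.invol hne h.fix)

/-- The elements of `T` centralized by `g x g⁻¹` are those in `g X g⁻¹`. -/
theorem T_commute_iff {y : G} (hy : y ∈ D.T) : g⁻¹ * y * g ∈ D.X ↔ q * c * y = y * (q * c) := by
  constructor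
  · intro hy'
    set d := q * c * y * (q * c)⁻¹ * y⁻¹ with hd
    have hdT : d ∈ D.T := D.T.mul_mem (D.conj_mem_T h.mem_X hy) (D.T.inv_mem hy)
    have e : g⁻¹ * d * g = x * ((g⁻¹ * y * g) * x⁻¹ * (g⁻¹ * y * g)⁻¹) := by
      rw [hd, ← h.heq]; group
    have hdW : g⁻¹ * d * g ∈ D.W := e ▸ D.W.mul_mem h.hx (D.conj_mem_W hy' (D.W.inv_mem h.hx))
    rcases eq_or_ne d 1 with h1 | hd1
    · rwa [hd, mul_inv_eq_one, mul_inv_eq_iff_eq_mul] at h1
    have hall : ∀ z ∈ D.W, g⁻¹ * z * g ∈ D.X := fun z hz => by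
      refine h.hN.bwd z hz.1 (D.mem_Γ_of_commute hdW (fun h1 => hd1 ?_) ?_)
      · calc d = g * (g⁻¹ * d * g) * g⁻¹ := by group
          _ = 1 := by rw [h1]; group
      · calc g⁻¹ * z * g * (g⁻¹ * d * g) = g⁻¹ * (z * d) * g := by group
          _ = g⁻¹ * (d * z) * g := by rw [D.W_central hz hdT]
          _ = _ := by group
    have hW : D.CentW c := fun z hz => (h.commute_iff_c hz).1 ((h.commute_iff hz).1 (hall z hz))
    have hcy : c * y * c⁻¹ = y := D.comm_of_fixed h.hcX h.hc hW hy (by rw [h.gM_eq_one hall]; rfl)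
    have hdd : d = q * y * q⁻¹ * y⁻¹ := by
      calc d = q * (c * y * c⁻¹) * q⁻¹ * y⁻¹ := by rw [hd]; group
        _ = _ := by rw [hcy]
    have hdW' : d ∈ D.W := by
      rw [hdd, D.hcomm q h.hq y hy]; simpa [mul_assoc] using D.hω_mem _
    exact absurd (D.W_disjoint h.hg hdW' hdW) hd1
  · intro hyc
    refine h.hN.bwd y hy (D.mem_Γ_of_commute h.hx h.hx1 ?_)
    calc g⁻¹ * y * g * x = g⁻¹ * (y * (g * x * g⁻¹)) * g := by group
      _ = g⁻¹ * (g * x * g⁻¹ * y) * g := by rw [h.heq, hyc]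
      _ = x * (g⁻¹ * y * g) := by group

/-- If some element of `W` is not conjugated into `X` by `g`, the centralizer in `T` has exponent two. -/
theorem sq_eq_one (hA : ∃ u ∈ D.W, g * u * g⁻¹ ∉ D.X) {y : G} (hy : y ∈ D.T)
    (hyc : q * c * y = y * (q * c)) : y * y = 1 := by
  by_contra hz1
  have hz : y * y ∈ D.W := D.sq_mem_W hy
  set y' := g⁻¹ * y * g with hy'
  have hy'X : y' ∈ D.X := (h.T_commute_iff hy).2 hyc
  have hz' : g⁻¹ * (y * y) * g⁻¹⁻¹ ∈ D.X := by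
    rw [inv_inv, show g⁻¹ * (y * y) * g = y' * y' by rw [hy']; group]
    exact mul_mem hy'X hy'X
  obtain ⟨q₂, c₂, h₂⟩ := D.exists_conj (D.inv_not_mem_Γ h.hg) (h.hN.symm D) hz hz1 hz'
  have hzz : q₂ * c₂ = y' * y' := by rw [← h₂.heq, hy']; group
  have hAg : ∀ u ∈ D.W, (g * u * g⁻¹ ∈ D.X ↔ y' * y' * u = u * (y' * y')) := fun u hu => by
    have h1 := h₂.commute_iff hu
    rwa [inv_inv, hzz] at h1
  have hcomm : ∀ u ∈ D.W, g * u * g⁻¹ ∈ D.X → y' * u * y'⁻¹ = u := by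
    intro u hu huX
    rcases eq_or_ne u 1 with rfl | hu1
    · simp
    obtain ⟨q₃, c₃, h₃⟩ := D.exists_conj h.hg h.hN hu hu1 huX
    have h4 := (h₃.T_commute_iff hy).1 hy'X
    rw [← h₃.heq] at h4
    calc y' * u * y'⁻¹ = g⁻¹ * (y * (g * u * g⁻¹)) * y⁻¹ * g := by rw [hy']; group
      _ = u := by rw [← h4]; group
  -- the commutator with `y'`
  let f : G → G := fun u => y' * u * y'⁻¹ * u⁻¹
  have hfW : ∀ u ∈ D.W, f u ∈ D.W := fun u hu => D.comm_mem_W hy'X hu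
  have hff : ∀ u ∈ D.W, y' * y' * u * (y' * y')⁻¹ = f (f u) * u := by
    intro u hu
    have he := hfW u hu
    calc y' * y' * u * (y' * y')⁻¹ = y' * (f u * u) * y'⁻¹ := by simp only [f]; group
      _ = f (f u) * (f u * (f u * u)) := by simp only [f]; group
      _ = f (f u) * u := by rw [← mul_assoc (f u) (f u), mul_eq_one_iff_eq_inv.2 (D.W_inv he).symm, one_mul]
  have hstep : ∀ u ∈ D.W, g * u * g⁻¹ ∉ D.X → g * f u * g⁻¹ ∉ D.X := by
    intro u hu hnu hfu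
    refine hnu ((hAg u hu).2 (mul_inv_eq_iff_eq_mul.1 ?_))
    rw [hff u hu, show f (f u) = 1 by simp only [f] at hfu ⊢; rw [hcomm _ (hfW u hu) hfu, mul_inv_cancel],
      one_mul]
  obtain ⟨u, hu, hnu⟩ := hA
  have hffu := hfW _ (hfW u hu)
  refine hstep _ (hfW u hu) (hstep u hu hnu) ((hAg _ hffu).2 (mul_inv_eq_iff_eq_mul.1 ?_))
  set z' := y' * y' with hz'def
  have hzz1 : z' * z' = 1 := by
    rw [hz'def, hy', show g⁻¹ * y * g * (g⁻¹ * y * g) * (g⁻¹ * y * g * (g⁻¹ * y * g)) =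
      g⁻¹ * (y * y * (y * y)) * g by group, mul_eq_one_iff_eq_inv.2 (D.W_inv hz).symm, mul_one, inv_mul_cancel]
  have e : f (f u) = z' * u * z'⁻¹ * u⁻¹ := by rw [hff u hu]; group
  have hzu : z' * u * z'⁻¹ ∈ D.W := hz'def.symm ▸ D.conj_mem_W (mul_mem hy'X hy'X) hu
  calc z' * f (f u) * z'⁻¹ = (z' * z') * u * (z' * z')⁻¹ * (z' * u * z'⁻¹)⁻¹ := by rw [e]; group
    _ = u⁻¹ * (z' * u * z'⁻¹) := by rw [hzz1, D.W_inv hzu, D.W_inv hu]; group
    _ = z' * u * z'⁻¹ * u⁻¹ := D.W_comm (D.W.inv_mem hu) hzu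
    _ = f (f u) := e.symm

theorem π_pow (j : ℕ) : (D.α ^ j) q ∈ D.T ∧ D.π ((D.α ^ j) q) = (D.Sp.a ^ j) (D.π q) := by
  induction j with
  | zero => exact ⟨by simpa using h.hq, by simp⟩
  | succ j ih =>
    rw [pow_succ', pow_succ', MulAut.mul_apply, AddMonoid.End.coe_mul, Function.comp_apply]
    exact ⟨D.T_inv.apply_mem ih.1, by rw [D.hπα _ ih.1, ih.2]⟩

/-- If the centralizer in `T` has exponent two, the conjugate spans an isotropic subgroup. -/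
theorem null (hsq : ∀ y ∈ D.T, q * c * y = y * (q * c) → y * y = 1) :
    ∀ k : ℕ, D.Sp.B (D.π q) ((D.Sp.a ^ k) (D.π q)) ∈ D.Sp.Zs := by
  intro k
  set x' := D.π q
  set j := k * (2 ^ (D.Sp.n - 1) + 1)
  set i := 2 ^ D.Sp.n * j
  obtain ⟨hj, hπj⟩ := h.π_pow j
  obtain ⟨hi, hπi⟩ := h.π_pow i
  set s := q⁻¹ * (c * q * c⁻¹) with hs
  have hsW : s ∈ D.W := (D.π_eq_iff h.hq (D.conj_mem_T h.hcX h.hq)).1
    (by rw [D.hgM c h.hcX h.hc q h.hq, h.fix])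
  have hconj : ∀ l : ℕ, c * (D.α ^ l) q * c⁻¹ = (D.α ^ l) q * s := by
    intro l
    have e : (D.α ^ l) (c * q * c⁻¹) = (D.α ^ l) (q * s) := by rw [hs, mul_inv_cancel_left]
    rw [map_mul, map_mul, map_mul, map_inv, pow_apply_of_fixed h.hc,
      pow_apply_of_fixed (show D.α s = s from hsW.2)] at e
    exact e
  have hper : ∀ l : ℕ, D.Sp.a ^ ((2 ^ D.Sp.n + 1) * l) = 1 := fun l => by rw [pow_mul, D.Sp.har, one_pow]
  have hsum : D.Sp.B x' ((D.Sp.a ^ j) x') = D.Sp.B x' ((D.Sp.a ^ i) x') := by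
    rw [← D.Sp.B_pow_pow x' x' i j, show i + j = (2 ^ D.Sp.n + 1) * j by rw [add_mul, one_mul],
      hper, D.Sp.B_symm]
    rfl
  set y := (D.α ^ j) q * (D.α ^ i) q with hy
  have hyT : y ∈ D.T := D.T.mul_mem hj hi
  have hπy : D.π y = (D.Sp.a ^ j) x' + (D.Sp.a ^ i) x' := by rw [D.hπ_mul _ hj _ hi, hπj, hπi]
  have hqy : q * y = y * q := (D.commute_T_iff h.hq hyT).2 (by
    rw [hπy, map_add, hsum, D.Sp.hZ2]; exact D.Sp.Zs.zero_mem)
  have hcy : c * y * c⁻¹ = y := by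
    calc c * y * c⁻¹ = (c * (D.α ^ j) q * c⁻¹) * (c * (D.α ^ i) q * c⁻¹) := by rw [hy]; group
      _ = (D.α ^ j) q * (s * (D.α ^ i) q) * s := by rw [hconj, hconj]; group
      _ = (D.α ^ j) q * ((D.α ^ i) q * s) * s := by rw [D.W_central hsW hi]
      _ = y * (s * s) := by rw [hy]; group
      _ = y := by rw [mul_eq_one_iff_eq_inv.2 (D.W_inv hsW).symm, mul_one]
  have hcomm : q * c * y = y * (q * c) := by
    rw [mul_inv_eq_iff_eq_mul] at hcy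
    rw [mul_assoc, hcy, ← mul_assoc, hqy, mul_assoc]
  have h1 := (D.sq_eq_one_iff hyT).1 (hsq y hyT hcomm)
  rw [hπy, D.Sp.hQ] at h1
  have hQa : ∀ l : ℕ, D.Sp.Qf ((D.Sp.a ^ l) x') = D.Sp.Qf x' := by
    intro l
    induction l with
    | zero => simp
    | succ l ih => rw [pow_succ', AddMonoid.End.coe_mul, Function.comp_apply, D.Sp.hQinv, ih]
  rw [hQa, hQa, D.Sp.hZ2, zero_add] at h1
  have e : (D.Sp.a ^ j) x' = (D.Sp.a ^ (i + 2 * j)) x' := by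
    rw [show i + 2 * j = (2 ^ D.Sp.n + 1) * j + j by ring, pow_add, hper, one_mul]
  have ek : (D.Sp.a ^ (2 * j)) x' = (D.Sp.a ^ k) x' := by
    have e2 : 2 * j = (2 ^ D.Sp.n + 1) * k + k := by
      have : 2 * 2 ^ (D.Sp.n - 1) = 2 ^ D.Sp.n := by rw [← pow_succ', Nat.sub_add_cancel D.Sp.hn]
      calc 2 * j = k * (2 * 2 ^ (D.Sp.n - 1)) + 2 * k := by ring
        _ = _ := by rw [this]; ring
    rw [e2, pow_add, hper, one_mul]
  rwa [e, D.Sp.B_symm, D.Sp.B_pow_pow, ek] at h1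

/-- If some element of `W` is not conjugated into `X`, the fixed part acts trivially on `M`. -/
theorem gM_eq_one_of_ne (hA : ∃ u ∈ D.W, g * u * g⁻¹ ∉ D.X) : D.gM c = 1 := by
  by_contra hne
  have hP := D.Pim_inv h.hcX h.hc
  have hnull : ∀ p ∈ D.Pim c, ∀ k : ℕ, D.Sp.B (D.π q + p) ((D.Sp.a ^ k) (D.π q + p)) ∈ D.Sp.Zs := by
    intro p hp
    obtain ⟨m, rfl⟩ := D.mem_Pim.1 hp
    obtain ⟨k, hk, rfl⟩ := D.hπ_surj m
    obtain ⟨h', hπ⟩ := h.translate hk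
    have hA' : ∃ u ∈ D.W, k * g * u * (k * g)⁻¹ ∉ D.X := by
      obtain ⟨u, hu, hnu⟩ := hA
      refine ⟨u, hu, fun h1 => hnu ((D.conj_mem_X_iff (D.T_le_X hk)).1 ?_)⟩
      convert h1 using 1; group
    have := h'.null fun y hy => h'.sq_eq_one hA' hy
    rwa [hπ] at this
  obtain ⟨hPiso, hxP⟩ := D.Sp.iso_of_translates hP fun p hp => by simpa using hnull p hp 1
  have hLiso := D.Sp.B_span (x := D.π q) (y := D.π q) fun k => by
    simpa using hnull 0 (D.Pim c).zero_mem k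
  have hle : D.Pim c ≤ D.Sp.span (D.π q) := fun p hp =>
    D.Sp.orth (D.Sp.span_inv _) (D.Sp.span_ne_bot h.ne_zero) hLiso fun e he => by
      have h1 := D.Sp.B_span (x := D.π q) (y := p) (W := D.Sp.Zs)
        (fun k => hxP _ (Space.AInv.pow_mem D.Sp hP hp k)) e he p (D.Sp.mem_span_self p)
      rwa [D.Sp.B_symm]
  have hPne : D.Pim c ≠ ⊥ := fun e => hne (DFunLike.ext _ _ fun m =>
    (D.Sp.madd_eq_zero_iff).1 (AddSubgroup.mem_bot.1 (e.le (D.mem_Pim.2 ⟨m, rfl⟩))))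
  exact h.not_mem_Pim ((D.Sp.line_eq hP hPiso (D.Sp.span_inv _) hLiso hPne hle).symm ▸ D.Sp.mem_span_self _)

end Conj

end GBar

end CfsgLib.FlavellHHS
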