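import Cfsg.Agent.Lib.FlavellHHS.GBar

/-!
An element conjugating an involution of `W` to a fixed element of `Γ` lies in `Γ`.
-/

set_option autoImplicit false
set_option linter.unusedSectionVars false

namespace CfsgLib.FlavellHHS

open Subgroup CfsgLib.CoprimeCentral CfsgLib.FlavellFpf
open scoped commutatorElement

universe u v w

namespace GBar

variable {G : Type u} [Group G] [Finite G] {M : Type v} [AddCommGroup M] [Finite M] {Zc : Type w}
  [AddCommGroup Zc] [Finite Zc] {p r : ℕ} (D : GBar G M Zc p r)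

theorem conj_mem_X_iff {g x : G} (hg : g ∈ D.X) : g * x * g⁻¹ ∈ D.X ↔ x ∈ D.X :=
  ⟨fun h => by simpa [mul_assoc] using mul_mem (mul_mem (inv_mem hg) h) hg,
    fun h => mul_mem (mul_mem hg h) (inv_mem hg)⟩

/-- Replacing a conjugating element by a fixed one. -/
theorem exists_fixed_conjugator {g x : G} (hx : x ∈ D.W) (hx1 : x ≠ 1) (hv : D.α (g * x * g⁻¹) = g * x * g⁻¹) :
    ∃ k ∈ D.Γ, D.α (g * k) = g * k ∧ g * k * x * (g * k)⁻¹ = g * x * g⁻¹ := by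
  have hxf : D.α x = x := hx.2
  have hcomm : g⁻¹ * D.α g * x = x * (g⁻¹ * D.α g) := by
    rw [map_mul, map_mul, map_inv, hxf] at hv
    calc g⁻¹ * D.α g * x = g⁻¹ * (D.α g * x * (D.α g)⁻¹) * D.α g := by group
      _ = g⁻¹ * (g * x * g⁻¹) * D.α g := by rw [hv]
      _ = _ := by group
  obtain ⟨hi, -, -⟩ := D.W_normalizes_cv hx
  obtain ⟨k, hk, hgk⟩ := exists_fixed_in_coset D.hr D.hαr D.hrG hi (mem_centralizer_singleton_iff.2 hcomm)
  have hkx : k * x = x * k := mem_centralizer_singleton_iff.1 hk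
  refine ⟨k, D.mem_Γ_of_commute hx hx1 hkx, hgk, ?_⟩
  calc g * k * x * (g * k)⁻¹ = g * (k * x) * k⁻¹ * g⁻¹ := by group
    _ = g * x * g⁻¹ := by rw [hkx]; group

theorem inv_not_mem_Γ {g : G} (hg : g ∉ D.Γ) : g⁻¹ ∉ D.Γ := fun h => hg (by simpa using inv_mem h)

theorem mul_not_mem_Γ {g k : G} (hg : g ∉ D.Γ) (hk : k ∈ D.Γ) : k * g ∉ D.Γ := fun h =>
  hg (by simpa [mul_assoc] using mul_mem (inv_mem hk) h)

theorem mem_Γ_of_mul {g k : G} (hk : k ∈ D.Γ) (h : g * k ∈ D.Γ) : g ∈ D.Γ := by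
  simpa [mul_assoc] using mul_mem h (inv_mem hk)

/-- An element conjugating an involution of `W` into `W` lies in `Γ`. -/
theorem mem_Γ_of_conj_W {g x : G} (hx : x ∈ D.W) (hx1 : x ≠ 1) (hv : g * x * g⁻¹ ∈ D.W) : g ∈ D.Γ := by
  obtain ⟨k, hk, hc, he⟩ := D.exists_fixed_conjugator hx hx1 hv.2
  refine D.mem_Γ_of_mul hk (D.fixed_mem_Γ hc fun t ht => D.mem_Γ_of_commute hv (fun h => hx1 ?_) ?_)
  · rw [← he] at h
    exact conj_eq_one_iff.1 h
  · rw [← he]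
    calc g * k * t * (g * k)⁻¹ * (g * k * x * (g * k)⁻¹) = g * k * (t * x) * (g * k)⁻¹ := by group
      _ = g * k * (x * t) * (g * k)⁻¹ := by rw [D.W_central hx ht]
      _ = _ := by group

theorem W_disjoint {g : G} (hg : g ∉ D.Γ) {x : G} (hx : x ∈ D.W) (hx' : g⁻¹ * x * g ∈ D.W) : x = 1 := by
  by_contra hx1
  refine hg (D.mem_Γ_of_conj_W hx' (fun h => hx1 ?_) (by simpa [mul_assoc] using hx))
  calc x = g * (g⁻¹ * x * g) * g⁻¹ := by group
    _ = 1 := by rw [h]; group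

/-- The common part of `T` and `c T c⁻¹`. -/
noncomputable def U (c : G) : Subgroup G := moved D.α (D.T ⊓ D.T.map (MulAut.conj c).toMonoidHom)

/-- The generators of the subgroup normalized by `T` and `c T c⁻¹`. -/
def gensE (c : G) : Set G :=
  (D.U c : Set G) ∪ {x | x ∈ D.W ∧ c⁻¹ * x * c ∈ D.X} ∪ {x | c⁻¹ * x * c ∈ D.W ∧ x ∈ D.X}

variable {D}

theorem mem_map_conj {c x : G} {L : Subgroup G} :
    x ∈ L.map (MulAut.conj c).toMonoidHom ↔ c⁻¹ * x * c ∈ L := by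
  constructor
  · rintro ⟨y, hy, rfl⟩; simpa [MulAut.conj_apply, mul_assoc] using hy
  · intro h; exact ⟨_, h, by simp [MulAut.conj_apply, mul_assoc]⟩

variable (D)

theorem inv_T_conj {c : G} (hc : D.α c = c) : Inv D.α (D.T.map (MulAut.conj c).toMonoidHom) := by
  refine inv_of_forall ?_
  rintro _ ⟨t, ht, rfl⟩
  exact ⟨D.α t, D.T_inv.apply_mem ht, by simp [MulAut.conj_apply, hc]⟩

theorem U_le {c : G} (hc : D.α c = c) : D.U c ≤ D.T ⊓ D.T.map (MulAut.conj c).toMonoidHom :=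
  moved_le (D.T_inv.inf (D.inv_T_conj hc))

theorem displacement_congr {n s : G} (hn : n ∈ D.T) (hs : s ∈ D.T) (h : D.π n = D.π s) :
    n⁻¹ * D.α n = s⁻¹ * D.α s := by
  have hw := (D.π_eq_iff hs hn).1 h.symm
  set w := s⁻¹ * n with hwdef
  have hwf : D.α w = w := hw.2
  have hsT : s⁻¹ * D.α s ∈ D.T := D.T.mul_mem (D.T.inv_mem hs) (D.T_inv.apply_mem hs)
  calc n⁻¹ * D.α n = (s * w)⁻¹ * D.α (s * w) := by rw [hwdef, mul_inv_cancel_left]
    _ = w⁻¹ * ((s⁻¹ * D.α s) * w) := by rw [map_mul, hwf]; group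
    _ = _ := by rw [← D.W_central hw hsT, inv_mul_cancel_left]

/-- A fixed point is the displacement of an element centralizing the fixed element. -/
theorem exists_lift' {v : G} (hvX : v ∈ D.X) (hv : D.α v = v) {m : M} (hm : D.gM v m = m) :
    ∃ s ∈ D.T, v * s = s * v ∧ D.gM v (D.π s) = D.π s ∧ D.π (s⁻¹ * D.α s) = m := by
  obtain ⟨t, ht, hπ, -, n, hn, hnfix, rfl⟩ := D.exists_lift hvX hv hm
  obtain ⟨s, hs, hπs, hcs, -⟩ := D.exists_lift hvX hv hnfix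
  refine ⟨s, hs, mul_inv_eq_iff_eq_mul.1 hcs, hπs ▸ hnfix, ?_⟩
  rwa [D.displacement_congr hs hn hπs]

theorem fixed_conj {c x : G} (hc : D.α c = c) (hx : x ∈ D.W) : D.α (c * x * c⁻¹) = c * x * c⁻¹ := by
  have hxf : D.α x = x := hx.2
  rw [map_mul, map_mul, map_inv, hc, hxf]

theorem mem_X_of_commute_conj {c x y : G} (hN : D.Norm c) (hx : x ∈ D.W) (hx1 : x ≠ 1) (hyT : y ∈ D.T)
    (hy : c * x * c⁻¹ * y = y * (c * x * c⁻¹)) : c⁻¹ * y * c ∈ D.X := by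
  refine hN.bwd y hyT (D.mem_Γ_of_commute hx hx1 ?_)
  calc c⁻¹ * y * c * x = c⁻¹ * (y * (c * x * c⁻¹)) * c := by group
    _ = c⁻¹ * (c * x * c⁻¹ * y) * c := by rw [hy]
    _ = x * (c⁻¹ * y * c) := by group

/-- The image of `U` is the fixed space of every conjugate of `W` in `X`. -/
theorem exists_mem_U {c x : G} (hc : D.α c = c) (hN : D.Norm c) (hx : x ∈ D.W) (hx1 : x ≠ 1) (hv : c * x * c⁻¹ ∈ D.X)
    {m : M} (hm : D.gM (c * x * c⁻¹) m = m) : ∃ u ∈ D.U c, D.π u = m := by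
  obtain ⟨s, hs, -, hsfix, hsm⟩ := D.exists_lift' hv (D.fixed_conj hc hx) hm
  refine ⟨s⁻¹ * D.α s, ?_, hsm⟩
  obtain ⟨s', hs', hs'v, -, hs'm⟩ := D.exists_lift' hv (D.fixed_conj hc hx) hsfix
  have hd : s'⁻¹ * D.α s' ∈ D.T := D.T.mul_mem (D.T.inv_mem hs') (D.T_inv.apply_mem hs')
  rw [D.displacement_congr hs hd hs'm.symm]
  refine mem_moved ⟨hd, mem_map_conj.2 ?_⟩
  have h1 := D.displacement_mem_T (D.mem_X_of_commute_conj hN hx hx1 hs' hs'v)
  rw [map_mul, map_mul, map_inv, hc] at h1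
  convert h1 using 1
  group

theorem U_fixed {c x u : G} (hc : D.α c = c) (hx : x ∈ D.W) (hv : c * x * c⁻¹ ∈ D.X) (hu : u ∈ D.U c) :
    D.gM (c * x * c⁻¹) (D.π u) = D.π u := by
  obtain ⟨huT, huc⟩ := D.U_le hc hu
  replace huc := mem_map_conj.1 huc
  rw [← D.hgM _ hv (D.fixed_conj hc hx) u huT]
  congr 1
  calc c * x * c⁻¹ * u * (c * x * c⁻¹)⁻¹ = c * (x * (c⁻¹ * u * c) * x⁻¹) * c⁻¹ := by group
    _ = c * (c⁻¹ * u * c) * c⁻¹ := by rw [D.W_central hx huc, mul_inv_cancel_right]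
    _ = u := by group

theorem U_iso {c u u' : G} (hc : D.α c = c) (hcX : c ∉ D.Γ) (hu : u ∈ D.U c) (hu' : u' ∈ D.U c) :
    D.Sp.B (D.π u) (D.π u') ∈ D.Sp.Zs := by
  obtain ⟨huT, huc⟩ := D.U_le hc hu
  obtain ⟨hu'T, hu'c⟩ := D.U_le hc hu'
  replace huc := mem_map_conj.1 huc
  replace hu'c := mem_map_conj.1 hu'c
  rw [← D.hω_one]
  refine D.W_disjoint hcX (D.hω_mem _) ?_
  have h1 := D.hcomm _ huc _ hu'c
  have h2 := D.hcomm u huT u' hu'T
  have e : c⁻¹ * D.ω (D.Sp.B (D.π u) (D.π u')) * c =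
      D.ω (D.Sp.B (D.π (c⁻¹ * u * c)) (D.π (c⁻¹ * u' * c))) := by
    rw [← mul_inv_eq_iff_eq_mul] at h1 h2
    rw [← h1, ← h2]; group
  rw [e]; exact D.hω_mem _

/-- The main step: a generator of `T` normalizes the subgroup generated by `gensE`. -/
theorem displacement_normalizes {c x : G} (hc : D.α c = c) (hcX : c ∉ D.Γ) (hN : D.Norm c) (hx : x ∈ D.W) (hx1 : x ≠ 1)
    (hv : c * x * c⁻¹ ∈ D.X) {y : G} (hy : y ∈ D.T) :
    y⁻¹ * D.α y ∈ normalizer (closure (D.gensE c) : Set G) := by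
  set E := closure (D.gensE c) with hE
  set t := y⁻¹ * D.α y with htdef
  have ht : t ∈ D.T := D.T.mul_mem (D.T.inv_mem hy) (D.T_inv.apply_mem hy)
  have hUc : ∀ u ∈ D.U c, t * u * t⁻¹ ∈ E := by
    intro u hu
    obtain ⟨huT, -⟩ := D.U_le hc hu
    have e1 : t * u * t⁻¹ = D.ω (D.Sp.B (D.π t) (D.π u)) * u := by
      rw [D.hcomm t ht u huT]; group
    rw [e1]
    refine mul_mem (subset_closure (Or.inl (Or.inr ⟨D.hω_mem _, D.mem_X_of_commute_conj hN hx hx1 (D.hω_mem _).1 ?_⟩)))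
      (subset_closure (Or.inl (Or.inl hu)))
    have hvf := D.fixed_conj hc hx
    rw [← mul_inv_eq_iff_eq_mul, D.hgZ _ hv hvf, D.ω_eq_iff, D.hB _ hv hvf, D.U_fixed hc hx hv hu]
    have h2 : D.gM (c * x * c⁻¹) (D.gM (c * x * c⁻¹) (D.π t)) = D.π t := by
      rw [← D.gM_mul hv hvf hv hvf]
      have e2 : c * x * c⁻¹ * (c * x * c⁻¹) = 1 := by
        calc c * x * c⁻¹ * (c * x * c⁻¹) = c * (x * x) * c⁻¹ := by group
          _ = 1 := by rw [mul_eq_one_iff_eq_inv.2 (D.W_inv hx).symm, mul_one, mul_inv_cancel]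
      rw [e2, D.gM_W D.W.one_mem]; rfl
    obtain ⟨u', hu', hπu'⟩ := D.exists_mem_U hc hN hx hx1 hv (m := D.gM (c * x * c⁻¹) (D.π t) + D.π t)
      (by rw [map_add, h2, add_comm])
    have := D.U_iso hc hcX hu' hu
    rwa [hπu', map_add, AddMonoidHom.add_apply] at this
  refine mem_normalizer_of_conj_mem fun e he => conj_mem_closure ?_ he
  rintro e ((hu | ⟨hz, hz'⟩) | ⟨hb, hbX⟩)
  · exact hUc e hu
  · rw [D.conj_T_W ht hz]
    exact subset_closure (Or.inl (Or.inr ⟨hz, hz'⟩))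
  · rcases eq_or_ne e 1 with rfl | he1
    · simp [E.one_mem]
    set x' := c⁻¹ * e * c with hx'
    have hx'1 : x' ≠ 1 := fun h => he1 (by
      calc e = c * x' * c⁻¹ := by rw [hx']; group
        _ = 1 := by rw [h]; group)
    have hce : c * x' * c⁻¹ = e := by rw [hx']; group
    have hef : D.α e = e := hce ▸ D.fixed_conj hc hb
    have hee : e * e = 1 := by
      rw [← hce, show c * x' * c⁻¹ * (c * x' * c⁻¹) = c * (x' * x') * c⁻¹ by group,
        mul_eq_one_iff_eq_inv.2 (D.W_inv hb).symm, mul_one, mul_inv_cancel]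
    obtain ⟨u, hu, hπu⟩ := D.exists_mem_U hc hN hb hx'1 (hce ▸ hbX) (m := D.gM e (D.π y) + D.π y) (by
      rw [hce, map_add, ← D.gM_mul hbX hef hbX hef, hee, D.gM_W D.W.one_mem, add_comm]; rfl)
    obtain ⟨huT, -⟩ := D.U_le hc hu
    have hey := D.conj_mem_T hbX hy
    have hyu := D.T.mul_mem hy huT
    have h1 : (e * y * e⁻¹)⁻¹ * D.α (e * y * e⁻¹) = (y * u)⁻¹ * D.α (y * u) := by
      refine D.displacement_congr hey hyu ?_
      rw [D.hgM e hbX hef y hy, D.hπ_mul y hy u huT, hπu, add_left_comm, D.Sp.hM2, add_zero]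
    have h2 : e * t * e⁻¹ = u⁻¹ * t * D.α u := by
      calc e * t * e⁻¹ = (e * y * e⁻¹)⁻¹ * D.α (e * y * e⁻¹) := by
            rw [htdef, map_mul, map_mul, map_inv, hef]; group
        _ = _ := by rw [h1, htdef, map_mul]; group
    have h3 : t * e * t⁻¹ = (t * (D.α u)⁻¹ * t⁻¹) * u * e := by
      calc t * e * t⁻¹ = t * (e * t * e⁻¹)⁻¹ * e := by group
        _ = _ := by rw [h2]; group
    rw [h3]
    exact mul_mem (mul_mem (hUc _ ((D.U c).inv_mem
      ((inv_moved (D.T_inv.inf (D.inv_T_conj hc))).apply_mem hu)))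
      (subset_closure (Or.inl (Or.inl hu)))) (subset_closure (Or.inr ⟨hb, hbX⟩))

theorem U_le_conj_inv {c : G} (hc : D.α c = c) :
    ∀ u ∈ D.U c, c⁻¹ * u * c ∈ D.U c⁻¹ := by
  intro u hu
  have hc' : D.α c⁻¹ = c⁻¹ := by rw [map_inv, hc]
  refine conj_mem_closure (g := c⁻¹) ?_ hu |> fun h => by simpa using h
  rintro _ ⟨s, ⟨hs, hsc⟩, rfl⟩
  replace hsc := mem_map_conj.1 hsc
  have e : c⁻¹ * (s⁻¹ * D.α s) * c⁻¹⁻¹ = (c⁻¹ * s * c)⁻¹ * D.α (c⁻¹ * s * c) := by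
    rw [map_mul, map_mul, hc', hc]; group
  rw [e]
  exact mem_moved ⟨hsc, mem_map_conj.2 (by simpa [mul_assoc] using hs)⟩

theorem conj_gensE {c : G} (hc : D.α c = c) {e : G} (he : e ∈ closure (D.gensE c)) :
    c⁻¹ * e * c ∈ closure (D.gensE c⁻¹) := by
  have := conj_mem_closure (g := c⁻¹) (K := closure (D.gensE c⁻¹)) ?_ he
  · simpa using this
  rintro e ((hu | ⟨hz, hz'⟩) | ⟨hb, hbX⟩) <;> rw [inv_inv]
  · exact subset_closure (Or.inl (Or.inl (D.U_le_conj_inv hc e hu)))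
  · refine subset_closure (Or.inr ⟨?_, hz'⟩)
    simpa [mul_assoc] using hz
  · refine subset_closure (Or.inl (Or.inr ⟨hb, ?_⟩))
    simpa [mul_assoc] using hbX

theorem T_normalizes {c x : G} (hc : D.α c = c) (hcX : c ∉ D.Γ) (hN : D.Norm c) (hx : x ∈ D.W) (hx1 : x ≠ 1)
    (hv : c * x * c⁻¹ ∈ D.X) : D.T ≤ normalizer (closure (D.gensE c) : Set G) := by
  intro t ht
  rw [← D.moved_T] at ht
  exact (closure_le _).2 (by
    rintro _ ⟨y, hy, rfl⟩
    exact D.displacement_normalizes hc hcX hN hx hx1 hv hy) ht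

/-- `(ii)`: a normalized fixed element conjugating an involution of `W` into `X` lies in `Γ`. -/
theorem mem_Γ_of_fixed_norm {c x : G} (hc : D.α c = c) (hN : D.Norm c) (hx : x ∈ D.W) (hx1 : x ≠ 1)
    (hv : c * x * c⁻¹ ∈ D.X) : c ∈ D.Γ := by
  by_contra hcX
  have hc' : D.α c⁻¹ = c⁻¹ := by rw [map_inv, hc]
  have hcX' : c⁻¹ ∉ D.Γ := D.inv_not_mem_Γ hcX
  set v := c * x * c⁻¹ with hvdef
  have hvne : v ≠ 1 := fun h => hx1 (conj_eq_one_iff.1 h)
  -- a non-trivial element of `W` centralized by `v`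
  obtain ⟨x', hx', hx'1, hx'c⟩ : ∃ x' ∈ D.W, x' ≠ 1 ∧ v * x' = x' * v := by
    by_cases hfix : ∀ z ∈ D.W, v * z * v⁻¹ = z
    · exact ⟨x, hx, hx1, mul_inv_eq_iff_eq_mul.1 (hfix x hx)⟩
    push Not at hfix
    obtain ⟨z, hz, hne⟩ := hfix
    have hvz := D.conj_mem_W hv hz
    refine ⟨v * z * v⁻¹ * z, D.W.mul_mem hvz hz, fun h => hne ?_, mul_inv_eq_iff_eq_mul.1 ?_⟩
    · rw [mul_eq_one_iff_eq_inv, D.W_inv hz] at h; exact h
    · have hvv : v * v = 1 := by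
        rw [hvdef, show c * x * c⁻¹ * (c * x * c⁻¹) = c * (x * x) * c⁻¹ by group,
          mul_eq_one_iff_eq_inv.2 (D.W_inv hx).symm, mul_one, mul_inv_cancel]
      calc v * (v * z * v⁻¹ * z) * v⁻¹ = (v * v) * z * (v * v)⁻¹ * (v * z * v⁻¹) := by group
        _ = z * (v * z * v⁻¹) := by rw [hvv]; group
        _ = v * z * v⁻¹ * z := D.W_comm hz hvz
  set E := closure (D.gensE c) with hE
  have hEX : E ≤ D.X := by
    rw [hE, closure_le]
    rintro e ((hu | ⟨hz, -⟩) | ⟨-, hbX⟩)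
    exacts [D.T_le_X (D.U_le hc hu).1, D.W_mem_X hz, hbX]
  have hEinv : Inv D.α E := inv_of_forall fun e he => by
    refine (closure_le (K := E.comap D.α.toMonoidHom)).2 ?_ he
    rintro e ((hu | ⟨hz, hz'⟩) | ⟨hb, hbX⟩)
    · exact subset_closure (Or.inl (Or.inl ((inv_moved (D.T_inv.inf (D.inv_T_conj hc))).apply_mem hu)))
    · show D.α e ∈ E
      have hef : D.α e = e := hz.2
      rw [hef]
      exact subset_closure (Or.inl (Or.inr ⟨hz, hz'⟩))
    · show D.α e ∈ E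
      have hef : D.α e = e := by
        have h := D.fixed_conj hc hb
        rwa [show c * (c⁻¹ * e * c) * c⁻¹ = e by group] at h
      rw [hef]
      exact subset_closure (Or.inr ⟨hb, hbX⟩)
  have hvE : v ∈ E := subset_closure (Or.inr ⟨by simpa [hvdef, mul_assoc] using hx, hv⟩)
  have hNX := D.normalizer_le_Γ hEinv (fun e => hvne (mem_bot.1 (e ▸ hvE)))
    (fun e => D.X_ne_top (top_unique (e ▸ hEX))) (D.T_normalizes hc hcX hN hx hx1 hv)
  have hv' : c⁻¹ * x' * c⁻¹⁻¹ ∈ D.X := by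
    rw [inv_inv]; exact D.mem_X_of_commute_conj hN hx hx1 hx'.1 hx'c
  have hN' := D.T_normalizes hc' hcX' (hN.symm D) hx' hx'1 hv'
  refine hcX (D.fixed_mem_Γ hc fun t ht => hNX (mem_normalizer_of_conj_mem fun e he => ?_))
  have h1 := (mem_normalizer_iff.1 (hN' ht) _).1 (D.conj_gensE hc he)
  have h2 := D.conj_gensE hc' h1
  simp only [inv_inv] at h2
  convert h2 using 1
  group

/-- An element conjugating an involution of `W` to a fixed element of `Γ` lies in `Γ`. -/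
theorem mem_Γ_of_conj_fixed {g x : G} (hx : x ∈ D.W) (hx1 : x ≠ 1) (hv : g * x * g⁻¹ ∈ D.Γ)
    (hvf : D.α (g * x * g⁻¹) = g * x * g⁻¹) : g ∈ D.Γ := by
  obtain ⟨k, hk, hc, he⟩ := D.exists_fixed_conjugator hx hx1 hvf
  refine D.mem_Γ_of_mul hk ?_
  obtain ⟨k1, hk1, k2, hk2, hf, -, hN, hX⟩ := D.exists_norm (g := g * k) hx (he.symm ▸ hv)
  obtain ⟨hk1f, hk2f⟩ := hf hc
  have h := D.mem_Γ_of_fixed_norm (show D.α (k1 * (g * k) * k2) = k1 * (g * k) * k2 by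
    rw [map_mul, map_mul, hk1f, hc, hk2f]) hN hx hx1 hX
  exact D.mem_Γ_of_mul (D.hKΓ hk2) (by simpa [mul_assoc] using mul_mem (inv_mem (D.hKΓ hk1)) h)

end GBar

end CfsgLib.FlavellHHS
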