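import Cfsg.Agent.Lib.FlavellHHS.GL

/-!
The lemma of Flavell, Hall-Higman and Shult over any field, by extension of scalars.
-/

set_option autoImplicit false
set_option linter.unusedSectionVars false

namespace CfsgLib.FlavellHHS

open Subgroup CfsgLib.CoprimeCentral CfsgLib.FlavellFpf

universe u v w

/-- Extension of scalars to the algebraic closure, for the endomorphisms of a finite dimensional space. -/
theorem exists_extend {k : Type w} [Field k] {W : Type v} [AddCommGroup W] [Module k W] [FiniteDimensional k W] :
    ∃ (d : ℕ) (E : Module.End k W →* Module.End (AlgebraicClosure k) (Fin d → AlgebraicClosure k)),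
      Function.Injective E ∧
        ∀ a : Module.End k W, (∀ v, a v = v → v = 0) → ∀ v, E a v = v → v = 0 := by
  classical
  let b := Module.finBasis k W
  set d := Module.finrank k W with hd
  set K := AlgebraicClosure k
  let φ : k →+* K := algebraMap k K
  let mat : Module.End k W →* Matrix (Fin d) (Fin d) k := (LinearMap.toMatrixAlgEquiv b).toMonoidHom
  let E : Module.End k W →* Module.End K (Fin d → K) :=
    (Matrix.toLinAlgEquiv' (R := K) (n := Fin d)).toMonoidHom.comp ((φ.mapMatrix).toMonoidHom.comp mat)
  refine ⟨d, E, fun x y h => (LinearMap.toMatrixAlgEquiv b).injective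
    ((Matrix.map_injective φ.injective) ((Matrix.toLinAlgEquiv' (R := K) (n := Fin d)).injective h)),
    fun a ha v hv => ?_⟩
  by_contra hv0
  have h1 : (φ.mapMatrix (mat a - 1)).mulVec v = 0 := by
    rw [map_sub, map_one, Matrix.sub_mulVec, Matrix.one_mulVec, sub_eq_zero]
    have : E a v = (φ.mapMatrix (mat a)).mulVec v := Matrix.toLinAlgEquiv'_apply _ _
    rw [← this, hv]
  have h2 : φ (mat a - 1).det = 0 := by
    rw [RingHom.map_det]
    exact Matrix.exists_mulVec_eq_zero_iff.1 ⟨v, hv0, h1⟩
  obtain ⟨w, hw0, hw⟩ := Matrix.exists_mulVec_eq_zero_iff.2 ((map_eq_zero φ).1 h2)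
  rw [Matrix.sub_mulVec, Matrix.one_mulVec, sub_eq_zero] at hw
  set u := b.equivFun.symm w with hu
  have hcoe : (b.repr u : Fin d → k) = w := by
    rw [hu, ← b.equivFun_apply, LinearEquiv.apply_symm_apply]
  have h3 : a u = u := b.equivFun.injective (by
    rw [b.equivFun_apply, b.equivFun_apply, hcoe]
    have h4 := LinearMap.toMatrix_mulVec_repr b b a u
    rw [hcoe] at h4
    exact h4.symm.trans hw)
  refine hw0 (b.equivFun.symm.injective ?_)
  rw [map_zero, ← hu]
  exact ha u h3

/-- The lemma of Flavell, Hall-Higman and Shult. -/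
theorem hhs : HHS.{u, v, w} := by
  intro H _ _ p r _ k _ _ W _ _ _ ρ α a hr hαr hrH har hc hfix hinj
  have hp : p.Prime := Fact.out
  rcases eq_or_ne r p with rfl | hrp
  · have := subsingleton_of_pow_char har hfix
    have : Subsingleton H := ⟨fun x y => hinj (LinearMap.ext fun v => Subsingleton.elim _ _)⟩
    exact PTwo.of_two fun x => ⟨0, Subsingleton.elim _ _⟩
  obtain ⟨d, E, hEinj, hEfix⟩ := exists_extend (k := k) (W := W)
  have : CharP (AlgebraicClosure k) p :=
    charP_of_injective_algebraMap (algebraMap k (AlgebraicClosure k)).injective p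
  have hrk : (r : AlgebraicClosure k) ≠ 0 := fun h => hrp
    ((Nat.prime_dvd_prime_iff_eq hp hr).1 ((CharP.cast_eq_zero_iff (AlgebraicClosure k) p r).1 h)).symm
  have har' : E a ^ r = 1 := by rw [← map_pow, har, map_one]
  have hc' : ∀ x, (E.comp ρ) (α x) * E a = E a * (E.comp ρ) x := fun x => by
    show E (ρ (α x)) * E a = E a * E (ρ x)
    rw [← map_mul, hc, map_mul]
  rcases eq_or_ne p 2 with rfl | hp2
  · exact PTwo.of_two (two_group_char_two hr hrk hαr hrH (E.comp ρ) (hEinj.comp hinj) (E a) har' hc'
      (hEfix a hfix))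
  · exact ptwo_of_algClosed (D :=
      { hp := hp
        hp2 := hp2
        hpk := CharP.cast_eq_zero _ p
        hr := hr
        hrk := hrk
        α := α
        hαr := hαr
        hrH := hrH
        ρ := E.comp ρ
        a := E a
        har := har'
        hc := hc'
        hfix := hEfix a hfix }) (hEinj.comp hinj)

end CfsgLib.FlavellHHS
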