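import Cfsg.Agent.Lib.FlavellFpf.Min
import Cfsg.Agent.Lib.FlavellHHS.Interface
import Cfsg.Agent.Lib.PCore.Basic

/-!
The minimal counterexample to the lemma of Flavell, Hall-Higman and Shult: basic properties.
-/

set_option autoImplicit false
set_option linter.unusedSectionVars false
set_option linter.style.haveILetI false

namespace CfsgLib.FlavellHHS

open Subgroup CfsgLib.CoprimeCentral CfsgLib.FlavellFpf

variable {H : Type*} [Group H]

/-- A `p`-element with a `2`-power in a subgroup lies in it. -/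
theorem mem_of_pow_two_mem {p : ℕ} [hp : Fact p.Prime] (hp2 : p ≠ 2) {R Q : Subgroup H} (hQ : IsPGroup p Q)
    {x : H} (hx : x ∈ Q) {j : ℕ} (hj : x ^ 2 ^ j ∈ R) : x ∈ R := by
  obtain ⟨e, he⟩ := hQ ⟨x, hx⟩
  have he' : x ^ p ^ e = 1 := congrArg Subtype.val he
  have hcop : (2 ^ j).Coprime (orderOf x) :=
    Nat.Coprime.coprime_dvd_right (orderOf_dvd_of_pow_eq_one he')
      (Nat.Coprime.pow j e ((Nat.coprime_primes Nat.prime_two hp.out).2 (Ne.symm hp2)))
  obtain ⟨m, hm⟩ := exists_pow_eq_self_of_coprime hcop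
  exact hm ▸ R.pow_mem hj m

/-- The normal subgroup of `PTwo` contains all `p`-subgroups. -/
theorem le_of_pTwo {p : ℕ} [Fact p.Prime] (hp2 : p ≠ 2) {R N Q : Subgroup H}
    (hsq : ∀ x ∈ N, ∃ j : ℕ, x ^ 2 ^ j ∈ R) (hQ : IsPGroup p Q) (hQN : Q ≤ N) : Q ≤ R := fun x hx => by
  obtain ⟨j, hj⟩ := hsq x (hQN hx)
  exact mem_of_pow_two_mem hp2 hQ hx hj

theorem eq_bot_of_two_and_p [Finite H] {p q : ℕ} [Fact p.Prime] [Fact q.Prime] (hpq : p ≠ q) {L : Subgroup H}
    (hp : IsPGroup p L) (hq : IsPGroup q L) : L = ⊥ :=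
  L.eq_bot_of_card_eq (by
    obtain ⟨i, hi⟩ := IsPGroup.iff_card.1 hp
    obtain ⟨j, hj⟩ := IsPGroup.iff_card.1 hq
    exact Nat.eq_one_of_dvd_coprimes (Nat.Coprime.pow i j ((Nat.coprime_primes Fact.out Fact.out).2 hpq))
      hi.dvd hj.dvd)

theorem PTwo.of_two {p : ℕ} {N : Subgroup H} (h : IsPGroup 2 N) : PTwo p N :=
  ⟨⊥, bot_le, IsPGroup.of_bot, fun g _ => by rw [Subgroup.normalizer_eq_top]; exact mem_top g,
    fun x hx => by
      obtain ⟨j, hj⟩ := h ⟨x, hx⟩
      exact ⟨j, mem_bot.2 (congrArg Subtype.val hj)⟩⟩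

theorem PTwo.two_of_pGroup_bot {p : ℕ} {N : Subgroup H} (h : PTwo p N)
    (h0 : ∀ R : Subgroup H, R ≤ N → IsPGroup p R → N ≤ normalizer (R : Set H) → R = ⊥) : IsPGroup 2 N := by
  obtain ⟨R, hRN, hRp, hn, hsq⟩ := h
  intro x
  obtain ⟨j, hj⟩ := hsq x x.2
  rw [h0 R hRN hRp hn, mem_bot] at hj
  exact ⟨j, Subtype.ext hj⟩

/-- The hypotheses of the lemma. -/
structure HData (k : Type*) [Field k] (H : Type*) [Group H] (W : Type*) [AddCommGroup W] [Module k W]
    (p r : ℕ) where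
  hp : p.Prime
  hp2 : p ≠ 2
  hpk : (p : k) = 0
  hr : r.Prime
  hrk : (r : k) ≠ 0
  α : MulAut H
  hαr : α ^ r = 1
  hrH : ¬ r ∣ Nat.card H
  ρ : H →* Module.End k W
  a : Module.End k W
  har : a ^ r = 1
  hc : ∀ x, ρ (α x) * a = a * ρ x
  hfix : ∀ v, a v = v → v = 0

/-- A minimal counterexample. -/
structure Min (k : Type*) [Field k] (H : Type*) [Group H] (W : Type*) [AddCommGroup W] [Module k W]
    (p r : ℕ) extends HData k H W p r where
  hinj : Function.Injective ρ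
  hne : Nontrivial W
  hirr : ∀ U : Submodule k W, (∀ h, ∀ u ∈ U, ρ h u ∈ U) → (∀ u ∈ U, a u ∈ U) → U = ⊥ ∨ U = ⊤
  IH : ∀ L : Subgroup H, Inv α L → L ≠ ⊤ → PTwo p (moved α L)
  hbad : ¬ PTwo p (moved α (⊤ : Subgroup H))

namespace Min

variable [Finite H] {k : Type*} [Field k] [IsAlgClosed k] {W : Type*} [AddCommGroup W] [Module k W]
  [FiniteDimensional k W] {p r : ℕ} (D : Min k H W p r)

include D in
theorem fact_p : Fact p.Prime := ⟨D.hp⟩

include D in
theorem cast_ne_zero {m : ℕ} (hm : ¬ p ∣ m) : (m : k) ≠ 0 := by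
  have : CharP k p := (CharP.charP_iff_prime_eq_zero D.hp).2 D.hpk
  rw [Ne, CharP.cast_eq_zero_iff k p]; exact hm

theorem card_not_dvd_of_le {L K : Subgroup H} (h : L ≤ K) (hK : ¬ p ∣ Nat.card K) : ¬ p ∣ Nat.card L :=
  fun h' => hK (h'.trans (Subgroup.card_dvd_of_le h))

/-- A normal invariant `p`-subgroup is trivial. -/
theorem normal_pGroup_eq_bot {N : Subgroup H} [hN : N.Normal] (hinv : Inv D.α N) (hp : IsPGroup p N) :
    N = ⊥ := by
  have := D.fact_p
  have := D.hne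
  let U : Submodule k W :=
    { carrier := {w | ∀ n ∈ N, D.ρ n w = w}
      add_mem' := fun ha hb n hn => by rw [map_add, ha n hn, hb n hn]
      zero_mem' := fun n _ => map_zero _
      smul_mem' := fun c w hw n hn => by rw [map_smul, hw n hn] }
  obtain ⟨w, hw0, hw⟩ := exists_fixed_vector hp D.hpk (D.ρ.comp N.subtype)
  have hst1 : ∀ h, ∀ u ∈ U, D.ρ h u ∈ U := fun h u hu n hn => by
    have e : n * h = h * (h⁻¹ * n * h) := by group
    rw [← Module.End.mul_apply, ← map_mul, e, map_mul, Module.End.mul_apply,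
      hu _ (by simpa using hN.conj_mem n hn h⁻¹)]
  have hst2 : ∀ u ∈ U, D.a u ∈ U := fun u hu n hn => by
    obtain ⟨m, hm, rfl⟩ := (le_of_eq hinv.symm) hn
    show (D.ρ (D.α m) * D.a) u = D.a u
    rw [D.hc, Module.End.mul_apply, hu m hm]
  rcases D.hirr U hst1 hst2 with e | e
  · exact absurd ((Submodule.eq_bot_iff U).1 e w fun n hn => hw ⟨n, hn⟩) hw0
  · refine (Subgroup.eq_bot_iff_forall _).2 fun n hn => D.hinj (LinearMap.ext fun v => ?_)
    rw [map_one, Module.End.one_apply]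
    exact (e.symm ▸ Submodule.mem_top : v ∈ U) n hn

/-- The moved part of a proper normal invariant subgroup is a `2`-group. -/
theorem moved_normal_two {N : Subgroup H} [hN : N.Normal] (hinv : Inv D.α N) (hne : N ≠ ⊤) :
    IsPGroup 2 (moved D.α N) := by
  have := D.fact_p
  refine (D.IH N hinv hne).two_of_pGroup_bot fun R hRM hRp hRn => ?_
  obtain ⟨R', hR'M, hR'p, hR'n, hsq⟩ := D.IH N hinv hne
  have hle : R ≤ R' := le_of_pTwo D.hp2 hsq hRp hRM
  set O := (Cfsg.pCore p N).map N.subtype with hO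
  have hOn : O.Normal := ConjAct.normal_of_characteristic_of_normal
  have hO0 : O = ⊥ := D.normal_pGroup_eq_bot (hinv.of_characteristic _) (CfsgLib.PCore.pCore_isPGroup.map _)
  refine le_bot_iff.1 (hle.trans ((?_ : R' ≤ O).trans hO0.le))
  intro x hx
  refine ⟨⟨x, moved_le hinv (hR'M hx)⟩, ?_, rfl⟩
  refine CfsgLib.PCore.le_pCore (N := R'.subgroupOf N) ?_ ?_ hx
  · refine Subgroup.normal_subgroupOf_iff_le_normalizer (hR'M.trans (moved_le hinv)) |>.2 fun g hg => ?_
    refine mem_normalizer_of_conj_mem fun y hy => le_of_pTwo D.hp2 hsq (hR'p.map (MulAut.conj g).toMonoidHom)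
      ?_ ⟨y, hy, rfl⟩
    rintro _ ⟨z, hz, rfl⟩
    exact (mem_normalizer_iff.1 (le_normalizer_moved N hg) z).1 (hR'M hz)
  · exact hR'p.comap_of_injective N.subtype N.subtype_injective

theorem moved_top : moved D.α ⊤ = ⊤ := by
  by_contra hne
  refine D.hbad ?_
  have h := D.IH _ (inv_moved inv_top) hne
  rwa [moved_moved D.hr D.hαr D.hrH inv_top] at h

include D in
theorem not_two_group : ¬ IsPGroup 2 (⊤ : Subgroup H) := fun h =>
  D.hbad (D.moved_top.symm ▸ PTwo.of_two h)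

theorem fixed_of_comm {L : Subgroup H} (hL : Inv D.α L) (hcomm : ∀ x ∈ L, ∀ y ∈ L, x * y = y * x)
    (hpL : ¬ p ∣ Nat.card L) : L ≤ fixedSub D.α := by
  rw [← moved_eq_bot_iff, eq_bot_iff]
  intro x hx
  have h := fpf_trivial_sub D.hr D.hαr (inv_moved hL) (moved_inf_fixed_eq_bot D.hr D.hαr D.hrH hL hcomm)
    (D.ρ.comp (moved D.α L).subtype) D.a D.har (fun y => D.hc y) D.hfix (fun v hv =>
      (smul_eq_zero.1 hv).resolve_left (D.cast_ne_zero (card_not_dvd_of_le (moved_le hL) hpL))) ⟨x, hx⟩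
  exact D.hinj (by simpa using h)

/-- The representation data of an invariant group `T = [T, α]` of prime power order prime to `p`. -/
noncomputable def trep {T : Subgroup H} (hT : Inv D.α T) (hmov : moved D.α T = T) (hne : T ≠ ⊥) {ℓ : ℕ}
    (hℓ : ℓ.Prime) (hℓp : ℓ ≠ p) (hTp : IsPGroup ℓ T) : TRep T k W r where
  β := resAut hT
  hr := D.hr
  hβr := resAut_pow_eq_one hT D.hαr
  hrT := fun h => D.hrH (h.trans T.card_subgroup_dvd_card)
  hrk := D.hrk
  ℓ := ℓ
  hℓ := hℓ
  hℓk := D.cast_ne_zero fun h => hℓp ((Nat.prime_dvd_prime_iff_eq D.hp hℓ).1 h).symm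
  hℓT := hTp
  σ := D.ρ.comp T.subtype
  hinj := D.hinj.comp T.subtype_injective
  a := D.a
  har := D.har
  hc := fun x => D.hc x
  hfix := D.hfix
  htop := moved_resAut_top hT hmov
  hne := (Subgroup.nontrivial_iff_ne_bot T).2 hne

/-- Invariant subgroups of odd prime power order prime to `p` are fixed. -/
theorem odd_fixed {ℓ : ℕ} (hℓ : ℓ.Prime) (hℓ2 : ℓ ≠ 2) (hℓp : ℓ ≠ p) {L : Subgroup H} (hL : Inv D.α L)
    (hLp : IsPGroup ℓ L) : L ≤ fixedSub D.α := by
  rw [← moved_eq_bot_iff]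
  by_contra hne
  exact hℓ2 (D.trep (inv_moved hL) (moved_moved D.hr D.hαr D.hrH hL) hne hℓ hℓp
    (hLp.to_le (moved_le hL))).ell_eq_two

/-- The moved part of an invariant `p'`-subgroup is a `2`-group. -/
theorem moved_two_group {L : Subgroup H} (hL : Inv D.α L) (hpL : ¬ p ∣ Nat.card L) :
    IsPGroup 2 (moved D.α L) := by
  refine two_group_of_odd_fixed D.hr D.hαr D.hrH (inv_moved hL) (moved_moved D.hr D.hαr D.hrH hL)
    fun ℓ hℓ hℓ2 K hK hKi hKp => ?_
  rcases eq_or_ne K ⊥ with rfl | hK0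
  · exact bot_le
  refine D.odd_fixed hℓ hℓ2 ?_ hKi hKp
  rintro rfl
  have := D.fact_p
  obtain ⟨j, hj⟩ := IsPGroup.iff_card.1 hKp
  rcases Nat.eq_zero_or_pos j with rfl | hj0
  · exact hK0 (K.eq_bot_of_card_eq (by rw [hj, pow_zero]))
  · refine hpL (dvd_trans ?_ (Subgroup.card_dvd_of_le (hK.trans (moved_le hL))))
    rw [hj]; exact dvd_pow_self _ hj0.ne'

/-- Some invariant `p`-Sylow subgroup. -/
theorem exists_invariant_sylow_p : ∃ P : Sylow p H, Inv D.α (P : Subgroup H) := by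
  have := D.fact_p
  obtain ⟨P, -, hP⟩ := exists_invariant_sylow_ge (p := p) D.hr D.hαr D.hrH ⊥ IsPGroup.of_bot
    (Subgroup.map_bot _)
  exact ⟨P, hP⟩

/-- No invariant Sylow `p`-subgroup is fixed. -/
theorem not_sylow_fixed {P : Sylow p H} (hP : Inv D.α (P : Subgroup H)) :
    ¬ (P : Subgroup H) ≤ fixedSub D.α := by
  intro hfix
  have := D.fact_p
  have h := two_group_of_odd_fixed D.hr D.hαr D.hrH inv_top D.moved_top fun ℓ hℓ hℓ2 L _ hLi hLp => by
    rcases eq_or_ne ℓ p with rfl | hℓp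
    · obtain ⟨S, hLS, hS⟩ := exists_invariant_sylow_ge (p := ℓ) D.hr D.hαr D.hrH L hLp hLi
      obtain ⟨c, hc, hcS⟩ := exists_fixed_conj D.hr D.hαr D.hrH P S hP hS
      refine hLS.trans fun x hx => ?_
      rw [← hcS, Sylow.coe_subgroup_smul] at hx
      obtain ⟨y, hy, rfl⟩ := hx
      exact (fixedSub D.α).mul_mem ((fixedSub D.α).mul_mem hc (hfix hy)) ((fixedSub D.α).inv_mem hc)
    · exact D.odd_fixed hℓ hℓ2 hℓp hLi hLp
  exact D.not_two_group h

include D in
theorem p_dvd_card : p ∣ Nat.card H := by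
  by_contra h
  refine D.hbad (PTwo.of_two ?_)
  exact D.moved_two_group inv_top (by rwa [Subgroup.card_top])

include D in
theorem not_comm : ¬ ∀ x y : H, x * y = y * x := fun h => by
  have := D.fact_p
  obtain ⟨P, hP⟩ := D.exists_invariant_sylow_p
  have : (P : Subgroup H).Normal := ⟨fun x hx g => by rwa [h g x, mul_inv_cancel_right]⟩
  refine D.not_sylow_fixed hP ?_
  rw [D.normal_pGroup_eq_bot hP P.2]; exact bot_le

include D in
theorem center_ne_top : center H ≠ ⊤ := fun h => D.not_comm fun x y =>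
  mem_center_iff.1 (h.symm.le (mem_top y)) x

theorem inv_center : Inv D.α (center H) := characteristic_iff_map_eq.1 inferInstance D.α

include D in
theorem center_not_dvd : ¬ p ∣ Nat.card (center H) := by
  intro hd
  have := D.fact_p
  set O := (Cfsg.pCore p (center H)).map (center H).subtype with hO
  have hOn : O.Normal := ConjAct.normal_of_characteristic_of_normal
  have hO0 : O = ⊥ :=
    D.normal_pGroup_eq_bot (D.inv_center.of_characteristic _) (CfsgLib.PCore.pCore_isPGroup.map _)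
  obtain ⟨S⟩ : Nonempty (Sylow p (center H)) := inferInstance
  have hSn : (S : Subgroup (center H)).Normal := ⟨fun x hx g => by
    have e : g * x * g⁻¹ = x := Subtype.ext (by
      show (g : H) * x * (g : H)⁻¹ = x
      rw [mem_center_iff.1 x.2 (g : H), mul_inv_cancel_right])
    rwa [e]⟩
  refine S.ne_bot_of_dvd_card hd (le_bot_iff.1 ?_)
  intro x hx
  have h1 : (x : H) ∈ O := ⟨x, CfsgLib.PCore.le_pCore hSn S.2 hx, rfl⟩
  rw [hO0, mem_bot] at h1
  exact mem_bot.2 (Subtype.ext h1)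

theorem fixed_normal_le_center {N : Subgroup H} [hN : N.Normal] (hfix : N ≤ fixedSub D.α) :
    N ≤ center H := fun n hn => mem_center_iff.2 fun g =>
  (mem_centralizer_iff.1 ((moved_le_centralizer hfix (by rw [normalizer_eq_top]))
    (D.moved_top.symm.le (mem_top g))) n hn).symm

theorem center_fixed {z : H} (hz : z ∈ center H) : D.α z = z :=
  D.fixed_of_comm D.inv_center (fun x hx y _ => (mem_center_iff.1 hx y).symm) D.center_not_dvd hz

theorem center_scalar {z : H} (hz : z ∈ center H) : ∃ c : k, D.ρ z = c • 1 := by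
  have := D.hne
  obtain ⟨c, hc⟩ := Module.End.exists_eigenvalue (D.ρ z)
  obtain ⟨v, hv⟩ := hc.exists_hasEigenvector
  have hcomm : ∀ g : Module.End k W, D.ρ z * g = g * D.ρ z →
      ∀ u, u ∈ Module.End.eigenspace (D.ρ z) c → g u ∈ Module.End.eigenspace (D.ρ z) c := fun g hg u hu => by
    rw [Module.End.mem_eigenspace_iff] at hu ⊢
    rw [← Module.End.mul_apply, hg, Module.End.mul_apply, hu, map_smul]
  have hza : D.ρ z * D.a = D.a * D.ρ z := by
    have := D.hc z
    rwa [D.center_fixed hz] at this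
  rcases D.hirr (Module.End.eigenspace (D.ρ z) c)
    (fun h => hcomm _ (by rw [← map_mul, ← map_mul, mem_center_iff.1 hz h])) (hcomm _ hza) with e | e
  · exact absurd ((Submodule.eq_bot_iff _).1 e v hv.1) hv.2
  · exact ⟨c, LinearMap.ext fun u => by
      simpa using Module.End.mem_eigenspace_iff.1 (e.symm ▸ Submodule.mem_top : u ∈ _)⟩

theorem mem_center_of_scalar {z : H} {c : k} (h : D.ρ z = c • 1) : z ∈ center H :=
  mem_center_iff.2 fun g => D.hinj (by
    rw [map_mul, map_mul, h, mul_smul_comm, smul_mul_assoc, mul_one, one_mul])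

end Min

end CfsgLib.FlavellHHS
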