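import Cfsg.Agent.Lib.FlavellHHS.MinBar0
import Cfsg.Agent.Lib.FlavellFpf.MinBar

/-!
The central quotient of a minimal counterexample carries the space of `T`; so there is no minimal
counterexample.
-/

set_option autoImplicit false
set_option linter.unusedSectionVars false

namespace CfsgLib.FlavellHHS

open Subgroup CfsgLib.CoprimeCentral CfsgLib.FlavellFpf
open scoped commutatorElement IsMulCommutative

namespace Min

variable {H : Type*} [Group H] [Finite H] {k : Type*} [Field k] [IsAlgClosed k] {W : Type*}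
  [AddCommGroup W] [Module k W] [FiniteDimensional k W] {p r : ℕ} (D : Min k H W p r)

/-- The chosen lift of `T`. -/
noncomputable def TH : Subgroup H := D.exists_TH.choose

theorem TH_inv : Inv D.α D.TH := D.exists_TH.choose_spec.1
theorem TH_moved : moved D.α D.TH = D.TH := D.exists_TH.choose_spec.2.1
theorem TH_two : IsPGroup 2 D.TH := D.exists_TH.choose_spec.2.2.1
theorem TH_ne : D.TH ≠ ⊥ := D.exists_TH.choose_spec.2.2.2.1
theorem TH_map : D.TH.map (QuotientGroup.mk' (center H)) = D.bar0.T := D.exists_TH.choose_spec.2.2.2.2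

/-- The representation data of the lift of `T`. -/
noncomputable def repT : TRep D.TH k W r :=
  D.trep D.TH_inv D.TH_moved D.TH_ne Nat.prime_two (fun h => D.hp2 h.symm) D.TH_two

/-- The module `T / W`. -/
abbrev MT : Type _ := Additive (Abelianization D.TH)

/-- The group of values. -/
abbrev ZT : Type _ := Additive ↥(center D.TH)

theorem mk_mem_T (t : D.TH) : ((t : H) : H ⧸ center H) ∈ D.bar0.T := D.TH_map ▸ ⟨t, t.2, rfl⟩

theorem exists_preimage {g : H ⧸ center H} (hg : g ∈ D.bar0.T) :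
    ∃ t : D.TH, ((t : H) : H ⧸ center H) = g := by
  rw [← D.TH_map] at hg
  obtain ⟨t, ht, rfl⟩ := hg
  exact ⟨⟨t, ht⟩, rfl⟩

theorem toM_eq_of_mk {s t : D.TH} (h : ((s : H) : H ⧸ center H) = ((t : H) : H ⧸ center H)) :
    TRep.toM s = TRep.toM t := by
  have h1 : (s : H)⁻¹ * t ∈ center H := QuotientGroup.eq.1 h
  have h2 : s⁻¹ * t ∈ center D.TH := mem_center_iff.2 fun y => Subtype.ext (mem_center_iff.1 h1 y)
  rw [D.repT.center_eq_commutator] at h2
  exact congrArg Additive.ofMul (TRep.of_eq_of.2 h2)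

open scoped Classical in
/-- The projection to `T / W`. -/
noncomputable def πT (g : H ⧸ center H) : D.MT :=
  if h : ∃ t : D.TH, ((t : H) : H ⧸ center H) = g then TRep.toM h.choose else 0

theorem πT_mk (t : D.TH) : D.πT ((t : H) : H ⧸ center H) = TRep.toM t := by
  have h : ∃ s : D.TH, ((s : H) : H ⧸ center H) = ((t : H) : H ⧸ center H) := ⟨t, rfl⟩
  rw [πT, dif_pos h]
  exact D.toM_eq_of_mk h.choose_spec

/-- The map onto `W`. -/
noncomputable def ωT (z : D.ZT) : H ⧸ center H := (((z.toMul : D.TH) : H) : H ⧸ center H)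

theorem fixed_of_mk_fixed {t : D.TH} (h : D.αbar ((t : H) : H ⧸ center H) = ((t : H) : H ⧸ center H)) :
    t ∈ center D.TH := by
  refine D.repT.fixed_mem_center (Subtype.ext ?_)
  show D.α t = t
  have h1 : (t : H)⁻¹ * D.α t ∈ center H := QuotientGroup.eq.1 h.symm
  exact (inv_mul_eq_one.1 (fixed_displacement_eq_one D.hr D.hαr D.hrH (D.center_fixed h1))).symm

theorem center_TH_fixed {t : D.TH} (h : t ∈ center D.TH) : D.α t = t :=
  congrArg Subtype.val (D.repT.center_fixed h)

/-- A fixed lift normalizing `T`. -/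
def IsLift (g : H ⧸ center H) (c : H) : Prop :=
  D.α c = c ∧ c ∈ normalizer (D.TH : Set H) ∧ (c : H ⧸ center H) = g

theorem exists_isLift {g : H ⧸ center H} (hgX : g ∈ D.bar0.X) (hg : D.bar0.α g = g) : ∃ c, D.IsLift g c := by
  obtain ⟨c, hc, rfl⟩ := exists_fixed_lift D.hr D.hαr D.hrH D.inv_center hg
  refine ⟨c, hc, mem_normalizer_of_conj_mem fun t ht => ?_, rfl⟩
  rw [← D.TH_moved] at ht
  refine conj_mem_closure ?_ ht
  rintro _ ⟨x, hx, rfl⟩
  have h := (mem_normalizer_iff.1 (D.bar0.X_le_NT hgX) _).1 (D.mk_mem_T ⟨x, hx⟩)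
  obtain ⟨y, hy⟩ := D.exists_preimage h
  obtain ⟨z, hz, hz'⟩ : ∃ z ∈ center H, c * x * c⁻¹ = y * z :=
    ⟨(y : H)⁻¹ * (c * x * c⁻¹), QuotientGroup.eq.1 hy, by group⟩
  have e : c * (x⁻¹ * D.α x) * c⁻¹ = (c * x * c⁻¹)⁻¹ * D.α (c * x * c⁻¹) := by
    rw [map_mul, map_mul, map_inv, hc]; group
  have e2 : ((y : H) * z)⁻¹ * D.α ((y : H) * z) = (y : H)⁻¹ * D.α y := by
    rw [map_mul, D.center_fixed hz, mul_inv_rev, mul_assoc, ← mul_assoc (y : H)⁻¹,
      mem_center_iff.1 hz ((y : H)⁻¹ * D.α y), ← mul_assoc, inv_mul_cancel, one_mul]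
  rw [e, hz', e2]
  exact D.TH.mul_mem (D.TH.inv_mem y.2) (D.TH_inv.apply_mem y.2)

open scoped Classical in
/-- The chosen lift. -/
noncomputable def liftOf (g : H ⧸ center H) : H := if h : ∃ c, D.IsLift g c then h.choose else 1

theorem liftOf_mem (g : H ⧸ center H) : D.liftOf g ∈ normalizer (D.TH : Set H) := by
  rw [liftOf]
  split_ifs with h
  · exact h.choose_spec.2.1
  · exact one_mem _

theorem liftOf_spec {g : H ⧸ center H} (hgX : g ∈ D.bar0.X) (hg : D.bar0.α g = g) : D.IsLift g (D.liftOf g) := by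
  rw [liftOf, dif_pos (D.exists_isLift hgX hg)]
  exact (D.exists_isLift hgX hg).choose_spec

/-- The action on `T / W`. -/
noncomputable def gMT (g : H ⧸ center H) : AddMonoid.End D.MT :=
  MonoidHom.toAdditive (Abelianization.map (conjHom (D.liftOf_mem g)))

/-- The action on the values. -/
noncomputable def gZT (g : H ⧸ center H) : AddMonoid.End D.ZT :=
  MonoidHom.toAdditive (MonoidHom.mk'
    (fun z : ↥(center D.TH) => (⟨conjHom (D.liftOf_mem g) z, conjHom_center _ z.2⟩ : ↥(center D.TH)))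
    fun a b => Subtype.ext (map_mul (conjHom (D.liftOf_mem g)) (a : D.TH) (b : D.TH)))

theorem gMT_toM (g : H ⧸ center H) (t : D.TH) :
    D.gMT g (TRep.toM t) = TRep.toM (conjHom (D.liftOf_mem g) t) := rfl

theorem gZT_toZ (g : H ⧸ center H) {t : D.TH} (ht : t ∈ center D.TH) :
    D.gZT g (TRep.toZ t ht) = TRep.toZ (conjHom (D.liftOf_mem g) t) (conjHom_center _ ht) := rfl

/-- The central quotient with its space. -/
noncomputable def bar {n : ℕ} (hn : 1 ≤ n) (hrn : r = 2 ^ n + 1) :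
    Bar (H ⧸ center H) D.MT D.ZT p r where
  toBar0 := D.bar0
  Sp := D.repT.space n hn hrn
  hrn := hrn
  π := D.πT
  ω := D.ωT
  hπ_mul := fun s hs t ht => by
    obtain ⟨s, rfl⟩ := D.exists_preimage hs
    obtain ⟨t, rfl⟩ := D.exists_preimage ht
    rw [← QuotientGroup.mk_mul, ← Subgroup.coe_mul, D.πT_mk, D.πT_mk, D.πT_mk, TRep.toM_mul]
  hπ_surj := fun m => by
    obtain ⟨t, rfl⟩ := TRep.toM_surjective m
    exact ⟨_, D.mk_mem_T t, D.πT_mk t⟩
  hπ_zero := fun g hg => by
    obtain ⟨t, rfl⟩ := D.exists_preimage hg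
    rw [D.πT_mk, TRep.toM_eq_zero, ← D.repT.center_eq_commutator]
    exact ⟨fun h => congrArg (fun y : H => (y : H ⧸ center H)) (D.center_TH_fixed h), D.fixed_of_mk_fixed⟩
  hπα := fun g hg => by
    obtain ⟨t, rfl⟩ := D.exists_preimage hg
    show D.πT ((((resAut D.TH_inv t : D.TH) : H)) : H ⧸ center H) = _
    rw [D.πT_mk, D.πT_mk]; rfl
  hω_mul := fun z z' => rfl
  hω_mem := fun z => ⟨D.mk_mem_T _, congrArg (fun y : H => (y : H ⧸ center H)) (D.center_TH_fixed z.toMul.2)⟩
  hω_surj := fun x hx => by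
    obtain ⟨t, rfl⟩ := D.exists_preimage hx.1
    exact ⟨Additive.ofMul ⟨t, D.fixed_of_mk_fixed hx.2⟩, rfl⟩
  hω_one := fun z => by
    show ((((z.toMul : D.TH) : H)) : H ⧸ center H) = 1 ↔ _
    rw [QuotientGroup.eq_one_iff]
    exact ⟨fun h => D.center_scalar h, fun ⟨c, hc⟩ => D.mem_center_of_scalar hc⟩
  hcomm := fun s hs t ht => by
    obtain ⟨s, rfl⟩ := D.exists_preimage hs
    obtain ⟨t, rfl⟩ := D.exists_preimage ht
    rw [D.πT_mk, D.πT_mk]
    show _ = (((⁅s, t⁆ : D.TH) : H) : H ⧸ center H) * _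
    rw [← QuotientGroup.mk_mul, ← QuotientGroup.mk_mul, ← QuotientGroup.mk_mul]
    congr 1
    show (s : H) * t = (s : H) * t * (s : H)⁻¹ * (t : H)⁻¹ * ((t : H) * s)
    group
  hsq := fun g hg => by
    obtain ⟨t, rfl⟩ := D.exists_preimage hg
    rw [D.πT_mk]
    show _ = D.ωT (D.repT.sqMap (TRep.toM t))
    rw [D.repT.sqMap_toM]; rfl
  gM := D.gMT
  gZ := D.gZT
  hgM := fun g hgX hg t ht => by
    obtain ⟨t, rfl⟩ := D.exists_preimage ht
    conv_lhs => rw [← (D.liftOf_spec hgX hg).2.2]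
    rw [← QuotientGroup.mk_inv, ← QuotientGroup.mk_mul, ← QuotientGroup.mk_mul, D.πT_mk t, D.gMT_toM]
    exact D.πT_mk (conjHom (D.liftOf_mem g) t)
  hgZ := fun g hgX hg z => by
    conv_lhs => rw [← (D.liftOf_spec hgX hg).2.2]
    rfl
  hB := fun g _ _ x y => by
    obtain ⟨s, rfl⟩ := TRep.toM_surjective x
    obtain ⟨t, rfl⟩ := TRep.toM_surjective y
    show D.gZT g (D.repT.form (TRep.toM s) (TRep.toM t)) = D.repT.form _ _
    rw [D.gMT_toM, D.gMT_toM, D.repT.form_toM, D.repT.form_toM, D.gZT_toZ]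
    exact congrArg Additive.ofMul (Subtype.ext (map_commutatorElement _ s t))
  hQ := fun g _ _ x => by
    obtain ⟨t, rfl⟩ := TRep.toM_surjective x
    show D.gZT g (D.repT.sqMap (TRep.toM t)) = D.repT.sqMap _
    rw [D.gMT_toM, D.repT.sqMap_toM, D.repT.sqMap_toM, D.gZT_toZ]
    exact congrArg Additive.ofMul (Subtype.ext (map_mul _ t t))
  hfixZs := fun g _ _ z hz => by
    obtain ⟨c, hc⟩ := hz
    refine congrArg Additive.ofMul (Subtype.ext (Subtype.ext ?_))
    show D.liftOf g * ((z.toMul : D.TH) : H) * (D.liftOf g)⁻¹ = ((z.toMul : D.TH) : H)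
    have hzc : ((z.toMul : D.TH) : H) ∈ center H := D.mem_center_of_scalar hc
    rw [mem_center_iff.1 hzc (D.liftOf g), mul_inv_cancel_right]
  κ := FlavellFpf.Min.kap
  κ_conj := fun g x y => by
    induction g using QuotientGroup.induction_on with
    | H g => induction x using QuotientGroup.induction_on with
      | H x => induction y using QuotientGroup.induction_on with
        | H y =>
          rw [← QuotientGroup.mk_inv, ← QuotientGroup.mk_mul, ← QuotientGroup.mk_mul, ← QuotientGroup.mk_mul,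
            ← QuotientGroup.mk_mul, FlavellFpf.Min.kap_mk, FlavellFpf.Min.kap_mk]
          intro h
          calc g * x * g⁻¹ * (g * y * g⁻¹) = g * (x * y) * g⁻¹ := by group
            _ = g * (y * x) * g⁻¹ := by rw [h]
            _ = _ := by group
  κ_symm := fun x y h => h.symm
  κ_T := fun s hs t ht => by
    obtain ⟨s, rfl⟩ := D.exists_preimage hs
    obtain ⟨t, rfl⟩ := D.exists_preimage ht
    rw [FlavellFpf.Min.kap_mk, D.πT_mk, D.πT_mk]
    refine Iff.trans ?_ D.repT.form_toM_eq_zero.symm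
    exact ⟨fun h => Subtype.ext h, fun h => congrArg Subtype.val h⟩
  κ_ω := fun g hgX hg z => by
    have h := (D.liftOf_spec hgX hg).2.2
    conv_lhs => rw [← h]
    show FlavellFpf.Min.kap _ ((((z.toMul : D.TH) : H)) : H ⧸ center H) ↔ _
    rw [FlavellFpf.Min.kap_mk]
    constructor
    · intro e
      refine congrArg Additive.ofMul (Subtype.ext (Subtype.ext ?_))
      show D.liftOf g * ((z.toMul : D.TH) : H) * (D.liftOf g)⁻¹ = ((z.toMul : D.TH) : H)
      rw [e, mul_inv_cancel_right]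
    · intro e
      have e' : D.liftOf g * ((z.toMul : D.TH) : H) * (D.liftOf g)⁻¹ = ((z.toMul : D.TH) : H) :=
        congrArg (fun w : D.ZT => ((w.toMul : D.TH) : H)) e
      exact mul_inv_eq_iff_eq_mul.1 e'
  κ_Tω := fun t ht z => by
    obtain ⟨t, rfl⟩ := D.exists_preimage ht
    show FlavellFpf.Min.kap _ ((((z.toMul : D.TH) : H)) : H ⧸ center H)
    rw [FlavellFpf.Min.kap_mk]
    exact congrArg Subtype.val (mem_center_iff.1 z.toMul.2 t)
  κ_mul := fun x y z => by
    induction x using QuotientGroup.induction_on with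
    | H x => induction y using QuotientGroup.induction_on with
      | H y => induction z using QuotientGroup.induction_on with
        | H z =>
          rw [← QuotientGroup.mk_mul, FlavellFpf.Min.kap_mk, FlavellFpf.Min.kap_mk, FlavellFpf.Min.kap_mk]
          intro h
          rw [mul_assoc, h, ← mul_assoc, ← mul_assoc z x y, mul_left_inj]
  κ_triv := fun g hgX hg hg1 t ht => by
    obtain ⟨hc, -, hcg⟩ := D.liftOf_spec hgX hg
    obtain ⟨t, rfl⟩ := D.exists_preimage ht
    conv in FlavellFpf.Min.kap g _ => rw [← hcg]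
    rw [FlavellFpf.Min.kap_mk]
    have key : ∀ x ∈ moved D.α D.TH, x ∈ centralizer ({D.liftOf g} : Set H) := by
      intro x hx
      refine (closure_le _).2 ?_ hx
      rintro _ ⟨x, hx, rfl⟩
      rw [SetLike.mem_coe, mem_centralizer_singleton_iff]
      have h1 : TRep.toM (conjHom (D.liftOf_mem g) ⟨x, hx⟩) = TRep.toM ⟨x, hx⟩ := by
        rw [← D.gMT_toM, hg1]; rfl
      have hw := TRep.of_eq_of.1 (Additive.ofMul.injective h1.symm)
      rw [← D.repT.center_eq_commutator] at hw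
      set w : D.TH := (⟨x, hx⟩ : D.TH)⁻¹ * conjHom (D.liftOf_mem g) ⟨x, hx⟩ with hwdef
      have hwv : (w : H) = x⁻¹ * (D.liftOf g * x * (D.liftOf g)⁻¹) := rfl
      have hwf := D.center_TH_fixed hw
      have hwc : ((resAut D.TH_inv ⟨x, hx⟩ : D.TH) : H) = D.α x := rfl
      have e1 : x⁻¹ * D.α x * w = w * (x⁻¹ * D.α x) := congrArg Subtype.val
        (mem_center_iff.1 hw ((⟨x, hx⟩ : D.TH)⁻¹ * resAut D.TH_inv ⟨x, hx⟩))
      have e2 : D.liftOf g * (x⁻¹ * D.α x) * (D.liftOf g)⁻¹ = x⁻¹ * D.α x := by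
        calc D.liftOf g * (x⁻¹ * D.α x) * (D.liftOf g)⁻¹
            = (x * w)⁻¹ * D.α (x * w) := by
              rw [hwv]; simp only [map_mul, map_inv, hc]; group
          _ = (w : H)⁻¹ * (x⁻¹ * D.α x * w) := by rw [map_mul, hwf]; group
          _ = _ := by rw [e1, inv_mul_cancel_left]
      exact (mul_inv_eq_iff_eq_mul.1 e2).symm
    exact (mem_centralizer_singleton_iff.1 (key t (D.TH_moved.symm ▸ t.2))).symm

include D in
/-- There is no minimal counterexample. -/
theorem false : False := by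
  obtain ⟨n, hn, hrn⟩ := D.repT.exists_n
  obtain ⟨B⟩ := (D.bar hn hrn).exists_gbar
  exact B.contradiction

end Min

end CfsgLib.FlavellHHS
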