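import Cfsg.Agent.Lib.FlavellHHS.Solv
import Cfsg.Agent.Lib.FlavellHHS.Endgame
import Cfsg.Agent.Lib.FlavellFpf.MinBar0

/-!
The central quotient of a minimal counterexample is a `Bar0`.
-/

set_option autoImplicit false
set_option linter.unusedSectionVars false

namespace CfsgLib.FlavellHHS

open Subgroup CfsgLib.CoprimeCentral CfsgLib.FlavellFpf

/-- The image of a `p`-by-`2` group. -/
theorem PTwo.map {p : ℕ} {H K : Type*} [Group H] [Group K] {N : Subgroup H} (h : PTwo p N) (f : H →* K) :
    PTwo p (N.map f) := by
  obtain ⟨R, hRN, hRp, hn, hsq⟩ := h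
  refine ⟨R.map f, Subgroup.map_mono hRN, hRp.map _, (Subgroup.map_mono hn).trans (Subgroup.le_normalizer_map f),
    ?_⟩
  rintro _ ⟨x, hx, rfl⟩
  obtain ⟨j, hj⟩ := hsq x hx
  exact ⟨j, ⟨_, hj, map_pow f x _⟩⟩

namespace Min

variable {H : Type*} [Group H] [Finite H] {k : Type*} [Field k] [IsAlgClosed k] {W : Type*}
  [AddCommGroup W] [Module k W] [FiniteDimensional k W] {p r : ℕ} (D : Min k H W p r)

/-- The automorphism of the central quotient. -/
noncomputable def αbar : MulAut (H ⧸ center H) := quotAut D.inv_center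

theorem αbar_mk (x : H) : D.αbar (x : H ⧸ center H) = ((D.α x : H) : H ⧸ center H) := rfl

include D in
theorem not_comm_quot : ¬ ∀ x y : H ⧸ center H, x * y = y * x := by
  intro h
  have := D.fact_p
  obtain ⟨P, hP⟩ := D.exists_invariant_sylow_p
  set N := ((P : Subgroup H).map (QuotientGroup.mk' (center H))).comap (QuotientGroup.mk' (center H)) with hN
  have hNn : N.Normal := by
    have : ((P : Subgroup H).map (QuotientGroup.mk' (center H))).Normal :=
      ⟨fun x hx g => by rwa [h g x, mul_inv_cancel_right]⟩
    exact this.comap _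
  have hNi : Inv D.α N := Inv.comap_mk D.inv_center (Inv.map_mk D.inv_center hP)
  have hPN : (P : Subgroup H) ≤ N := Subgroup.le_comap_map _ _
  have hPn : (P : Subgroup H).Normal := by
    rcases eq_or_ne N ⊤ with e | e
    · refine Subgroup.normalizer_eq_top_iff.1 (top_unique ?_)
      rw [← e, hN, Subgroup.comap_map_eq, QuotientGroup.ker_mk']
      exact sup_le Subgroup.le_normalizer
        ((Subgroup.center_le_centralizer _).trans (Subgroup.centralizer_le_normalizer _))
    · refine ⟨fun x hx g => ?_⟩
      rwa [mem_center_iff.1 ((hPN.trans (D.normal_le_center hNi e)) hx) g, mul_inv_cancel_right]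
  exact P.ne_bot_of_dvd_card D.p_dvd_card (D.normal_pGroup_eq_bot hP P.2)

theorem comap_ne_top {L : Subgroup (H ⧸ center H)} (hne : L ≠ ⊤) :
    L.comap (QuotientGroup.mk' (center H)) ≠ ⊤ := fun h => hne (by
  rw [← Subgroup.map_comap_eq_self_of_surjective (QuotientGroup.mk'_surjective (center H)) L, h,
    Subgroup.map_top_of_surjective _ (QuotientGroup.mk'_surjective _)])

theorem card_comap_mk (L : Subgroup (H ⧸ center H)) :
    Nat.card ↥(L.comap (QuotientGroup.mk' (center H))) = Nat.card (center H) * Nat.card L := by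
  set Lc := L.comap (QuotientGroup.mk' (center H))
  have hle : center H ≤ Lc := fun x hx => by
    show QuotientGroup.mk' (center H) x ∈ L
    rw [show QuotientGroup.mk' (center H) x = 1 from (QuotientGroup.eq_one_iff x).2 hx]; exact L.one_mem
  have e := Subgroup.relIndex_mul_relIndex ⊥ (center H) Lc bot_le hle
  have h2 : (center H).relIndex Lc = Nat.card L := by
    have hk : (⊥ : Subgroup (H ⧸ center H)).comap (QuotientGroup.mk' (center H)) = center H :=
      (MonoidHom.comap_bot _).trans (QuotientGroup.ker_mk' _)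
    calc (center H).relIndex Lc = ((⊥ : Subgroup (H ⧸ center H)).comap (QuotientGroup.mk' (center H))).relIndex Lc := by
          rw [hk]
      _ = _ := by
        rw [Subgroup.relIndex_comap, Subgroup.map_comap_eq_self_of_surjective (QuotientGroup.mk'_surjective _),
          Subgroup.relIndex_bot_left]
  rwa [Subgroup.relIndex_bot_left, Subgroup.relIndex_bot_left, h2, eq_comm] at e

/-- The abstract properties of the central quotient. -/
noncomputable def bar0 : Bar0 (H ⧸ center H) p r where
  hp := D.hp
  hp2 := D.hp2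
  hr := D.hr
  α := D.αbar
  hαr := quotAut_pow_eq_one _ D.hαr
  hrG := fun h => D.hrH (h.trans (center H).card_quotient_dvd_card)
  hpG := by
    have h := D.p_dvd_card
    rw [(center H).card_eq_card_quotient_mul_card_subgroup] at h
    exact ((Nat.Prime.dvd_mul D.hp).1 h).resolve_right D.center_not_dvd
  hmov := by
    have e := moved_map_mk D.inv_center (⊤ : Subgroup H)
    rw [D.moved_top, Subgroup.map_top_of_surjective _ (QuotientGroup.mk'_surjective _)] at e
    exact e
  hIH := by
    intro L hL hne
    have e := moved_map_mk D.inv_center (L.comap (QuotientGroup.mk' (center H)))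
    rw [Subgroup.map_comap_eq_self_of_surjective (QuotientGroup.mk'_surjective _) L] at e
    show PTwo p (moved (quotAut D.inv_center) L)
    rw [e]
    exact (D.IH _ (Inv.comap_mk D.inv_center hL) (comap_ne_top hne)).map _
  hnorm := by
    intro N hN hi
    have := hN.comap (QuotientGroup.mk' (center H))
    by_cases hne : N = ⊤
    · exact Or.inr hne
    left
    refine (Subgroup.eq_bot_iff_forall _).2 fun x hx => ?_
    induction x using QuotientGroup.induction_on with
    | H x =>
      exact (QuotientGroup.eq_one_iff x).2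
        (D.normal_le_center (Inv.comap_mk D.inv_center hi) (comap_ne_top hne) hx)
  hna := D.not_comm_quot
  hodd := by
    intro ℓ hℓ h2 hp L hL hLp
    have : Fact ℓ.Prime := ⟨hℓ⟩
    obtain ⟨R, hR, hRp, rfl⟩ := exists_pGroup_lift D.hr D.hαr D.hrH D.inv_center hL hLp
    rintro _ ⟨x, hx, rfl⟩
    exact congrArg (fun y : H => (y : H ⧸ center H)) (D.odd_fixed hℓ h2 hp hR hRp hx)
  hmoved2 := by
    intro L hL hpL
    have h := D.moved_two_group (Inv.comap_mk D.inv_center hL) (fun h => by
      rw [card_comap_mk] at h
      exact ((Nat.Prime.dvd_mul D.hp).1 h).elim D.center_not_dvd hpL)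
    have e := moved_map_mk D.inv_center (L.comap (QuotientGroup.mk' (center H)))
    rw [Subgroup.map_comap_eq_self_of_surjective (QuotientGroup.mk'_surjective _) L] at e
    show IsPGroup 2 ↥(moved (quotAut D.inv_center) L)
    rw [e]; exact h.map _

/-- The lift of `T` to the minimal counterexample. -/
theorem exists_TH : ∃ TH : Subgroup H, Inv D.α TH ∧ moved D.α TH = TH ∧ IsPGroup 2 TH ∧ TH ≠ ⊥ ∧
    TH.map (QuotientGroup.mk' (center H)) = D.bar0.T := by
  have : Fact (Nat.Prime 2) := ⟨Nat.prime_two⟩
  obtain ⟨R, hR, hR2, hmap⟩ := exists_pGroup_lift D.hr D.hαr D.hrH D.inv_center (L := D.bar0.Q)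
    D.bar0.Q_inv D.bar0.Q_two
  have e : (moved D.α R).map (QuotientGroup.mk' (center H)) = D.bar0.T := by
    rw [← moved_map_mk D.inv_center, hmap]; rfl
  refine ⟨moved D.α R, inv_moved hR, moved_moved D.hr D.hαr D.hrH hR, hR2.to_le (moved_le hR), fun h => ?_, e⟩
  exact D.bar0.T_ne_bot (by rw [← e, h, Subgroup.map_bot])

end Min

end CfsgLib.FlavellHHS
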