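import Cfsg.Agent.Lib.FlavellHHS.SolvE
import Cfsg.Agent.Lib.FrobeniusFree.Module

/-!
A minimal counterexample has no proper non-central normal invariant subgroup.
-/

set_option autoImplicit false
set_option linter.unusedSectionVars false
set_option linter.style.haveILetI false
set_option maxHeartbeats 1000000

namespace CfsgLib.FlavellHHS

open Subgroup CfsgLib.CoprimeCentral CfsgLib.FlavellFpf
open scoped commutatorElement IsMulCommutative

namespace Min

variable {H : Type*} [Group H] [Finite H] {k : Type*} [Field k] [IsAlgClosed k] {W : Type*}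
  [AddCommGroup W] [Module k W] [FiniteDimensional k W] {p r : ℕ} (D : Min k H W p r)

/-- Coprime action on `E / Z`. -/
theorem commute_of_comm_center {P : Sylow p H} (hP : Inv D.α (P : Subgroup H)) {E : Subgroup H}
    (hE : D.ExtraNormal P E) : ∀ x ∈ (P : Subgroup H), ∀ e ∈ E, x * e * x⁻¹ * e⁻¹ ∈ center H →
      x * e = e * x := by
  have := D.fact_p
  have hp := D.hp
  set C := center H with hCdef
  have hpE : ¬ p ∣ Nat.card E := D.not_dvd_two hE.two
  intro x hx e he hc
  set c := x * e * x⁻¹ * e⁻¹ with hcdef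
  have hpow : ∀ m : ℕ, x ^ m * e * (x ^ m)⁻¹ = c ^ m * e := by
    intro m
    induction m with
    | zero => simp
    | succ m ih =>
      rw [pow_succ', pow_succ', mul_inv_rev]
      calc x * x ^ m * e * ((x ^ m)⁻¹ * x⁻¹) = x * (x ^ m * e * (x ^ m)⁻¹) * x⁻¹ := by group
        _ = x * c ^ m * e * x⁻¹ := by rw [ih]; group
        _ = c ^ m * (x * e * x⁻¹) := by rw [mem_center_iff.1 (C.pow_mem hc m) x]; group
        _ = c ^ m * (c * e) := by rw [hcdef]; group
        _ = c * c ^ m * e := by rw [← mul_assoc, ← pow_succ, pow_succ']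
  obtain ⟨j, hj⟩ := P.2 ⟨x, hx⟩
  have hxj : x ^ p ^ j = 1 := congrArg Subtype.val hj
  have h1 := hpow (p ^ j)
  rw [hxj] at h1
  simp only [one_mul, inv_one, mul_one] at h1
  have hcE : c ∈ E := E.mul_mem (hE.normal.conj_mem e he x) (E.inv_mem he)
  have h2 : c ^ p ^ j = 1 := (mul_eq_right.1 h1.symm)
  have h3 : c ^ Nat.card E = 1 := congrArg Subtype.val (pow_card_eq_one' (x := (⟨c, hcE⟩ : E)))
  have h4 : orderOf c = 1 := Nat.eq_one_of_dvd_coprimes
    ((Nat.Coprime.pow_left j (hp.coprime_iff_not_dvd.2 hpE)))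
    (orderOf_dvd_of_pow_eq_one h2) (orderOf_dvd_of_pow_eq_one h3)
  rw [orderOf_eq_one_iff, hcdef, mul_inv_eq_one, mul_inv_eq_iff_eq_mul] at h4
  exact h4

/-- `P` acts faithfully on `E`. -/
theorem eq_one_of_mem_cent {P : Sylow p H} (hP : Inv D.α (P : Subgroup H)) {E : Subgroup H}
    (hE : D.ExtraNormal P E) : ∀ x ∈ (P : Subgroup H), x ∈ centralizer (E : Set H) → x = 1 := by
  have := D.fact_p
  have hEn := hE.normal
  set K := (P : Subgroup H) ⊓ centralizer (E : Set H) with hK
  have hKn : K.Normal := by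
    rw [← Subgroup.normalizer_eq_top_iff, eq_top_iff, ← hE.sup, sup_le_iff]
    constructor
    · intro g hg
      refine mem_normalizer_of_conj_mem fun y hy => ?_
      rw [mem_centralizer_iff.1 hy.2 g hg, mul_inv_cancel_right]; exact hy
    · intro g hg
      refine mem_normalizer_of_conj_mem fun y hy => ⟨(P : Subgroup H).mul_mem
        ((P : Subgroup H).mul_mem hg hy.1) ((P : Subgroup H).inv_mem hg), ?_⟩
      exact (inferInstance : (centralizer (E : Set H)).Normal).conj_mem y hy.2 g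
  have h0 : K = ⊥ := D.normal_pGroup_eq_bot (hP.inf hE.inv.centralizer) (P.2.to_le inf_le_left)
  exact fun x hx hxc => mem_bot.1 (h0 ▸ ⟨hx, hxc⟩)

/-- A fixed element of `P` central in `P` is trivial. -/
theorem frattini_elt {P : Sylow p H} (hP : Inv D.α (P : Subgroup H)) {E : Subgroup H}
    (hE : D.ExtraNormal P E) {z : H} (hz : z ∈ (P : Subgroup H)) (hzf : D.α z = z)
    (hzc : ∀ x ∈ (P : Subgroup H), x * z = z * x) : z = 1 := by
  classical
  have := D.fact_p
  have : Fact (Nat.Prime 2) := ⟨Nat.prime_two⟩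
  have hEn := hE.normal
  set T := moved D.α E with hTdef
  have hTi : Inv D.α T := inv_moved hE.inv
  have hTne : T ≠ ⊥ := fun h => hE.not_central (D.fixed_normal_le_center (moved_eq_bot_iff.1 h))
  have hTE : T ≤ E := moved_le hE.inv
  let A := D.trep hTi (moved_moved D.hr D.hαr D.hrH hE.inv) hTne Nat.prime_two (fun h => D.hp2 h.symm)
    (hE.two.to_le hTE)
  obtain ⟨n, hn, hrn⟩ := A.exists_n
  let Sp := A.space n hn hrn
  have hcomC : ∀ u v : T, ((⁅u, v⁆ : T) : H) ∈ center H := fun u v => hE.comm _ (hTE u.2) _ (hTE v.2)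
  have hcen : ∀ u ∈ center T, (u : H) ∈ center H := by
    intro u hu
    have hle : commutator T ≤ (center H).subgroupOf T := (commutator_le).2 fun x _ y _ => hcomC x y
    exact hle (A.center_eq_commutator ▸ hu)
  have hZs : ∀ u, u ∈ Sp.Zs := fun u => D.center_scalar (hcen _ u.toMul.2)
  -- conjugation by `z`
  have hzN : z ∈ normalizer (T : Set H) := mem_normalizer_of_conj_mem
    (moved_normalized hzf fun y hy => hEn.conj_mem y hy z)
  let cz : T →* T := MonoidHom.mk' (fun t => ⟨z * t * z⁻¹, (mem_normalizer_iff.1 hzN t).1 t.2⟩)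
    fun u v => Subtype.ext (by show z * (u * v : H) * z⁻¹ = z * u * z⁻¹ * (z * v * z⁻¹); group)
  let g : AddMonoid.End (Additive (Abelianization T)) := MonoidHom.toAdditive (Abelianization.map cz)
  have hg : ∀ t, g (TRep.toM t) = TRep.toM (cz t) := fun t => rfl
  have hgpow : ∀ (j : ℕ) (t : T), ∃ t' : T, (g ^ j) (TRep.toM t) = TRep.toM t' ∧
      (t' : H) = z ^ j * t * (z ^ j)⁻¹ := by
    intro j t
    induction j with
    | zero => exact ⟨t, by simp, by simp⟩
    | succ j ih =>
      obtain ⟨t', h1, h2⟩ := ih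
      refine ⟨cz t', by rw [pow_succ', AddMonoid.End.coe_mul, Function.comp_apply, h1, hg], ?_⟩
      show z * (t' : H) * z⁻¹ = _
      rw [h2, pow_succ']; group
  obtain ⟨u, hu⟩ : ∃ u : Additive ↥(center T), u ≠ 0 := by
    by_contra h
    push Not at h
    obtain ⟨x, hx⟩ := @exists_ne T A.hne 1
    have hcom : ∀ u ∈ (⊤ : Subgroup T), ∀ v ∈ (⊤ : Subgroup T), u * v = v * u := fun u _ v _ =>
      A.form_toM_eq_zero.1 (h _)
    have h1 := moved_eq_bot_iff.2 (A.fixed_of_comm inv_top hcom)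
    rw [A.htop] at h1
    exact hx (mem_bot.1 (h1 ▸ mem_top x))
  obtain ⟨χ, hW, -⟩ := Sp.exists_isW hu
  have hinj : ∀ w, χ w = 0 → w = 0 := fun w hw => Sp.eq_zero_of_mem_Zs hW.1 (hZs w) hw
  have hR : Sp.Rad χ = ⊥ := (AddSubgroup.eq_bot_iff_forall _).2 fun x hx =>
    Sp.B_nondeg fun y => hinj _ (hx y)
  obtain ⟨x0, y0, hxy⟩ : ∃ x y, χ (Sp.B x y) ≠ 0 := by
    by_contra h
    push Not at h
    exact Sp.Rad_ne_top hW ((AddSubgroup.eq_top_iff' _).2 fun x y => h x y)
  have hirr := Sp.irr_rad hW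
  rw [hR] at hirr
  have hrig := Sp.rigid hirr χ (fun x hx y _ => by rw [AddSubgroup.mem_bot.1 hx, map_zero]; simp)
    ⟨x0, AddSubgroup.mem_top _, y0, AddSubgroup.mem_top _, hxy⟩ g
    (DFunLike.ext _ _ fun m => by
      obtain ⟨t, rfl⟩ := TRep.toM_surjective m
      show TRep.toM (cz (A.β t)) = TRep.toM (A.β (cz t))
      refine congrArg TRep.toM (Subtype.ext ?_)
      show z * D.α (t : H) * z⁻¹ = D.α (z * t * z⁻¹)
      rw [map_mul, map_mul, map_inv, hzf])
    (fun x _ => AddSubgroup.mem_top _)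
    (fun x hx => by rw [AddSubgroup.mem_bot.1 hx, map_zero]; exact zero_mem _)
    (fun x _ y _ => by
      obtain ⟨s, rfl⟩ := TRep.toM_surjective x
      obtain ⟨t, rfl⟩ := TRep.toM_surjective y
      rw [hg, hg]
      refine congrArg χ (congrArg Additive.ofMul (Subtype.ext (Subtype.ext ?_)))
      show ((⁅cz s, cz t⁆ : T) : H) = ((⁅s, t⁆ : T) : H)
      rw [← map_commutatorElement]
      show z * ((⁅s, t⁆ : T) : H) * z⁻¹ = _
      rw [mem_center_iff.1 (hcomC s t) z, mul_inv_cancel_right])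
    (m := Nat.card H) (DFunLike.ext _ _ fun m => by
      obtain ⟨t, rfl⟩ := TRep.toM_surjective m
      obtain ⟨t', h1, h2⟩ := hgpow (Nat.card H) t
      rw [h1, AddMonoid.End.coe_one, id]
      refine congrArg TRep.toM (Subtype.ext ?_)
      rw [h2, pow_card_eq_one']; group)
    (hrn ▸ D.hrH)
  have hzT : ∀ t ∈ T, z * t = t * z := by
    intro t ht
    have h1 := AddSubgroup.mem_bot.1 (hrig (TRep.toM ⟨t, ht⟩) (AddSubgroup.mem_top _))
    rw [hg, Sp.madd_eq_zero_iff] at h1
    have h2 : (cz ⟨t, ht⟩)⁻¹ * ⟨t, ht⟩ ∈ center T := by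
      rw [A.center_eq_commutator]
      exact TRep.of_eq_of.1 (Additive.ofMul.injective h1)
    refine D.commute_of_comm_center hP hE z hz t (hTE ht) ?_
    have h3 := hcen _ h2
    have h4 := (center H).inv_mem h3
    have e : ((((cz ⟨t, ht⟩)⁻¹ * ⟨t, ht⟩ : T)) : H)⁻¹ = t⁻¹ * (z * t * z⁻¹) := by
      show ((z * t * z⁻¹)⁻¹ * t)⁻¹ = _
      group
    rw [e] at h4
    have e2 : z * t * z⁻¹ * t⁻¹ = t * (t⁻¹ * (z * t * z⁻¹)) * t⁻¹ := by group
    rw [e2, mem_center_iff.1 h4 t, mul_inv_cancel_right]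
    exact h4
  set K := E ⊓ centralizer ({z} : Set H) with hK
  have hKn : K.Normal := by
    rw [← Subgroup.normalizer_eq_top_iff, eq_top_iff, ← hE.sup, sup_le_iff]
    constructor
    · intro h hh
      refine mem_normalizer_of_conj_mem fun y hy => ⟨hEn.conj_mem y hy.1 h, ?_⟩
      have e1 : h * y * h⁻¹ = ⁅h, y⁆ * y := by rw [commutatorElement_def]; group
      rw [SetLike.mem_coe, e1]
      exact (centralizer _).mul_mem (Subgroup.center_le_centralizer _ (hE.comm h hh y hy.1)) hy.2
    · intro h hh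
      refine mem_normalizer_of_conj_mem fun y hy => ⟨hEn.conj_mem y hy.1 h, ?_⟩
      have hy2 := mem_centralizer_singleton_iff.1 hy.2
      have hhz := hzc h hh
      show h * y * h⁻¹ ∈ centralizer ({z} : Set H)
      rw [mem_centralizer_singleton_iff]
      calc h * y * h⁻¹ * z = h * y * (h⁻¹ * z * h) * h⁻¹ := by group
        _ = h * (y * z) * h⁻¹ := by rw [mul_assoc h⁻¹, ← hhz]; group
        _ = h * (z * y) * h⁻¹ := by rw [hy2]
        _ = (h * z) * y * h⁻¹ := by group
        _ = _ := by rw [hhz]; group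
  have hKi : Inv D.α K := hE.inv.inf (inv_of_forall fun y hy => by
    rw [mem_centralizer_singleton_iff] at hy ⊢
    have h := congrArg D.α hy
    rwa [map_mul, map_mul, hzf] at h)
  refine D.eq_one_of_mem_cent hP hE z hz (mem_centralizer_iff.2 fun e he => ?_)
  rcases eq_or_lt_of_le (inf_le_left : K ≤ E) with hKe | hKe
  · exact mem_centralizer_singleton_iff.1 (hKe.symm.le he).2
  · exfalso
    have hKc := hE.min K hKn hKi hKe
    refine hTne ?_
    have h := moved_eq_bot_iff.2 (show moved D.α E ≤ fixedSub D.α from fun t ht =>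
      D.center_fixed (hKc ⟨hTE ht, mem_centralizer_singleton_iff.2 (hzT t ht).symm⟩))
    rwa [moved_moved D.hr D.hαr D.hrH hE.inv] at h

/-- `α` acts fixed point freely on `P`. -/
theorem sylow_fpf {P : Sylow p H} (hP : Inv D.α (P : Subgroup H)) {E : Subgroup H}
    (hE : D.ExtraNormal P E) : (P : Subgroup H) ⊓ fixedSub D.α = ⊥ := by
  classical
  have := D.fact_p
  have : Fact (Nat.Prime 2) := ⟨Nat.prime_two⟩
  have hEn := hE.normal
  have hPC := D.eq_one_of_mem_cent hP hE
  -- proper invariant subgroups of `P` are fixed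
  have hsub : ∀ P1 : Subgroup H, Inv D.α P1 → P1 < (P : Subgroup H) → P1 ≤ fixedSub D.α := by
    intro P1 h1 hlt
    refine D.fixed_of_le_cent hE.inv hE.not_central h1 (P.2.to_le hlt.le)
      (D.moved_le_cent hE.inv hE.two h1 (P.2.to_le hlt.le) fun htop => hlt.not_ge fun x hx => ?_)
    have hx' : x ∈ ((E ⊔ P1 : Subgroup H) : Set H) := htop.symm.le (mem_top x)
    rw [Subgroup.normal_mul E P1] at hx'
    obtain ⟨e, he, y, hy, rfl⟩ := hx'
    have he' : e ∈ (P : Subgroup H) := by
      simpa using (P : Subgroup H).mul_mem hx ((P : Subgroup H).inv_mem (hlt.le hy))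
    have he1 : e = 1 := mem_bot.1 (eq_bot_of_two_and_p D.hp2
      (P.2.to_le (inf_le_right : E ⊓ (P : Subgroup H) ≤ P)) (hE.two.to_le inf_le_left) ▸ ⟨he, he'⟩)
    show e * y ∈ P1
    rwa [he1, one_mul]
  have hPnf : ¬ (P : Subgroup H) ≤ fixedSub D.α := D.not_sylow_fixed hP
  have hPmov : moved D.α (P : Subgroup H) = P := by
    by_contra hne
    have h := moved_eq_bot_iff.2 (hsub _ (inv_moved hP) (lt_of_le_of_ne (moved_le hP) hne))
    rw [moved_moved D.hr D.hαr D.hrH hP, moved_eq_bot_iff] at h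
    exact hPnf h
  -- the Frattini subgroup is trivial
  set Φ := (frattini (P : Subgroup H)).map (P : Subgroup H).subtype with hΦdef
  have hΦle : Φ ≤ (P : Subgroup H) := Subgroup.map_subtype_le _
  have hPne : (P : Subgroup H) ≠ ⊥ := fun h => hPnf (h.le.trans bot_le)
  have hΦlt : Φ < (P : Subgroup H) := by
    refine lt_of_le_of_ne hΦle fun h => ?_
    have h1 : frattini (P : Subgroup H) = ⊤ := by
      apply Subgroup.map_injective (P : Subgroup H).subtype_injective
      rw [← hΦdef, h, ← MonoidHom.range_eq_map, Subgroup.range_subtype]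
    have : Nontrivial (P : Subgroup H) := (Subgroup.nontrivial_iff_ne_bot _).2 hPne
    obtain ⟨M, hM, -⟩ := (eq_top_or_exists_le_coatom (⊥ : Subgroup (P : Subgroup H))).resolve_left bot_ne_top
    exact hM.1 (top_unique (h1.symm.le.trans (frattini_le_coatom hM)))
  have hΦfix : Φ ≤ fixedSub D.α := hsub Φ (hP.of_characteristic _) hΦlt
  have hΦc : ∀ x ∈ (P : Subgroup H), ∀ z ∈ Φ, x * z = z * x := by
    have hn : (P : Subgroup H) ≤ normalizer (Φ : Set H) := fun g hg => mem_normalizer_of_conj_mem fun y hy => by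
      obtain ⟨y, hy, rfl⟩ := hy
      exact ⟨⟨g, hg⟩ * y * ⟨g, hg⟩⁻¹, (inferInstance : (frattini (P : Subgroup H)).Normal).conj_mem y hy _, rfl⟩
    intro x hx z hz
    exact (mem_centralizer_iff.1 (moved_le_centralizer hΦfix hn (hPmov.symm ▸ hx)) z hz).symm
  have hΦ1 : ∀ z ∈ Φ, z = 1 := fun z hz => D.frattini_elt hP hE (hΦle hz) (hΦfix hz) fun x hx => hΦc x hx z hz
  have hab : ∀ x ∈ (P : Subgroup H), ∀ y ∈ (P : Subgroup H), x * y = y * x := fun x hx y hy => by
    refine commutatorElement_eq_one_iff_mul_comm.1 (hΦ1 _ ⟨⁅(⟨x, hx⟩ : (P : Subgroup H)), ⟨y, hy⟩⁆, ?_, rfl⟩)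
    exact CfsgLib.PGroup.commutator_le_frattini P.2 (commutator_mem_commutator (mem_top _) (mem_top _))
  have := moved_inf_fixed_eq_bot D.hr D.hαr D.hrH hP hab
  rwa [hPmov] at this

theorem extraNormal_false {P : Sylow p H} (hP : Inv D.α (P : Subgroup H)) {E : Subgroup H}
    (hE : D.ExtraNormal P E) : False := by
  classical
  have := D.fact_p
  have hp := D.hp
  have : Fact (Nat.Prime 2) := ⟨Nat.prime_two⟩
  have := hE.normal
  set C := center H with hCdef
  have hpE : ¬ p ∣ Nat.card E := D.not_dvd_two hE.two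
  obtain ⟨jE, hjE⟩ := IsPGroup.iff_card.1 hE.two
  have hcop := D.commute_of_comm_center hP hE
  have hPp : p ∣ Nat.card (P : Subgroup H) := Sylow.dvd_card_of_dvd_card P D.p_dvd_card
  have hPC := D.eq_one_of_mem_cent hP hE
  -- `E` is not abelian
  have hnab : ¬ ∀ x ∈ E, ∀ y ∈ E, x * y = y * x := fun h =>
    hE.not_central (D.fixed_normal_le_center (D.fixed_of_comm hE.inv h hpE))
  -- no vector fixed by `P`
  have hPfix : ∀ e ∈ E, (∀ x ∈ (P : Subgroup H), x * e = e * x) → e ∈ C := by
    intro e he hcomm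
    set K := E ⊓ centralizer ((P : Subgroup H) : Set H) with hK
    have hKn : K.Normal := by
      rw [← Subgroup.normalizer_eq_top_iff, eq_top_iff, ← hE.sup, sup_le_iff]
      constructor
      · intro g hg
        refine mem_normalizer_of_conj_mem fun y hy => ⟨hE.normal.conj_mem y hy.1 g, ?_⟩
        have hc := hE.comm g hg y hy.1
        have e1 : g * y * g⁻¹ = ⁅g, y⁆ * y := by rw [commutatorElement_def]; group
        rw [SetLike.mem_coe, e1]
        exact (centralizer _).mul_mem (Subgroup.center_le_centralizer _ hc) hy.2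
      · intro g hg
        refine mem_normalizer_of_conj_mem fun y hy => ⟨hE.normal.conj_mem y hy.1 g, ?_⟩
        have e1 : g * y * g⁻¹ = y := by rw [mem_centralizer_iff.1 hy.2 g hg, mul_inv_cancel_right]
        rw [SetLike.mem_coe, e1]; exact hy.2
    have hKi : Inv D.α K := hE.inv.inf (Inv.centralizer hP)
    rcases eq_or_lt_of_le (inf_le_left : K ≤ E) with hKe | hKe
    · obtain ⟨x, hx, hx1⟩ : ∃ x ∈ (P : Subgroup H), x ≠ 1 := by
        by_contra h
        push Not at h
        rw [(Subgroup.eq_bot_iff_forall _).2 h, Subgroup.card_bot] at hPp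
        exact hp.one_lt.ne' (Nat.dvd_one.1 hPp)
      exact absurd (hPC x hx (mem_centralizer_iff.2 fun f hf =>
        (mem_centralizer_iff.1 (hKe.symm.le hf).2 x hx).symm)) hx1
    · exact hE.min K hKn hKi hKe ⟨he, mem_centralizer_iff.2 fun x hx => hcomm x hx⟩
  -- `T = [E, α]`
  set T := moved D.α E with hTdef
  have hTi : Inv D.α T := inv_moved hE.inv
  have hTne : T ≠ ⊥ := fun h => hE.not_central (D.fixed_normal_le_center (moved_eq_bot_iff.1 h))
  have hTE : T ≤ E := moved_le hE.inv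
  let A := D.trep hTi (moved_moved D.hr D.hαr D.hrH hE.inv) hTne Nat.prime_two (fun h => D.hp2 h.symm)
    (hE.two.to_le hTE)
  obtain ⟨n, hn, hrn⟩ := A.exists_n
  have hcomC : ∀ z ∈ center T, (z : H) ∈ C := by
    intro z hz
    have hle : commutator T ≤ C.subgroupOf T := (commutator_le).2 fun x _ y _ =>
      hE.comm _ (hTE x.2) _ (hTE y.2)
    exact hle (A.center_eq_commutator ▸ hz)
  have hCT : C.subgroupOf T = center T := le_antisymm
    (fun z hz => mem_center_iff.2 fun g => Subtype.ext (mem_center_iff.1 hz (g : H))) hcomC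
  -- the quotient
  set q := QuotientGroup.mk' C with hq
  set αb := quotAut D.inv_center with hαb
  have hrQ : ¬ r ∣ Nat.card (H ⧸ C) := fun h => D.hrH (h.trans C.card_quotient_dvd_card)
  have hαbr : αb ^ r = 1 := quotAut_pow_eq_one D.inv_center D.hαr
  have hTb : Nat.card (T.map q) = 2 ^ (2 * n) := by
    have e : T.map q = (q.comp T.subtype).range := by
      rw [MonoidHom.range_comp, Subgroup.range_subtype]
    rw [e, ← Nat.card_congr (QuotientGroup.quotientKerEquivRange (q.comp T.subtype)).toEquiv]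
    have hker : (q.comp T.subtype).ker = center T := by
      rw [← hCT]; ext z
      rw [MonoidHom.mem_ker, MonoidHom.comp_apply, mem_subgroupOf]
      exact QuotientGroup.eq_one_iff _
    rw [Nat.card_congr (QuotientGroup.quotientMulEquivOfEq hker).toEquiv,
      A.card_quot_of_scalar (fun z hz => D.center_scalar (hcomC z hz)), hrn, Nat.add_sub_cancel,
      ← pow_mul, mul_comm]
  set V := E.map q with hVdef
  have hVn : V.Normal := hE.normal.map q (QuotientGroup.mk'_surjective C)
  have hVi : Inv αb V := Inv.map_mk D.inv_center hE.inv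
  have hVsq : ∀ v ∈ V, v * v = 1 := by
    rintro _ ⟨e, he, rfl⟩
    rw [← map_mul]
    exact (QuotientGroup.eq_one_iff _).2 (hE.sq e he)
  have hVc : ∀ a b : V, a * b = b * a := fun a b => Subtype.ext (by
    have h1 := hVsq _ (V.mul_mem a.2 b.2)
    have ha := inv_eq_of_mul_eq_one_right (hVsq a a.2)
    have hb := inv_eq_of_mul_eq_one_right (hVsq b b.2)
    have hab := inv_eq_of_mul_eq_one_right h1
    rw [mul_inv_rev, ha, hb] at hab
    exact hab.symm)
  letI : CommGroup V := { (inferInstance : Group V) with mul_comm := hVc }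
  have h2V : ∀ v : Additive V, 2 • v = 0 := fun v => by
    rw [two_nsmul]; exact congrArg Additive.ofMul (Subtype.ext (hVsq _ v.toMul.2))
  letI : Module (ZMod 2) (Additive V) := AddCommGroup.zmodModule h2V
  have : Finite (Additive V) := inferInstanceAs (Finite V)
  have : FiniteDimensional (ZMod 2) (Additive V) := Module.Finite.of_finite
  set β := resAut hVi with hβdef
  have hβr : β ^ r = 1 := resAut_pow_eq_one hVi hαbr
  let φ : H ⧸ C →* MulAut V := MulAut.conjNormal
  have hφc : ∀ x : H ⧸ C, β * φ x * β⁻¹ = φ (αb x) := by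
    intro x
    ext v
    obtain ⟨u, rfl⟩ : ∃ u, β u = v := ⟨β⁻¹ v, MulEquiv.apply_symm_apply β v⟩
    rw [MulAut.mul_apply, MulAut.mul_apply]
    show αb ((φ x (β⁻¹ (β u)) : V) : H ⧸ C) = _
    rw [show β⁻¹ (β u) = u from MulEquiv.symm_apply_apply β u, MulAut.conjNormal_apply,
      MulAut.conjNormal_apply]
    show αb (x * (u : H ⧸ C) * x⁻¹) = αb x * αb (u : H ⧸ C) * (αb x)⁻¹
    rw [map_mul, map_mul, map_inv]
  set Pb := (P : Subgroup H).map q with hPb
  have hPbi : Inv αb Pb := Inv.map_mk D.inv_center hP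
  set K := Pb.map φ with hK
  set Bh := zpowers β with hBh
  have hKn' : Bh ≤ normalizer (K : Set (MulAut V)) := by
    rw [hBh, zpowers_le]
    refine mem_normalizer_of_conj_mem fun y hy => ?_
    obtain ⟨x, hx, rfl⟩ := hy
    exact ⟨αb x, hPbi.apply_mem hx, (hφc x).symm⟩
  set G := K ⊔ Bh with hG
  set Fk := K.subgroupOf G with hFk
  set Hc := Bh.subgroupOf G with hHc
  have hFn : Fk.Normal := Subgroup.normal_subgroupOf_iff_le_normalizer le_sup_left |>.2
    (sup_le Subgroup.le_normalizer hKn')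
  have hKp : IsPGroup p K := (P.2.map q).map φ
  have hFp : IsPGroup p Fk := hKp.comap_of_injective G.subtype G.subtype_injective
  have : Group.IsNilpotent Fk := hFp.isNilpotent
  let ρ : Representation (ZMod 2) G (Additive V) :=
    { toFun := fun g => (MonoidHom.toAdditive ((g : MulAut V) : V →* V)).toZModLinearMap 2
      map_one' := LinearMap.ext fun v => rfl
      map_mul' := fun g h => LinearMap.ext fun v => rfl }
  have hρ : ∀ (g : G) (v : Additive V), ρ g v = Additive.ofMul ((g : MulAut V) v.toMul) := fun g v => rfl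
  have hFH : ∀ a : G, ∃ h ∈ Hc, ∃ c ∈ Fk, a = h * c := by
    intro a
    have htop : Hc ⊔ Fk = ⊤ := by
      rw [hHc, hFk, ← Subgroup.subgroupOf_sup le_sup_right le_sup_left, sup_comm]
      exact Subgroup.subgroupOf_self G
    have ha : a ∈ ((Hc ⊔ Fk : Subgroup G) : Set G) := htop.symm.le (mem_top a)
    rw [Subgroup.mul_normal Hc Fk] at ha
    obtain ⟨h, hh, c, hc, rfl⟩ := ha
    exact ⟨h, hh, c, hc, rfl⟩
  have hfree_inj : ∀ h ∈ Hc, h ≠ 1 → ∀ s ∈ Fk, h * s = s * h → s = 1 := by
    intro h hh hh1 s hs hcomm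
    obtain ⟨j, hj⟩ := (Submonoid.mem_powers_iff _ _).1 (mem_powers_iff_mem_zpowers.2 (mem_subgroupOf.1 hh))
    obtain ⟨x, hx, hxs⟩ := mem_subgroupOf.1 hs
    obtain ⟨xx, hxx, rfl⟩ := hx
    have hjr : β ^ (j % r) = β ^ j := (pow_eq_pow_mod j hβr).symm
    have hj0 : 0 < j % r := by
      refine Nat.pos_of_ne_zero fun h0 => hh1 (Subtype.ext ?_)
      rw [← hj, ← hjr, h0, pow_zero, Subgroup.coe_one]
    have hconj : ∀ i : ℕ, β ^ i * φ (q xx) * (β ^ i)⁻¹ = φ ((αb ^ i) (q xx)) := by
      intro i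
      induction i with
      | zero => simp
      | succ i ih =>
        rw [pow_succ', pow_succ', mul_inv_rev, MulAut.mul_apply, ← hφc, ← ih]
        group
    have hc' : φ ((αb ^ (j % r)) (q xx)) = φ (q xx) := by
      rw [← hconj, hjr, hj, hxs, mul_inv_eq_iff_eq_mul]
      exact congrArg Subtype.val hcomm
    -- `φ` is faithful on the image of `P`
    have hfaith : ∀ y ∈ Pb, φ y = 1 → y = 1 := by
      rintro _ ⟨y, hy, rfl⟩ hφy
      refine (QuotientGroup.eq_one_iff y).2 ?_
      rw [hPC y hy (mem_centralizer_iff.2 fun e he => (hcop y hy e he ?_).symm)]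
      · exact C.one_mem
      · have h1 := congrArg (fun f : MulAut V => ((f ⟨q e, mem_map_of_mem q he⟩ : V) : H ⧸ C)) hφy
        simp only [φ, MulAut.conjNormal_apply, MulAut.one_apply] at h1
        refine (QuotientGroup.eq_one_iff _).1 ?_
        show q (y * e * y⁻¹ * e⁻¹) = 1
        rw [map_mul, map_mul, map_mul, map_inv, map_inv, h1, mul_inv_cancel]
    have hpow_mem : ∀ i : ℕ, (αb ^ i) (q xx) ∈ Pb := by
      intro i
      induction i with
      | zero => exact mem_map_of_mem q hxx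
      | succ i ih => rw [pow_succ', MulAut.mul_apply]; exact hPbi.apply_mem ih
    have h2 : (αb ^ (j % r)) (q xx) = q xx := by
      refine inv_mul_eq_one.1 (hfaith _ (Pb.mul_mem (Pb.inv_mem (hpow_mem _)) (mem_map_of_mem q hxx)) ?_)
      rw [map_mul, map_inv, hc', inv_mul_cancel]
    have h3 : αb (q xx) = q xx :=
      apply_eq_of_pow_fixed D.hr hαbr hj0 (Nat.mod_lt _ D.hr.pos) h2
    have h4 : xx⁻¹ * D.α xx ∈ C := QuotientGroup.eq.1 h3.symm
    have h5 : D.α xx = xx := by
      have h6 : D.α (xx⁻¹ * D.α xx) = xx⁻¹ * D.α xx := D.center_fixed h4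
      exact (inv_mul_eq_one.1 (fixed_displacement_eq_one D.hr D.hαr D.hrH h6)).symm
    have h7 : xx = 1 :=
      mem_bot.1 (D.sylow_fpf hP hE ▸ (⟨hxx, h5⟩ : xx ∈ (P : Subgroup H) ⊓ fixedSub D.α))
    refine Subtype.ext ?_
    rw [← hxs, h7, map_one, map_one, Subgroup.coe_one]
  have hnofix : ∀ v : Additive V, (∀ s ∈ Fk, ρ s v = v) → v = 0 := by
    intro v hv
    obtain ⟨e, he, hev⟩ := v.toMul.2
    refine congrArg Additive.ofMul (Subtype.ext ?_ : v.toMul = (1 : V))
    rw [← hev, Subgroup.coe_one]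
    refine (QuotientGroup.eq_one_iff e).2 (hPfix e he fun x hx => hcop x hx e he ?_)
    have hxK : φ (q x) ∈ K := mem_map_of_mem φ (mem_map_of_mem q hx)
    have h1 := hv ⟨φ (q x), mem_sup_left hxK⟩ hxK
    have h2 : q x * q e * (q x)⁻¹ = q e := by
      have := congrArg (fun w : Additive V => ((w.toMul : V) : H ⧸ C)) h1
      rw [hρ, toMul_ofMul] at this
      simp only [φ, MulAut.conjNormal_apply] at this
      rwa [← hev] at this
    refine (QuotientGroup.eq_one_iff _).1 ?_
    show q (x * e * x⁻¹ * e⁻¹) = 1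
    rw [map_mul, map_mul, map_mul, map_inv, map_inv, h2, mul_inv_cancel]
  have hFcard : (Nat.card Fk : ZMod 2) ≠ 0 := by
    rw [Ne, ZMod.natCast_eq_zero_iff_even, even_iff_two_dvd]
    obtain ⟨j, hj⟩ := IsPGroup.iff_card.1 hFp
    rw [hj]
    exact fun h => D.hp2 (((Nat.prime_dvd_prime_iff_eq Nat.prime_two hp).1 (Nat.prime_two.dvd_of_dvd_pow h)).symm)
  obtain ⟨U, hU, hdim⟩ := CfsgLib.FrobeniusFree.free_of_no_fixed (k := ZMod 2) _ ρ Fk Fk Hc rfl le_rfl
    hFH hfree_inj hFcard hnofix
  -- cardinalities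
  set Ff := V ⊓ fixedSub αb with hFf
  have hmovV : moved αb V = T.map q := moved_map_mk D.inv_center E
  have hcardle : Nat.card V ≤ 2 ^ (2 * n) * Nat.card Ff := by
    rw [← hTb, ← Nat.card_prod]
    refine Nat.card_le_card_of_surjective
      (fun u : T.map q × Ff => (⟨(u.1 : H ⧸ C) * u.2, V.mul_mem (Subgroup.map_mono hTE u.1.2) u.2.2.1⟩ : V))
      fun v => ?_
    obtain ⟨m, hm, c, hc, he⟩ := exists_eq_moved_mul_fixed D.hr hαbr hrQ hVi v.2
    rw [hmovV] at hm
    exact ⟨(⟨m, hm⟩, ⟨c, hc⟩), Subtype.ext he.symm⟩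
  have hordβ : orderOf β = r := by
    have : Fact r.Prime := ⟨D.hr⟩
    refine orderOf_eq_prime hβr fun h => ?_
    have h1 : moved αb V = ⊥ := moved_eq_bot_iff.2 fun v hv => by
      have h' := congrArg Subtype.val (DFunLike.congr_fun h ⟨v, hv⟩)
      exact h'
    rw [hmovV] at h1
    rw [h1, Subgroup.card_bot] at hTb
    exact absurd hTb.symm (Nat.ne_of_gt (Nat.one_lt_pow (by omega) one_lt_two))
  have hHccard : Nat.card Hc = r := by
    rw [Nat.card_congr (Subgroup.subgroupOfEquivOfLe (le_sup_right : Bh ≤ G)).toEquiv, hBh,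
      Nat.card_zpowers, hordβ]
  have : Fintype Hc := Fintype.ofFinite _
  set Nn : Module.End (ZMod 2) (Additive V) := ∑ h : Hc, ρ (h : G) with hNn
  have hNmap : ∀ v, Nn v ∈ U.map Nn := by
    intro v
    have hv : v ∈ ⨆ h : Hc, U.map (ρ (h : G)) := hU.symm ▸ Submodule.mem_top
    refine Submodule.iSup_induction _ (motive := fun v => Nn v ∈ U.map Nn) hv ?_ ?_ ?_
    · rintro h _ ⟨u, hu, rfl⟩
      refine ⟨u, hu, ?_⟩
      rw [hNn, LinearMap.sum_apply, LinearMap.sum_apply]
      refine (Fintype.sum_bijective (fun g : Hc => g * h) (Group.mulRight_bijective h) _ _ fun g => ?_).symm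
      rw [Subgroup.coe_mul, map_mul]; rfl
    · rw [map_zero]; exact Submodule.zero_mem _
    · intro a b ha hb; rw [map_add]; exact Submodule.add_mem _ ha hb
  have hFle : Nat.card Ff ≤ 2 ^ Module.finrank (ZMod 2) U := by
    have h1 : Nat.card (U.map Nn) ≤ 2 ^ Module.finrank (ZMod 2) U := by
      rw [Module.natCard_eq_pow_finrank (K := ZMod 2), Nat.card_zmod]
      exact Nat.pow_le_pow_right two_pos (Submodule.finrank_map_le _ _)
    refine le_trans (Nat.card_le_card_of_injective
      (fun f : Ff => (⟨Additive.ofMul (⟨f, f.2.1⟩ : V), ?_⟩ : U.map Nn)) ?_) h1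
    · set v : Additive V := Additive.ofMul (⟨f, f.2.1⟩ : V)
      have hfix : ∀ h : Hc, ρ (h : G) v = v := by
        intro h
        obtain ⟨j, hj⟩ := (Submonoid.mem_powers_iff _ _).1 (mem_powers_iff_mem_zpowers.2 (mem_subgroupOf.1 h.2))
        rw [hρ, ← hj]
        refine congrArg Additive.ofMul (Subtype.ext ?_)
        show ((((resAut hVi) ^ j) ⟨(f : H ⧸ C), f.2.1⟩ : V) : H ⧸ C) = f
        rw [resAut_pow_coe, pow_apply_of_fixed (show αb (f : H ⧸ C) = f from f.2.2)]
      have hv : Nn v = v := by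
        rw [hNn, LinearMap.sum_apply, Finset.sum_congr rfl fun h _ => hfix h, Finset.sum_const,
          Finset.card_univ, ← Nat.card_eq_fintype_card, hHccard, hrn]
        have : Even (2 ^ n) := (Nat.even_pow).2 ⟨even_two, by omega⟩
        obtain ⟨i, hi⟩ := this
        rw [hi, ← two_mul, add_smul, mul_comm, mul_smul, h2V, smul_zero, zero_add, one_smul]
      exact hv ▸ hNmap v
    · intro f g h
      exact Subtype.ext (congrArg (fun w : U.map Nn => (((w : Additive V).toMul : V) : H ⧸ C)) h)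
  have hVcard : Nat.card V = 2 ^ Module.finrank (ZMod 2) (Additive V) := by
    rw [← Nat.card_congr (Additive.ofMul (α := V)).symm, Module.natCard_eq_pow_finrank (K := ZMod 2),
      Nat.card_zmod]
  set w := Module.finrank (ZMod 2) U with hw
  rw [hHccard] at hdim
  have hineq : r * w ≤ 2 * n + w := by
    have h1 := hcardle.trans (Nat.mul_le_mul_left _ hFle)
    rw [hVcard, ← pow_add] at h1
    exact hdim.trans ((Nat.pow_le_pow_iff_right one_lt_two).1 h1)
  have hw0 : w ≠ 0 := fun h0 => by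
    have hU0 : U = ⊥ := Submodule.finrank_eq_zero.1 h0
    rw [hU0] at hU
    simp only [Submodule.map_bot, iSup_bot] at hU
    have : Subsingleton (Additive V) := (Submodule.subsingleton_iff _).1 (subsingleton_of_bot_eq_top hU)
    refine hE.not_central fun e he => (QuotientGroup.eq_one_iff e).1 ?_
    exact congrArg (fun v : Additive V => ((v.toMul : V) : H ⧸ C))
      (Subsingleton.elim (Additive.ofMul (⟨q e, mem_map_of_mem q he⟩ : V)) 0)
  have h2n : 2 * n ≤ 2 ^ n := by
    clear_value w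
    clear * - hn
    induction n, hn using Nat.le_induction with
    | base => norm_num
    | succ n hn ih =>
      rw [pow_succ]
      have : 2 ≤ 2 ^ n := Nat.le_self_pow (by omega) 2
      omega
  have hw1 : w = 1 := by
    rw [hrn] at hineq
    rcases Nat.lt_or_ge w 2 with h | h
    · omega
    · have := Nat.mul_le_mul_left (2 ^ n) h
      have : 1 ≤ 2 ^ n := Nat.one_le_two_pow
      nlinarith
  rw [hw1, pow_one] at hFle
  rcases eq_or_ne Ff ⊥ with hF0 | hF0
  · rw [hF0, Subgroup.card_bot, mul_one, hVcard, Nat.pow_le_pow_iff_right one_lt_two] at hcardle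
    rw [hw1, mul_one] at hdim
    omega
  obtain ⟨v0, hv0, hv01⟩ := SetLike.exists_of_lt (bot_lt_iff_ne_bot.2 hF0)
  have hFall : ∀ c ∈ Ff, c = 1 ∨ c = v0 := by
    intro c hc
    by_contra h
    push Not at h
    have h3 : ({1, ⟨v0, hv0⟩, ⟨c, hc⟩} : Finset Ff).card = 3 := Finset.card_eq_three.2
      ⟨_, _, _, fun e => hv01 (mem_bot.2 (congrArg Subtype.val e).symm),
        fun e => h.1 (congrArg Subtype.val e).symm, fun e => h.2 (congrArg Subtype.val e).symm, rfl⟩
    have : Fintype Ff := Fintype.ofFinite _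
    have h4 := Finset.card_le_univ ({1, ⟨v0, hv0⟩, ⟨c, hc⟩} : Finset Ff)
    rw [← Nat.card_eq_fintype_card] at h4
    omega
  obtain ⟨e0, he0, he0v⟩ := hv0.1
  have hfe : D.α e0 = e0 := by
    have h1 : e0⁻¹ * D.α e0 ∈ C := QuotientGroup.eq.1 (by
      have : αb v0 = v0 := hv0.2
      rw [← he0v] at this
      exact this.symm)
    exact (inv_mul_eq_one.1 (fixed_displacement_eq_one D.hr D.hαr D.hrH (D.center_fixed h1))).symm
  have he0T : T ≤ centralizer ({e0} : Set H) := by
    refine (closure_le _).2 ?_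
    rintro _ ⟨y, hy, rfl⟩
    rw [SetLike.mem_coe, mem_centralizer_singleton_iff]
    have hc := hE.comm e0 he0 y hy
    have h1 : ⁅e0, D.α y⁆ = ⁅e0, y⁆ := by
      have h := map_commutatorElement D.α.toMonoidHom e0 y
      rw [show D.α.toMonoidHom ⁅e0, y⁆ = ⁅e0, y⁆ from D.center_fixed hc,
        show D.α.toMonoidHom e0 = e0 from hfe] at h
      exact h.symm
    have e1 : e0 * y * e0⁻¹ = ⁅e0, y⁆ * y := by rw [commutatorElement_def]; group
    have e2 : e0 * D.α y * e0⁻¹ = ⁅e0, y⁆ * D.α y := by rw [← h1, commutatorElement_def]; group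
    have h3 : e0 * (y⁻¹ * D.α y) * e0⁻¹ = y⁻¹ * D.α y := by
      calc e0 * (y⁻¹ * D.α y) * e0⁻¹ = (e0 * y * e0⁻¹)⁻¹ * (e0 * D.α y * e0⁻¹) := by group
        _ = _ := by rw [e1, e2]; group
    exact (mul_inv_eq_iff_eq_mul.1 h3).symm
  have he0Z : ∀ f ∈ E, f * e0 = e0 * f := by
    intro f hf
    obtain ⟨m, hm, c, hc, he⟩ := exists_eq_moved_mul_fixed D.hr hαbr hrQ hVi (mem_map_of_mem q hf)
    rw [hmovV] at hm
    obtain ⟨t, ht, rfl⟩ := hm
    obtain ⟨e', he', rfl⟩ : ∃ e', (e' = 1 ∨ e' = e0) ∧ q e' = c := by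
      rcases hFall c hc with rfl | rfl
      · exact ⟨1, Or.inl rfl, map_one q⟩
      · exact ⟨e0, Or.inr rfl, he0v⟩
    have hz : (t * e')⁻¹ * f ∈ C := QuotientGroup.eq.1 (by
      show q (t * e') = q f
      rw [map_mul]; exact he.symm)
    have hte : t * e' * e0 = e0 * (t * e') := by
      have h1 : t * e0 = e0 * t := mem_centralizer_singleton_iff.1 (he0T ht)
      rcases he' with rfl | rfl
      · rw [mul_one]; exact h1
      · rw [← mul_assoc, ← h1]
    have : f = t * e' * ((t * e')⁻¹ * f) := by group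
    rw [this, mul_assoc, ← mem_center_iff.1 hz e0, ← mul_assoc, hte, mul_assoc]
  set K0 := E ⊓ centralizer (E : Set H) with hK0
  have hK0i : Inv D.α K0 := hE.inv.inf hE.inv.centralizer
  have hK0n : K0.Normal := inferInstance
  have hK0lt : K0 < E := lt_of_le_of_ne inf_le_left fun h => hnab fun x hx y hy =>
    mem_centralizer_iff.1 (h.symm.le hy).2 x hx
  refine hv01 (mem_bot.2 ?_)
  rw [← he0v]
  exact (QuotientGroup.eq_one_iff e0).2 (hE.min K0 hK0n hK0i hK0lt
    ⟨he0, mem_centralizer_iff.2 fun f hf => he0Z f hf⟩)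

/-- Proper normal invariant subgroups are central. -/
theorem normal_le_center {N : Subgroup H} [hN : N.Normal] (hinv : Inv D.α N) (hne : N ≠ ⊤) :
    N ≤ center H := by
  by_contra hnc
  obtain ⟨P, hP⟩ := D.exists_invariant_sylow_p
  obtain ⟨E, hE⟩ := D.exists_extraNormal hinv hne hnc P hP
  exact D.extraNormal_false hP hE

end Min

end CfsgLib.FlavellHHS
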