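import Cfsg.Agent.Lib.FlavellHHS.Min
import Cfsg.Agent.Lib.FlavellFpf.SolvE

/-!
A non-central normal invariant subgroup of a minimal counterexample yields a normal `2`-subgroup `E`
with `H = E P`, where `P` is elementary abelian and `α` acts fixed point freely on it.
-/

set_option autoImplicit false
set_option linter.unusedSectionVars false

namespace CfsgLib.FlavellHHS

open Subgroup CfsgLib.CoprimeCentral CfsgLib.FlavellFpf
open scoped commutatorElement IsMulCommutative

namespace Min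

variable {H : Type*} [Group H] [Finite H] {k : Type*} [Field k] [IsAlgClosed k] {W : Type*}
  [AddCommGroup W] [Module k W] [FiniteDimensional k W] {p r : ℕ} (D : Min k H W p r)

/-- A normal invariant `2`-subgroup which is minimal non-central. -/
structure ExtraNormal (P : Sylow p H) (E : Subgroup H) : Prop where
  normal : E.Normal
  inv : Inv D.α E
  two : IsPGroup 2 E
  ne_top : E ≠ ⊤
  sup : E ⊔ (P : Subgroup H) = ⊤
  not_central : ¬ E ≤ center H
  min : ∀ K : Subgroup H, K.Normal → Inv D.α K → K < E → K ≤ center H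
  sq : ∀ x ∈ E, x * x ∈ center H
  comm : ∀ x ∈ E, ∀ y ∈ E, ⁅x, y⁆ ∈ center H

include D in
theorem not_dvd_two {E : Subgroup H} (hE : IsPGroup 2 E) : ¬ p ∣ Nat.card E := fun h => by
  have : Fact (Nat.Prime 2) := ⟨Nat.prime_two⟩
  obtain ⟨j, hj⟩ := IsPGroup.iff_card.1 hE
  rw [hj] at h
  exact D.hp2 ((Nat.prime_dvd_prime_iff_eq D.hp Nat.prime_two).1 (D.hp.dvd_of_dvd_pow h))

/-- The moved part of an invariant `p`-subgroup `Q` with `E Q ≠ H` centralizes the normal `2`-subgroup `E`. -/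
theorem moved_le_cent {E Q : Subgroup H} [hEn : E.Normal] (hEi : Inv D.α E) (hE : IsPGroup 2 E)
    (hQi : Inv D.α Q) (hQp : IsPGroup p Q) (htop : E ⊔ Q ≠ ⊤) :
    moved D.α Q ≤ centralizer (E : Set H) := by
  have := D.fact_p
  have : Fact (Nat.Prime 2) := ⟨Nat.prime_two⟩
  obtain ⟨R, hRM, hRp, hn, hsq⟩ := D.IH _ (hEi.sup hQi) htop
  have hQR : moved D.α Q ≤ R :=
    le_of_pTwo D.hp2 hsq (hQp.to_le (moved_le hQi)) (moved_mono le_sup_right)
  refine hQR.trans fun x hx => mem_centralizer_iff.2 fun e he => ?_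
  have hnorm : e * x * e⁻¹ ∈ R := by
    have hM := le_normalizer_moved (α := D.α) (E ⊔ Q) (mem_sup_left he)
    refine le_of_pTwo D.hp2 hsq (hRp.map (MulAut.conj e).toMonoidHom) ?_ ⟨x, hx, rfl⟩
    rintro _ ⟨y, hy, rfl⟩
    exact (mem_normalizer_iff.1 hM y).1 (hRM hy)
  have h1 : e * x * e⁻¹ * x⁻¹ ∈ E ⊓ R := by
    refine mem_inf.2 ⟨?_, R.mul_mem hnorm (R.inv_mem hx)⟩
    rw [mul_assoc, mul_assoc, ← mul_assoc x]
    exact E.mul_mem he (hEn.conj_mem _ (E.inv_mem he) x)
  rw [eq_bot_of_two_and_p D.hp2 (hRp.to_le inf_le_right) (hE.to_le inf_le_left), mem_bot, mul_inv_eq_one,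
    mul_inv_eq_iff_eq_mul] at h1
  exact h1

theorem centralizer_ne_top {E : Subgroup H} (hEc : ¬ E ≤ center H) : centralizer (E : Set H) ≠ ⊤ :=
  fun h => hEc fun e he => mem_center_iff.2 fun g =>
    (mem_centralizer_iff.1 (h.symm.le (mem_top g)) e he).symm

/-- A `p`-subgroup centralizing `E` has trivial moved part. -/
theorem fixed_of_le_cent {E Q : Subgroup H} [hEn : E.Normal] (hEi : Inv D.α E) (hEc : ¬ E ≤ center H)
    (hQi : Inv D.α Q) (hQp : IsPGroup p Q) (hQc : moved D.α Q ≤ centralizer (E : Set H)) :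
    Q ≤ fixedSub D.α := by
  have := D.fact_p
  have : Fact (Nat.Prime 2) := ⟨Nat.prime_two⟩
  have h2 : IsPGroup 2 (moved D.α (centralizer (E : Set H))) :=
    D.moved_normal_two hEi.centralizer (centralizer_ne_top hEc)
  refine moved_eq_bot_iff.1 (eq_bot_of_two_and_p D.hp2 (hQp.to_le (moved_le hQi)) (h2.to_le ?_))
  rw [← moved_moved D.hr D.hαr D.hrH hQi]
  exact moved_mono hQc

theorem sup_eq_top {E : Subgroup H} [hEn : E.Normal] (hEi : Inv D.α E) (hE : IsPGroup 2 E)
    (hEc : ¬ E ≤ center H) {P : Sylow p H} (hP : Inv D.α (P : Subgroup H)) : E ⊔ (P : Subgroup H) = ⊤ := by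
  by_contra htop
  exact D.not_sylow_fixed hP (D.fixed_of_le_cent hEi hEc hP P.2 (D.moved_le_cent hEi hE hP P.2 htop))

theorem exists_extraNormal {N : Subgroup H} [hN : N.Normal] (hinv : Inv D.α N) (hne : N ≠ ⊤)
    (hnc : ¬ N ≤ center H) (P : Sylow p H) (hP : Inv D.α (P : Subgroup H)) :
    ∃ E, D.ExtraNormal P E := by
  classical
  have := D.fact_p
  have : Fact (Nat.Prime 2) := ⟨Nat.prime_two⟩
  set O := (Cfsg.pCore 2 N).map N.subtype with hO
  have hOn : O.Normal := ConjAct.normal_of_characteristic_of_normal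
  have hOi : Inv D.α O := hinv.of_characteristic _
  have hOp : IsPGroup 2 O := CfsgLib.PCore.pCore_isPGroup.map _
  have hTO : moved D.α N ≤ O := by
    intro x hx
    refine ⟨⟨x, moved_le hinv hx⟩, ?_, rfl⟩
    refine CfsgLib.PCore.le_pCore (N := (moved D.α N).subgroupOf N) ?_ ?_ hx
    · exact Subgroup.normal_subgroupOf_iff_le_normalizer (moved_le hinv) |>.2 (le_normalizer_moved N)
    · exact (D.moved_normal_two hinv hne).comap_of_injective N.subtype N.subtype_injective
  have hOc : ¬ O ≤ center H := fun h => hnc (D.fixed_normal_le_center (moved_eq_bot_iff.1 (by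
    have h1 := moved_eq_bot_iff.2 (show moved D.α N ≤ fixedSub D.α from fun x hx => D.center_fixed (h (hTO hx)))
    rwa [moved_moved D.hr D.hαr D.hrH hinv] at h1)))
  obtain ⟨E, hE⟩ := Set.Finite.exists_minimal
    (Set.toFinite {K : Subgroup H | K.Normal ∧ Inv D.α K ∧ IsPGroup 2 K ∧ K ≤ N ∧ ¬ K ≤ center H})
    ⟨O, hOn, hOi, hOp, Subgroup.map_subtype_le _, hOc⟩
  obtain ⟨⟨hEn, hEi, hE2, hEN, hEc⟩, hmin⟩ := hE
  have hmin' : ∀ K : Subgroup H, K.Normal → Inv D.α K → K < E → K ≤ center H := by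
    intro K hKn hKi hlt
    by_contra hK
    exact hlt.not_ge (hmin ⟨hKn, hKi, hE2.to_le hlt.le, hlt.le.trans hEN, hK⟩ hlt.le)
  have hEtop : E ≠ ⊤ := fun h => hne (top_unique (h.symm.le.trans hEN))
  -- the Frattini subgroup of `E` is central
  have hΦ : (frattini E).map E.subtype ≤ center H := by
    refine hmin' _ ConjAct.normal_of_characteristic_of_normal (hEi.of_characteristic _) ?_
    refine lt_of_le_of_ne (Subgroup.map_subtype_le _) fun h => ?_
    have h1 : frattini E = ⊤ := by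
      apply Subgroup.map_injective E.subtype_injective
      rw [h, ← MonoidHom.range_eq_map, Subgroup.range_subtype]
    have : Nontrivial E := (Subgroup.nontrivial_iff_ne_bot E).2 fun h0 => hEc (h0.le.trans bot_le)
    obtain ⟨M, hM, -⟩ := (eq_top_or_exists_le_coatom (⊥ : Subgroup E)).resolve_left bot_ne_top
    exact hM.1 (top_unique (h1.symm.le.trans (frattini_le_coatom hM)))
  refine ⟨E, ⟨hEn, hEi, hE2, hEtop, ?_, hEc, hmin', fun x hx => ?_, fun x hx y hy => ?_⟩⟩
  · exact D.sup_eq_top hEi hE2 hEc hP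
  · refine hΦ ⟨⟨x, hx⟩ ^ 2, CfsgLib.PGroup.pow_mem_frattini hE2 _, ?_⟩
    rw [pow_two]; rfl
  · exact hΦ ⟨⁅(⟨x, hx⟩ : E), ⟨y, hy⟩⁆, CfsgLib.PGroup.commutator_le_frattini hE2
      (commutator_mem_commutator (mem_top _) (mem_top _)), rfl⟩

end Min

end CfsgLib.FlavellHHS
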